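import Cfsg.Agent.Lib.ThreeTrans.OddPair.Disconn

/-!
Owner: helper5. A configuration of Suzuki type in a minimal subgroup: the action of the members of the triple that
commute with its middle member on the group of the two sets.
-/

set_option autoImplicit false
set_option linter.unusedSectionVars false
set_option linter.style.haveILetI false

namespace CfsgLib.ThreeTrans.OddPair

open Subgroup Cfsg

universe u

variable {G : Type u} [Group G]

/-- Classes of members stay in `W`. -/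
def ClosedClass (D : Set G) (W : Subgroup G) : Prop :=
  ∀ v ∈ D, v ∈ W → ∀ e ∈ sameCommutingClass D v, e ∈ W

/-- No configuration of Suzuki type in `W`. -/
def NoCfg (D : Set G) (W : Subgroup G) : Prop :=
  ∀ d a r s : G, d ∈ D → a ∈ D → r ∈ D → s ∈ D → d ∈ W → a ∈ W → r ∈ W → s ∈ W → ¬ Commute d a →
    Commute r d → Commute r a → Commute s a → ¬ Commute s r → ¬ Commute s d → Three D d a

/-- A configuration of Suzuki type in a subgroup without smaller ones. -/
structure Cfg (D : Set G) (W : Subgroup G) (d a c t : G) : Prop where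
  dD : d ∈ D
  aD : a ∈ D
  cD : c ∈ D
  tD : t ∈ D
  dW : d ∈ W
  aW : a ∈ W
  cW : c ∈ W
  tW : t ∈ W
  da : ¬ Commute d a
  cd : Commute c d
  ca : Commute c a
  ta : Commute t a
  tc : ¬ Commute t c
  td : ¬ Commute t d
  three : ¬ Three D d a
  closed : ClosedClass D W
  ih : ∀ V : Subgroup G, V < W → ClosedClass D V → NoCfg D V

/-- The members of the triple commuting with `a`. -/
def PU (D : Set G) (a t d : G) : Set G := {m | m ∈ clsIn (Kp D a t d) d ∧ Commute m a}

/-- The members commuting with `a`, `d`, `c` and not with `t`. -/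
def Bset (D : Set G) (W : Subgroup G) (d a c t : G) : Set G :=
  {b | b ∈ D ∧ b ∈ W ∧ Commute b a ∧ Commute b d ∧ Commute b c ∧ ¬ Commute b t}

namespace Cfg

variable {D : Set G} {W : Subgroup G} {d a c t : G}

section Basics

variable [Finite G] (hG : Deg D) (h : Cfg D W d a c t)
include hG h

theorem ad : ¬ Commute a d := fun e => h.da e.symm

theorem three_ad : ¬ Three D a d := fun e => h.three (three_symm hG.hD e)

theorem triple : Rk D (Kp D a t d) (clsIn (Kp D a t d) d) (QuotientGroup.mk' (pCore 2 (Kp D a t d))) :=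
  (hG.rk_triple h.aD h.tD h.dD h.ta.symm (h.ad hG) h.td).1

theorem isoSuzuki : Cfsg.Lie.IsoSuzuki (Kp D a t d ⧸ pCore 2 (Kp D a t d)) :=
  (hG.rk_triple_iso h.aD h.tD h.dD h.ta.symm (h.ad hG) h.td).2.resolve_left fun hL =>
    h.three_ad hG ((hG.three_triple h.aD h.tD h.dD h.ta.symm (h.ad hG) h.td).2 hL)

theorem class_mem_a : ∀ e ∈ sameCommutingClass D a, e ∈ PU D a t d := fun e he =>
  ⟨(hG.triple_mem (f := t) h.aD h.dD (h.ad hG)).1 e he, class_commute h.aD he (self_mem_class h.aD)⟩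

theorem class_mem_t : ∀ e ∈ sameCommutingClass D t, e ∈ PU D a t d := fun e he => by
  have := (hG.triple_mem (f := a) h.tD h.dD h.td).1 e he
  rw [Deg.Kp_comm t a d] at this
  exact ⟨this, ((class_iff he h.aD).2 h.ta.symm).symm⟩

theorem a_mem : a ∈ PU D a t d := h.class_mem_a hG a (self_mem_class h.aD)

theorem t_mem : t ∈ PU D a t d := h.class_mem_t hG t (self_mem_class h.tD)

theorem mem_D {m : G} (hm : m ∈ PU D a t d) : m ∈ D := (h.triple hG).memD m hm.1

theorem mem_H {m : G} (hm : m ∈ PU D a t d) : m ∈ Kp D a t d := (h.triple hG).mem m hm.1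

theorem H_le : Kp D a t d ≤ W := by
  rw [Kp, closure_le]
  rintro e ((he | he) | rfl)
  exacts [h.closed a h.aD h.aW e he, h.closed t h.tD h.tW e he, h.dW]

theorem clique {m m' : G} (hm : m ∈ PU D a t d) (hm' : m' ∈ PU D a t d) : Commute m m' :=
  (h.triple hG).commute_trans hG.hD hm.1 (h.a_mem hG).1 hm'.1 hm.2 hm'.2.symm

theorem not_com_d {m : G} (hm : m ∈ PU D a t d) : ¬ Commute m d := fun e =>
  h.ad hG ((h.triple hG).commute_trans hG.hD (h.a_mem hG).1 hm.1 (self_mem_clsIn _ d) hm.2.symm e)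

theorem class_mem {m : G} (hm : m ∈ PU D a t d) : ∀ e ∈ sameCommutingClass D m, e ∈ PU D a t d := by
  intro e he
  obtain ⟨⟨g, hg, rfl⟩, hma⟩ := hm
  refine ⟨?_, ((class_iff he h.aD).2 hma.symm).symm⟩
  have h1 := class_conj hG.hD g⁻¹ he
  rw [show g⁻¹ * (g * d * g⁻¹) * g⁻¹⁻¹ = d by group] at h1
  have h2 := clsIn_conj ((hG.triple_mem (f := t) h.aD h.dD (h.ad hG)).2 _ h1) hg
  rwa [show g * (g⁻¹ * e * g⁻¹⁻¹) * g⁻¹ = e by group] at h2

theorem conj_mem {g : G} (hg : g ∈ Kp D a t d) (hga : Commute (g * a * g⁻¹) a) {m : G} (hm : m ∈ PU D a t d) :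
    g * m * g⁻¹ ∈ PU D a t d :=
  ⟨clsIn_conj hm.1 hg, (h.triple hG).commute_trans hG.hD (clsIn_conj hm.1 hg) (clsIn_conj (h.a_mem hG).1 hg)
    (h.a_mem hG).1 ((conj_iff g).2 hm.2) hga⟩

theorem conj_mem_closure {g : G} (hg : g ∈ Kp D a t d) (hga : Commute (g * a * g⁻¹) a) {w : G}
    (hw : w ∈ closure (PU D a t d)) : g * w * g⁻¹ ∈ closure (PU D a t d) := by
  induction hw using closure_induction with
  | mem m hm => exact Subgroup.subset_closure (h.conj_mem hG hg hga hm)
  | one => simp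
  | mul u v _ _ iu iv => rw [show g * (u * v) * g⁻¹ = g * u * g⁻¹ * (g * v * g⁻¹) by group]; exact mul_mem iu iv
  | inv u _ iu => rw [show g * u⁻¹ * g⁻¹ = (g * u * g⁻¹)⁻¹ by group]; exact inv_mem iu

theorem closure_commute {w w' : G} (hw : w ∈ closure (PU D a t d)) (hw' : w' ∈ closure (PU D a t d)) :
    Commute w w' := by
  have h1 : ∀ m ∈ PU D a t d, Commute m w' := fun m hm => by
    induction hw' using closure_induction with
    | mem m' hm' => exact h.clique hG hm hm'
    | one => exact Commute.one_right _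
    | mul u v _ _ iu iv => exact iu.mul_right iv
    | inv u _ iu => exact iu.inv_right
  induction hw using closure_induction with
  | mem m hm => exact h1 m hm
  | one => exact Commute.one_left _
  | mul u v _ _ iu iv => exact iu.mul_left iv
  | inv u _ iu => exact iu.inv_left

theorem closure_sq {w : G} (hw : w ∈ closure (PU D a t d)) : w * w = 1 := by
  induction hw using closure_induction with
  | mem m hm => exact sq_one hG.hD (h.mem_D hG hm)
  | one => simp
  | mul u v hu hv iu iv => rw [(h.closure_commute hG hv hu).mul_mul_mul_comm, iu, iv, one_mul]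
  | inv u _ iu => rw [← mul_inv_rev, iu, inv_one]

/-- The smaller subgroup. -/
theorem ih_centralizer : ClosedClass D (W ⊓ centralizer {a}) ∧ NoCfg D (W ⊓ centralizer {a}) := by
  have hcl : ClosedClass D (W ⊓ centralizer {a}) := fun v hv hvW e he => by
    obtain ⟨h1, h2⟩ := Subgroup.mem_inf.1 hvW
    exact Subgroup.mem_inf.2 ⟨h.closed v hv h1 e he, mem_centralizer_singleton_iff.2
      ((class_iff he h.aD).2 (mem_centralizer_singleton_iff.1 h2 : Commute v a).symm).symm⟩
  refine ⟨hcl, h.ih _ (lt_of_le_not_ge inf_le_left fun hle => h.da ?_) hcl⟩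
  exact mem_centralizer_singleton_iff.1 (Subgroup.mem_inf.1 (hle h.dW)).2

/-- Members commuting with `a` and with `c` commute with all of `Bset`. -/
theorem com_bset {m : G} (hm : m ∈ PU D a t d) (hmc : Commute m c) {b : G} (hb : b ∈ Bset D W d a c t) :
    Commute m b := by
  obtain ⟨hbD, hbW, hba, -, hbc, hbt⟩ := hb
  by_contra hn
  have mem : ∀ {v : G}, v ∈ W → Commute v a → v ∈ W ⊓ centralizer {a} := fun h1 h2 =>
    Subgroup.mem_inf.2 ⟨h1, mem_centralizer_singleton_iff.2 h2⟩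
  have h1 := (h.ih_centralizer hG).2 t c m b h.tD h.cD (h.mem_D hG hm) hbD (mem h.tW h.ta) (mem h.cW h.ca)
    (mem (h.H_le hG (h.mem_H hG hm)) hm.2) (mem hbW hba) h.tc (h.clique hG hm (h.t_mem hG)) hmc hbc
    (fun e => hn e.symm) hbt
  refine h.three_ad hG ((hG.three_iff h.aD h.tD h.dD h.ta.symm (h.ad hG) h.td).2 ?_)
  refine three_symm hG.hD ((hG.three_iff h.cD h.dD h.tD h.cd (fun e => h.tc e.symm) fun e => h.td e.symm).1 ?_)
  exact three_symm hG.hD h1

theorem three_tc : ¬ Three D t c := fun h1 =>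
  h.three_ad hG ((hG.three_iff h.aD h.tD h.dD h.ta.symm (h.ad hG) h.td).2
    (three_symm hG.hD ((hG.three_iff h.cD h.dD h.tD h.cd (fun e => h.tc e.symm) fun e => h.td e.symm).1
      (three_symm hG.hD h1))))

theorem three_mc {m : G} (hm : m ∈ PU D a t d) (hmc : ¬ Commute m c) : ¬ Three D m c := fun h1 =>
  h.three_tc hG ((hG.three_iff h.tD (h.mem_D hG hm) h.cD (h.clique hG (h.t_mem hG) hm) h.tc hmc).2 h1)

theorem class_c_mem : ∀ e ∈ sameCommutingClass D c, e ∈ Bset D W d a c t := fun e he =>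
  ⟨he.1, h.closed c h.cD h.cW e he, ((class_iff he h.aD).2 h.ca.symm).symm, ((class_iff he h.dD).2 h.cd.symm).symm,
    class_commute h.cD he (self_mem_class h.cD), fun e' => h.tc ((class_iff he h.tD).1 e'.symm)⟩

end Basics

section Action

variable [Finite G] (hG : Deg D) (h : Cfg D W d a c t)
include hG h

/-- **The action on the group of the two sets.** -/
theorem action :
    ∃ A₀ : Subgroup G, (∀ w, w ∈ A₀ ↔ w ∈ closure (PU D a t d) ∧ Moves w c) ∧
      (∀ b ∈ Bset D W d a c t, ∀ b' ∈ Bset D W d a c t, Commute b b') ∧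
      (∀ m ∈ PU D a t d, ∀ g : G, g ∈ Kp D a t d → Commute (g * a * g⁻¹) a →
        (∀ e ∈ sameCommutingClass D c, Commute g e) → g * m * g⁻¹ * m ∈ A₀) ∧
      (∀ w ∈ closure (PU D a t d), ∃ k ∈ closure (sameCommutingClass D t), k * w ∈ A₀) ∧
      (∀ w ∈ closure (PU D a t d), Moves w c → ∀ b ∈ Bset D W d a c t, Commute (w * c * w⁻¹) b) := by
  have hD := hG.hD
  have mem : ∀ {v : G}, v ∈ W → Commute v a → v ∈ W ⊓ centralizer {a} := fun h1 h2 =>
    Subgroup.mem_inf.2 ⟨h1, mem_centralizer_singleton_iff.2 h2⟩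
  set Ps : Set G := {m | m ∈ PU D a t d ∧ ¬ Commute m c} with hPs
  set Bs := Bset D W d a c t with hBs
  have hcB : c ∈ Bs := h.class_c_mem hG c (self_mem_class h.cD)
  obtain ⟨K, hK, hmemK, hR, hS⟩ := hG.rk_two_sets (h.ih_centralizer hG).1 (h.ih_centralizer hG).2 h.cD
    (mem h.cW h.ca) h.tD (mem h.tW h.ta) (fun e => h.tc e.symm) (fun e => h.three_tc hG (three_symm hD e))
    (B := Bs) (P := Ps) hcB ⟨h.t_mem hG, h.tc⟩ (fun b hb => ⟨hb.1, mem hb.2.1 hb.2.2.1⟩)
    (fun m hm => ⟨h.mem_D hG hm.1, mem (h.H_le hG (h.mem_H hG hm.1)) hm.1.2⟩)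
    (fun b hb => ⟨hb.2.2.2.2.1, hb.2.2.2.2.2⟩) (fun m hm => ⟨h.clique hG hm.1 (h.t_mem hG), hm.2⟩)
  set π := QuotientGroup.mk' (twoZCore K)
  have inC : ∀ {v : G}, v ∈ Bs ∪ Ps → v ∈ clsIn K c := fun {v} hv =>
    hmemK v hv v (self_mem_class (hv.elim (fun hb => hb.1) fun hm => h.mem_D hG hm.1))
  have hcC : c ∈ clsIn K c := inC (Or.inl hcB)
  have htP : t ∈ Ps := ⟨h.t_mem hG, h.tc⟩
  have htC : t ∈ clsIn K c := inC (Or.inr htP)
  -- the members commuting with `c` centralise the classes of `Bs` and `Ps`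
  set Z : Set G := {m | m ∈ PU D a t d ∧ Commute m c} with hZ
  have hdec : ∀ w ∈ closure (PU D a t d), ∃ k ∈ closure Ps, ∃ z ∈ closure Z, w = k * z := by
    have hPsle : closure Ps ≤ closure (PU D a t d) := Subgroup.closure_mono fun m hm => hm.1
    have hZle : closure Z ≤ closure (PU D a t d) := Subgroup.closure_mono fun m hm => hm.1
    intro w hw
    induction hw using closure_induction with
    | mem m hm =>
      by_cases hmc : Commute m c
      · exact ⟨1, one_mem _, m, Subgroup.subset_closure ⟨hm, hmc⟩, (one_mul _).symm⟩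
      · exact ⟨m, Subgroup.subset_closure ⟨hm, hmc⟩, 1, one_mem _, (mul_one _).symm⟩
    | one => exact ⟨1, one_mem _, 1, one_mem _, (mul_one _).symm⟩
    | mul u v _ _ iu iv =>
      obtain ⟨k, hk, z, hz, rfl⟩ := iu
      obtain ⟨k', hk', z', hz', rfl⟩ := iv
      exact ⟨k * k', mul_mem hk hk', z * z', mul_mem hz hz',
        (h.closure_commute hG (hZle hz) (hPsle hk')).mul_mul_mul_comm k z'⟩
    | inv u _ iu =>
      obtain ⟨k, hk, z, hz, rfl⟩ := iu
      exact ⟨k⁻¹, inv_mem hk, z⁻¹, inv_mem hz, by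
        rw [mul_inv_rev, ((h.closure_commute hG (hPsle hk) (hZle hz)).inv_inv).symm.eq]⟩
  have hzb : ∀ z ∈ closure Z, ∀ b ∈ Bs, Commute z b := by
    intro z hz b hb
    induction hz using closure_induction with
    | mem m hm => exact h.com_bset hG hm.1 hm.2 hb
    | one => exact Commute.one_left _
    | mul u v _ _ iu iv => exact iu.mul_left iv
    | inv u _ iu => exact iu.inv_left
  have hkK : ∀ k ∈ closure Ps, k ∈ K := fun k hk =>
    (closure_le K).2 (fun m hm => hR.mem m (inC (Or.inr hm))) hk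
  have himg : ∀ k (hk : k ∈ closure Ps), π ⟨k, hkK k hk⟩ * π ⟨k, hkK k hk⟩ = 1 ∧
      Commute (π ⟨k, hkK k hk⟩) (π ⟨t, hR.mem t htC⟩) := fun k hk =>
    hR.block_img hD htC (fun m hm => ⟨inC (Or.inr hm), h.clique hG hm.1 htP.1⟩) hk (hkK k hk)
  have hmoves : ∀ k (hk : k ∈ closure Ps), ∀ z ∈ closure Z, (Moves (k * z) c ↔ π ⟨k, hkK k hk⟩ = 1) := by
    intro k hk z hz
    have e : k * z * c * (k * z)⁻¹ = k * c * k⁻¹ := by
      rw [mul_assoc k z c, (hzb z hz c hcB).eq]; group
    rw [Moves, e]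
    exact hR.moves_iff hD htC hcC (fun e' => h.tc e'.symm) (hkK k hk) (himg k hk).1 (himg k hk).2
  let A₀ : Subgroup G :=
    { carrier := {w | w ∈ closure (PU D a t d) ∧ Moves w c}
      one_mem' := ⟨one_mem _, by simp [Moves]⟩
      mul_mem' := by
        rintro u v ⟨hu, mu⟩ ⟨hv, mv⟩
        refine ⟨mul_mem hu hv, ?_⟩
        obtain ⟨k, hk, z, hz, rfl⟩ := hdec u hu
        obtain ⟨k', hk', z', hz', rfl⟩ := hdec v hv
        have h1 := (hmoves k hk z hz).1 mu
        have h2 := (hmoves k' hk' z' hz').1 mv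
        rw [(h.closure_commute hG (Subgroup.closure_mono (fun m hm => hm.1) hz)
          (Subgroup.closure_mono (fun m hm => hm.1) hk')).mul_mul_mul_comm k z']
        refine (hmoves _ (mul_mem hk hk') _ (mul_mem hz hz')).2 ?_
        rw [show (⟨k * k', hkK _ (mul_mem hk hk')⟩ : K) = ⟨k, hkK k hk⟩ * ⟨k', hkK k' hk'⟩ from rfl, map_mul, h1,
          h2, one_mul]
      inv_mem' := by
        rintro u ⟨hu, mu⟩
        have : u⁻¹ = u := inv_eq_of_mul_eq_one_right (h.closure_sq hG hu)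
        rw [Set.mem_setOf_eq, this]
        exact ⟨hu, mu⟩ }
  have hA₀ : ∀ w, w ∈ A₀ ↔ w ∈ closure (PU D a t d) ∧ Moves w c := fun w => Iff.rfl
  -- two members with the same image
  have hsame : ∀ m ∈ Ps, ∀ m' ∈ Ps, ∀ b ∈ sameCommutingClass D c, orderOf (b * m) = 5 → orderOf (b * m') = 5 →
      m' * m ∈ A₀ := by
    intro m hm m' hm' b hb o o'
    have hbC : b ∈ clsIn K c := inC (Or.inl (h.class_c_mem hG b hb))
    have key : ∀ v (hv : v ∈ clsIn K c), orderOf (b * v) = 5 →
        orderOf (π ⟨b, hR.mem b hbC⟩ * π ⟨v, hR.mem v hv⟩) = 5 := by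
      intro v hv hbv
      haveI : Fact (Nat.Prime 5) := ⟨by norm_num⟩
      rw [← map_mul]
      refine orderOf_eq_prime ?_ fun e => ?_
      · rw [← map_pow, show ((⟨b, hR.mem b hbC⟩ : K) * ⟨v, hR.mem v hv⟩) ^ 5 = 1 from
          Subtype.ext (by show (b * v) ^ 5 = 1; rw [← hbv, pow_orderOf_eq_one]), map_one]
      · rw [map_mul] at e
        have hc' := hR.ker b hbC v hv (by
          rw [eq_inv_of_mul_eq_one_left e, inv_eq_of_mul_eq_one_right (hR.img_sq hD hv)])
        have := orderOf_dvd_of_pow_eq_one (show (b * v) ^ 2 = 1 by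
          rw [hc'.mul_pow, sq, sq, sq_one hD hb.1, sq_one hD (hR.memD v hv), mul_one])
        rw [hbv] at this
        exact absurd (Nat.le_of_dvd two_pos this) (by norm_num)
    have he := hR.partner_unique hD hS.1 hbC (inC (Or.inr hm')) (inC (Or.inr hm)) (h.clique hG hm'.1 hm.1)
      (key m' (inC (Or.inr hm')) o') (key m (inC (Or.inr hm)) o)
    have hmm : m' * m ∈ closure Ps := mul_mem (Subgroup.subset_closure hm') (Subgroup.subset_closure hm)
    refine ⟨mul_mem (Subgroup.subset_closure hm'.1) (Subgroup.subset_closure hm.1), ?_⟩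
    have := (hmoves _ hmm 1 (one_mem _)).2 (by
      rw [show (⟨m' * m, hkK _ hmm⟩ : K) = ⟨m', hR.mem m' (inC (Or.inr hm'))⟩ * ⟨m, hR.mem m (inC (Or.inr hm))⟩
        from rfl, map_mul, he, hR.img_sq hD (inC (Or.inr hm))])
    rwa [mul_one] at this
  -- a partner of exact order five in the class of `c`
  have hpart : ∀ m ∈ Ps, ∃ b ∈ sameCommutingClass D c, orderOf (b * m) = 5 := by
    intro m hm
    obtain ⟨n, b, hb, ho, hn⟩ := hG.exists_partner_exact (h.mem_D hG hm.1) h.cD hm.2 (self_mem_class (h.mem_D hG hm.1))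
    refine ⟨b, hb, ?_⟩
    rw [← orderOf_inv, mul_inv_rev, inv_eq hD hb.1, inv_eq hD (h.mem_D hG hm.1), ho]
    exact (hn.resolve_left fun e => h.three_mc hG hm.1 hm.2 e.1).2
  refine ⟨A₀, hA₀, fun b hb b' hb' => hR.commute_trans hD (inC (Or.inl hb)) hcC (inC (Or.inl hb')) hb.2.2.2.2.1
    hb'.2.2.2.2.1.symm, ?_, ?_, ?_⟩
  · intro m hm g hg hga hge
    have hgm := h.conj_mem hG hg hga hm
    have hgc : Commute g c := hge c (self_mem_class h.cD)
    by_cases hmc : Commute m c
    · have hgmc : Commute (g * m * g⁻¹) c := by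
        have := (conj_iff g).2 hmc
        rwa [hgc.eq, mul_inv_cancel_right] at this
      refine mul_mem ⟨Subgroup.subset_closure hgm, ?_⟩ ⟨Subgroup.subset_closure hm, ?_⟩
      · rw [Moves, hgmc.eq, mul_inv_cancel_right]
      · rw [Moves, hmc.eq, mul_inv_cancel_right]
    · have hgmc : ¬ Commute (g * m * g⁻¹) c := fun e => hmc ((conj_iff g).1 (by
        rwa [hgc.eq, mul_inv_cancel_right]))
      obtain ⟨b, hb, ho⟩ := hpart m ⟨hm, hmc⟩
      refine hsame m ⟨hm, hmc⟩ _ ⟨hgm, hgmc⟩ b hb ho ?_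
      have hgb : g * b * g⁻¹ = b := by rw [(hge b hb).eq, mul_inv_cancel_right]
      rw [show b * (g * m * g⁻¹) = g * b * g⁻¹ * (g * m * g⁻¹) by rw [hgb],
        show g * b * g⁻¹ * (g * m * g⁻¹) = MulAut.conj g (b * m) by simp [mul_assoc],
        MulEquiv.orderOf_eq, ho]
  · intro w hw
    induction hw using closure_induction with
    | mem m hm =>
      by_cases hmc : Commute m c
      · exact ⟨1, one_mem _, by rw [one_mul]; exact ⟨Subgroup.subset_closure hm, by
          rw [Moves, hmc.eq, mul_inv_cancel_right]⟩⟩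
      · obtain ⟨b, hb, ho⟩ := hpart m ⟨hm, hmc⟩
        obtain ⟨n, t', ht', ho', hn⟩ := hG.exists_partner_exact h.cD h.tD (fun e => h.tc e.symm) hb
        have hn5 := (hn.resolve_left fun e => h.three_tc hG (three_symm hD e.1)).2
        subst hn5
        have ht'P : t' ∈ Ps := ⟨h.class_mem_t hG t' ht', fun e => h.tc ((class_iff ht' h.cD).1 e.symm).symm⟩
        exact ⟨t', Subgroup.subset_closure ht', hsame m ⟨hm, hmc⟩ t' ht'P b hb ho ho'⟩
    | one => exact ⟨1, one_mem _, by rw [one_mul]; exact one_mem _⟩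
    | mul u v hu hv iu iv =>
      obtain ⟨k, hk, hku⟩ := iu
      obtain ⟨k', hk', hkv⟩ := iv
      have hk'A : k' ∈ closure (PU D a t d) := Subgroup.closure_mono (fun e he => h.class_mem_t hG e he) hk'
      refine ⟨k * k', mul_mem hk hk', ?_⟩
      rw [(h.closure_commute hG hk'A hu).mul_mul_mul_comm k v]
      exact mul_mem hku hkv
    | inv u hu iu =>
      obtain ⟨k, hk, hku⟩ := iu
      exact ⟨k, hk, by rwa [inv_eq_of_mul_eq_one_right (h.closure_sq hG hu)]⟩
  · intro w hw mw b hb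
    obtain ⟨k, hk, z, hz, rfl⟩ := hdec w hw
    have e : k * z * c * (k * z)⁻¹ = k * c * k⁻¹ := by
      rw [mul_assoc k z c, (hzb z hz c hcB).eq]; group
    rw [e]
    have hkc : k * c * k⁻¹ ∈ clsIn K c := hR.conj c hcC k (hkK k hk)
    exact hR.commute_trans hD hkc hcC (inC (Or.inl hb)) (e ▸ mw) hb.2.2.2.2.1.symm

end Action

end Cfg

end CfsgLib.ThreeTrans.OddPair
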