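import Cfsg.Prelude.Def_RootSubgroups
import Cfsg.Agent.Lib.Core.Cores

/-!
Owner: helper5. A group generated by a class `E` of odd transpositions with one commuting set and one further
member `x`, without normal 2-subgroup: the products inside `E` are members, and no other member commutes with `E`.
-/

set_option autoImplicit false
set_option linter.unusedSectionVars false
set_option linter.style.haveILetI false

namespace CfsgLib.ThreeTrans.OddPair

open Subgroup Cfsg

variable {G : Type*} [Group G]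

/-- The member in the middle between two involutions with product of odd order. -/
noncomputable def mid (z z' : G) : G := (z * z') ^ ((orderOf (z * z') - 1) / 2) * z

theorem mid_eq {u z : G} (hu : u * u = 1) (hz : z * z = 1) (ho : Odd (orderOf (z * u))) :
    mid z (u * z * u) = u := by
  obtain ⟨k, hk⟩ := ho
  have ht : z * (u * z * u) = (z * u) ^ 2 := by simp only [sq, mul_assoc]
  have hord : orderOf ((z * u) ^ 2) = 2 * k + 1 := by
    rw [Nat.Coprime.orderOf_pow (by rw [hk]; exact Nat.coprime_two_right.2 ⟨k, rfl⟩), hk]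
  have h1 : (z * u) ^ (2 * k) * (z * u) = 1 := by rw [← pow_succ, ← hk, pow_orderOf_eq_one]
  rw [mid, ht, hord, show (2 * k + 1 - 1) / 2 = k by omega, ← pow_mul,
    eq_inv_of_mul_eq_one_left h1, mul_inv_rev, inv_eq_of_mul_eq_one_right hu,
    inv_eq_of_mul_eq_one_right hz, mul_assoc, hz, mul_one]

theorem commute_mid {g z z' : G} (h : Commute g z) (h' : Commute g z') : Commute g (mid z z') :=
  ((h.mul_right h').pow_right _).mul_right h

/-- The hypotheses. -/
structure Pair (D E : Set G) (d x : G) : Prop where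
  hD : IsOddTranspositionSet D
  one : ∀ a ∈ D, ∀ b ∈ D, ∃ g : G, b = g * a * g⁻¹
  hd : d ∈ D
  hE : E = sameCommutingClass D d
  hx : x ∈ D
  hdx : ¬ Commute d x
  gen : closure (E ∪ {x}) = ⊤
  hO : pCore 2 G = ⊥
  two : ∃ e ∈ E, e ≠ d

variable {D : Set G}

theorem sq_one (hD : IsOddTranspositionSet D) {a : G} (ha : a ∈ D) : a * a = 1 := by
  rw [← sq, ← hD.1.orderOf_eq a ha, pow_orderOf_eq_one]

theorem inv_eq (hD : IsOddTranspositionSet D) {a : G} (ha : a ∈ D) : a⁻¹ = a :=
  inv_eq_of_mul_eq_one_right (sq_one hD ha)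

theorem ne_one (hD : IsOddTranspositionSet D) {a : G} (ha : a ∈ D) : a ≠ 1 := fun h => by
  have := hD.1.orderOf_eq a ha; rw [h, orderOf_one] at this; omega

theorem conj_mem (hD : IsOddTranspositionSet D) {a : G} (ha : a ∈ D) {g : G} (hg : g * g = 1) :
    g * a * g ∈ D := by
  simpa [inv_eq_of_mul_eq_one_right hg] using hD.1.conj_mem a ha g

theorem odd_of (hD : IsOddTranspositionSet D) {a b : G} (ha : a ∈ D) (hb : b ∈ D)
    (h : ¬ Commute a b) : Odd (orderOf (a * b)) :=
  ((hD.1.pair a ha b hb).resolve_left h).resolve_right fun h4 => hD.2 a ha b hb h4.1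

/-- Equal conjugates give equal members, unless they commute. -/
theorem eq_of_conj (hD : IsOddTranspositionSet D) {u f z : G} (hu : u ∈ D) (hf : f ∈ D) (hz : z ∈ D)
    (h : u * z * u = f * z * f) (hzu : ¬ Commute z u) : u = f := by
  have hzf : ¬ Commute z f := fun hc => hzu (by
    have h1 : u * z * u = z := by rw [h, ← hc.eq, mul_assoc, sq_one hD hf, mul_one]
    show z * u = u * z
    calc z * u = (u * z * u) * u := by rw [h1]
      _ = u * z := by rw [mul_assoc, sq_one hD hu, mul_one])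
  rw [← mid_eq (sq_one hD hu) (sq_one hD hz) (odd_of hD hz hu hzu), h,
    mid_eq (sq_one hD hf) (sq_one hD hz) (odd_of hD hz hf hzf)]

/-- A member commuting with the product of two members commutes with both. -/
theorem commute_factors (hD : IsOddTranspositionSet D) {u f z : G} (hu : u ∈ D) (hf : f ∈ D)
    (hne : u ≠ f) (hz : z ∈ D) (h : Commute z (u * f)) : Commute z u ∧ Commute z f := by
  have hconj : u * z * u = f * z * f := by
    have e := congrArg (fun t => u * t) h.eq
    simp only [← mul_assoc, sq_one hD hu, one_mul] at e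
    have e' := congrArg (fun t => t * f) e
    simp only [mul_assoc, sq_one hD hf, mul_one] at e'
    simpa [mul_assoc] using e'
  have hzu : Commute z u := by_contra fun hc => hne (eq_of_conj hD hu hf hz hconj hc)
  refine ⟨hzu, ?_⟩
  have := hzu.mul_right h
  rwa [← mul_assoc, sq_one hD hu, one_mul] at this

/-- If `a` and `b` do not commute, neither do `a b a` and `b`. -/
theorem not_commute_conj (hD : IsOddTranspositionSet D) {a b : G} (ha : a ∈ D) (hb : b ∈ D)
    (h : ¬ Commute a b) : ¬ Commute (a * b * a) b := fun hc => by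
  have h4 : (a * b) ^ 4 = 1 := by
    have : (a * b * a * b) * (a * b * a * b) = 1 := by
      calc (a * b * a * b) * (a * b * a * b) = (a * b * a) * (b * (a * b * a)) * b := by simp only [mul_assoc]
        _ = (a * b * a) * ((a * b * a) * b) * b := by rw [hc.eq]
        _ = (a * b * a * (a * b * a)) * (b * b) := by simp only [mul_assoc]
        _ = a * (b * ((a * a) * (b * a))) := by rw [sq_one hD hb, mul_one]; simp only [mul_assoc]
        _ = a * ((b * b) * a) := by rw [sq_one hD ha, one_mul]; simp only [mul_assoc]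
        _ = 1 := by rw [sq_one hD hb, one_mul, sq_one hD ha]
    rw [← this]
    simp only [pow_succ, pow_zero, one_mul, mul_assoc]
  have h1 : orderOf (a * b) ∣ 2 ^ 2 := orderOf_dvd_of_pow_eq_one h4
  obtain ⟨i, -, hi⟩ := (Nat.dvd_prime_pow Nat.prime_two).1 h1
  have ho := odd_of hD ha hb h
  rw [hi] at ho
  obtain rfl : i = 0 := by
    by_contra h0
    exact Nat.not_even_iff_odd.2 ho ((Nat.even_pow).2 ⟨even_two, h0⟩)
  rw [pow_zero, orderOf_eq_one_iff] at hi
  obtain rfl : a = b := by rw [eq_inv_of_mul_eq_one_left hi, inv_eq hD hb]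
  exact h (Commute.refl _)

/-- A member which is the product of two commuting members commutes with what either commutes with. -/
theorem commute_of_product (hD : IsOddTranspositionSet D) {u f z : G} (hu : u ∈ D) (hf : f ∈ D)
    (hg : u * f ∈ D) (hc : Commute u f) (hz : z ∈ D) (hzu : Commute z u) : Commute z f := by
  by_contra hzf
  have hzg : ¬ Commute z (u * f) := fun h => hzf (by
    have := hzu.mul_right h
    rwa [← mul_assoc, sq_one hD hu, one_mul] at this)
  obtain ⟨k, hk⟩ := odd_of hD hz hg hzg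
  have hcomm : Commute u (z * f) := hzu.symm.mul_right hc
  have e : z * (u * f) = u * (z * f) := by rw [← mul_assoc, hzu.eq, mul_assoc]
  have h1 : (u * (z * f)) ^ (2 * k + 1) = 1 := by rw [← e, ← hk, pow_orderOf_eq_one]
  rw [hcomm.mul_pow, pow_succ, pow_mul, sq, sq_one hD hu, one_pow, one_mul] at h1
  have h2 : u = ((z * f) ^ (2 * k + 1))⁻¹ := eq_inv_of_mul_eq_one_left h1
  have h3 : orderOf u ∣ orderOf (z * f) := by
    rw [h2, orderOf_inv]
    exact orderOf_pow_dvd _
  rw [hD.1.orderOf_eq u hu] at h3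
  exact Nat.not_even_iff_odd.2 (odd_of hD hz hf hzf) (even_iff_two_dvd.2 h3)

/-- The middle between a member and its image under an involution. -/
theorem mid_spec (hD : IsOddTranspositionSet D) {z p : G} (hz : z ∈ D) (hp : p * p = 1)
    (hy : ¬ Commute (p * z * p) z) :
    mid z (p * z * p) ∈ D ∧ Commute (mid z (p * z * p)) p ∧ Commute (p * mid z (p * z * p)) z := by
  have hzz := sq_one hD hz
  have hzi := inv_eq hD hz
  have hpi : p⁻¹ = p := inv_eq_of_mul_eq_one_right hp
  obtain ⟨k, hk⟩ := odd_of hD hz (conj_mem hD hz hp) fun e => hy e.symm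
  rw [mid, show (orderOf (z * (p * z * p)) - 1) / 2 = k by omega]
  set y := p * z * p with hydef
  set t := z * y with htdef
  have hyy : y * y = 1 := sq_one hD (conj_mem hD hz hp)
  have hyz : y = z * t := by rw [htdef, ← mul_assoc, hzz, one_mul]
  have ht : t ^ (2 * k + 1) = 1 := by rw [← hk, pow_orderOf_eq_one]
  have hti : t⁻¹ = y * z := by rw [htdef, mul_inv_rev, hzi, inv_eq_of_mul_eq_one_right hyy]
  have hzt : ∀ n : ℕ, z * t ^ n = (t ^ n)⁻¹ * z := by
    intro n
    have h1 : z * t * z⁻¹ = t⁻¹ := by rw [hzi, ← hyz, hti]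
    have h2 := conj_pow (i := n) (a := z) (b := t)
    rw [h1, inv_pow] at h2
    rw [h2]
    group
  have hkk : (t ^ k)⁻¹ = t ^ (k + 1) := inv_eq_of_mul_eq_one_right (by
    rw [← pow_add, show k + (k + 1) = 2 * k + 1 by omega, ht])
  refine ⟨?_, ?_, ?_⟩
  · have hj : t ^ (k * (k + 1)) * z * (t ^ (k * (k + 1)))⁻¹ = t ^ k * z := by
      rw [mul_assoc, ← inv_pow, hti, ← hti]
      have h3 : z * (t ^ (k * (k + 1)))⁻¹ = t ^ (k * (k + 1)) * z := by
        have h4 := hzt (k * (k + 1))
        calc z * (t ^ (k * (k + 1)))⁻¹ = z * ((t ^ (k * (k + 1)))⁻¹ * z) * z⁻¹ := by group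
          _ = z * (z * t ^ (k * (k + 1))) * z⁻¹ := by rw [h4]
          _ = t ^ (k * (k + 1)) * z := by rw [← mul_assoc z z, hzz, one_mul, hzi]
      rw [inv_pow, h3, ← mul_assoc, ← pow_add,
        show k * (k + 1) + k * (k + 1) = (2 * k + 1) * k + k by ring, pow_add, pow_mul, ht, one_pow, one_mul]
    rw [← hj]
    exact hD.1.conj_mem z hz _
  · have hpt : p * t * p⁻¹ = t⁻¹ := by
      rw [hti, htdef, hydef, hpi]
      simp only [mul_assoc, hp, mul_one]
    have hk1 : p * t ^ k * p⁻¹ = (t ^ k)⁻¹ := by rw [← conj_pow, hpt, inv_pow]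
    have hmm : p * (t ^ k * z) * p⁻¹ = t ^ k * z := by
      calc p * (t ^ k * z) * p⁻¹ = (p * t ^ k * p⁻¹) * (p * z * p⁻¹) := by group
        _ = (t ^ k)⁻¹ * y := by rw [hk1, hpi]
        _ = (t ^ k)⁻¹ * z * t := by rw [hyz, mul_assoc]
        _ = z * t ^ (k + 1) := by rw [← hzt, mul_assoc, ← pow_succ]
        _ = z * (t ^ k)⁻¹ := by rw [hkk]
        _ = z * ((t ^ k)⁻¹ * z) * z⁻¹ := by group
        _ = z * (z * t ^ k) * z⁻¹ := by rw [hzt]
        _ = t ^ k * z := by rw [← mul_assoc z z, hzz, one_mul, hzi]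
    exact (show p * (t ^ k * z) = t ^ k * z * p by
      calc p * (t ^ k * z) = p * (t ^ k * z) * p⁻¹ * p := by group
        _ = _ := by rw [hmm]).symm
  · have hmz : (t ^ k * z) * z = y * (t ^ k * z) := by
      have e1 : (t ^ (k + 1))⁻¹ = t ^ k := by rw [← hkk, inv_inv]
      rw [mul_assoc, hzz, mul_one, hyz, mul_assoc, ← mul_assoc t, ← pow_succ', ← mul_assoc, hzt,
        mul_assoc, hzz, mul_one, e1]
    show p * (t ^ k * z) * z = z * (p * (t ^ k * z))
    calc p * (t ^ k * z) * z = p * (y * (t ^ k * z)) := by rw [mul_assoc, hmz]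
      _ = z * (p * (t ^ k * z)) := by
        simp only [hydef, ← mul_assoc, hp, one_mul]

namespace Pair

variable {E : Set G} {d x : G} (h : Pair D E d x)
include h

theorem mem_iff {e : G} : e ∈ E ↔ e ∈ D ∧ ∀ z ∈ D, (Commute z e ↔ Commute z d) := by
  rw [h.hE]
  refine ⟨fun he => ⟨he.1, fun z hz => ?_⟩, fun he => ⟨he.1, ?_⟩⟩
  · have := Set.ext_iff.1 he.2 z
    exact ⟨fun hc => (this.2 ⟨hz, hc⟩).2, fun hc => (this.1 ⟨hz, hc⟩).2⟩
  · ext z
    exact ⟨fun hc => ⟨hc.1, (he.2 z hc.1).2 hc.2⟩, fun hc => ⟨hc.1, (he.2 z hc.1).1 hc.2⟩⟩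

theorem d_mem : d ∈ E := h.mem_iff.2 ⟨h.hd, fun _ _ => Iff.rfl⟩

theorem mem_D {e : G} (he : e ∈ E) : e ∈ D := (h.mem_iff.1 he).1

theorem commute_d {e : G} (he : e ∈ E) : Commute e d :=
  ((h.mem_iff.1 he).2 d h.hd).2 (Commute.refl d) |>.symm

theorem commute_E {e f : G} (he : e ∈ E) (hf : f ∈ E) : Commute e f :=
  ((h.mem_iff.1 hf).2 e (h.mem_D he)).2 (h.commute_d he)

theorem not_commute_x {e : G} (he : e ∈ E) : ¬ Commute e x := fun hc =>
  h.hdx (((h.mem_iff.1 he).2 x h.hx).1 hc.symm).symm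

theorem commute_all {z : G} (hz : z ∈ D) (hzd : Commute z d) : ∀ e ∈ E, Commute z e :=
  fun _ he => ((h.mem_iff.1 he).2 z hz).2 hzd

theorem mem_center {w : G} (hE : ∀ e ∈ E, Commute w e) (hx : Commute w x) : w ∈ center G := by
  have hle : (⊤ : Subgroup G) ≤ centralizer {w} := by
    rw [← h.gen, closure_le]
    rintro y (hy | rfl)
    · exact mem_centralizer_singleton_iff.2 (hE y hy).symm
    · exact mem_centralizer_singleton_iff.2 hx.symm
  exact mem_center_iff.2 fun g => mem_centralizer_singleton_iff.1 (hle (mem_top g))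

theorem central_one [Finite G] {w : G} (hw : w * w = 1) (hE : ∀ e ∈ E, Commute w e)
    (hx : Commute w x) : w = 1 := by
  haveI : Fact (Nat.Prime 2) := ⟨Nat.prime_two⟩
  have hc := h.mem_center hE hx
  haveI : (zpowers w).Normal := ⟨fun n hn g => by
    rw [mem_center_iff.1 ((zpowers_le.2 hc) hn) g, mul_inv_cancel_right]; exact hn⟩
  have hle : zpowers w ≤ pCore 2 G := CfsgLib.Core.le_pCore (by
    intro y
    obtain ⟨i, hi⟩ := mem_zpowers_iff.1 y.2
    refine ⟨1, Subtype.ext ?_⟩
    show (y : G) ^ (2 ^ 1) = 1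
    rw [← hi, pow_one, ← zpow_natCast, ← zpow_mul, mul_comm, zpow_mul, zpow_natCast, sq, hw, one_zpow])
  rw [h.hO] at hle
  exact Subgroup.mem_bot.1 (hle (mem_zpowers w))

/-- A product of two members of `E` outside `D` maps `x` to a member commuting with it. -/
theorem commute_of_not_mem [Finite G] {a b : G} (ha : a ∈ E) (hb : b ∈ E) (hne : a ≠ b)
    (hab : a * b ∉ D) : Commute (a * b * x * (a * b)) x := by
  have hc := h.commute_E ha hb
  have hp : a * b * (a * b) = 1 := by
    rw [mul_assoc, ← mul_assoc b, ← hc.eq, mul_assoc a b b, sq_one h.hD (h.mem_D hb), mul_one,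
      sq_one h.hD (h.mem_D ha)]
  set p := a * b with hpdef
  by_contra hy
  have hyD : p * x * p ∈ D := conj_mem h.hD h.hx hp
  set m := mid x (p * x * p) with hm
  obtain ⟨hmD, hpm, hmx⟩ := mid_spec h.hD h.hx hp hy
  obtain ⟨h1, h2⟩ := commute_factors h.hD (h.mem_D ha) (h.mem_D hb) hne hmD hpm
  have hmE := h.commute_all hmD (((h.mem_iff.1 ha).2 _ hmD).1 h1)
  have hw : p * m = 1 := h.central_one (by
      rw [mul_assoc, ← mul_assoc m, hpm.eq, mul_assoc p m m, sq_one h.hD hmD, mul_one, hp])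
    (fun e he => ((h.commute_E ha he).mul_left (h.commute_E hb he)).mul_left (hmE e he)) hmx
  exact hab (by rw [eq_inv_of_mul_eq_one_left hw, inv_eq h.hD hmD]; exact hmD)

end Pair

end CfsgLib.ThreeTrans.OddPair
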