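import Cfsg.Agent.Lib.ThreeTrans.OddPair.Rank

/-!
Owner: helper5. Two commuting members and one outside both: the two pairs have the same type, the same trivially acting
products in the block of the third member, and congruent members.
-/

set_option autoImplicit false
set_option linter.unusedSectionVars false
set_option linter.style.haveILetI false

namespace CfsgLib.ThreeTrans.OddPair

open Subgroup Cfsg

universe u

variable {G : Type u} [Group G]

/-- The group of two classes. -/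
def Xp (D : Set G) (c y : G) : Subgroup G := closure (sameCommutingClass D c ∪ sameCommutingClass D y)

/-- The group of two commuting classes and one member outside. -/
def Kp (D : Set G) (c f y : G) : Subgroup G :=
  closure (sameCommutingClass D c ∪ sameCommutingClass D f ∪ {y})

/-- Some members of the two classes have product of order three. -/
def Three (D : Set G) (c y : G) : Prop :=
  ∃ a ∈ sameCommutingClass D c, ∃ b ∈ sameCommutingClass D y, orderOf (a * b) = 3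

/-- `w` moves `c` to a member commuting with it. -/
def Moves (w c : G) : Prop := Commute (w * c * w⁻¹) c

/-- The 2-core of a subgroup. -/
noncomputable def core2 (X : Subgroup G) : Subgroup G := (pCore 2 X).map X.subtype

theorem mem_core2 {X : Subgroup G} {w : G} (hw : w ∈ X) : w ∈ core2 X ↔ (⟨w, hw⟩ : X) ∈ pCore 2 X := by
  constructor
  · rintro ⟨x, hx, e⟩
    exact (Subtype.ext e : x = ⟨w, hw⟩) ▸ hx
  · exact fun h => ⟨_, h, rfl⟩

theorem core2_inf_le {X K : Subgroup G} (hle : X ≤ K) [Finite G] : core2 K ⊓ X ≤ core2 X := by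
  rintro w ⟨hw, hwX⟩
  rw [mem_core2 hwX]
  have h : IsPGroup 2 ((pCore 2 K).comap (Subgroup.inclusion hle)) :=
    (CfsgLib.Core.isPGroup_pCore 2 K).comap_of_injective _ (Subgroup.inclusion_injective hle)
  haveI : ((pCore 2 K).comap (Subgroup.inclusion hle)).Normal := Subgroup.Normal.comap inferInstance _
  exact CfsgLib.Core.le_pCore h ((mem_core2 (hle hwX)).1 hw)

theorem three_symm {D : Set G} (hD : IsOddTranspositionSet D) {c y : G} (h : Three D c y) : Three D y c := by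
  obtain ⟨a, ha, b, hb, ho⟩ := h
  refine ⟨b, hb, a, ha, ?_⟩
  rw [← orderOf_inv, mul_inv_rev, inv_eq hD ha.1, inv_eq hD hb.1, ho]

variable [Finite G]

/-- The exact order of a product from its order modulo the 2-core. -/
theorem orderOf_exact {X : Subgroup G} {t : X} (ho : Odd (orderOf t)) {n : ℕ}
    (h : orderOf (QuotientGroup.mk' (pCore 2 X) t) = n) : orderOf t = n := by
  refine Nat.dvd_antisymm ?_ (h ▸ orderOf_map_dvd _ t)
  have hm : t ^ n ∈ pCore 2 X := (QuotientGroup.eq_one_iff _).1 (by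
    rw [QuotientGroup.mk_pow, ← h]; exact pow_orderOf_eq_one _)
  obtain ⟨k, hk⟩ := CfsgLib.Core.isPGroup_pCore 2 X ⟨_, hm⟩
  exact orderOf_dvd_of_pow_eq_one
    (RootInv.eq_one_of_odd_of_pow (ho.of_dvd_nat (orderOf_pow_dvd n)) (congrArg Subtype.val hk))

/-- With no element of order four, a 2-element squares to one. -/
theorem noFour_iter {Q : Type u} [Group Q] (h : NoFour Q) : ∀ k : ℕ, ∀ g : Q, g ^ (2 ^ k) = 1 → g ^ 2 = 1
  | 0, g, hg => by rw [pow_zero, pow_one] at hg; rw [hg, one_pow]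
  | 1, g, hg => by simpa using hg
  | k + 2, g, hg => by
    refine noFour_iter h (k + 1) g ?_
    have h4 : (g ^ (2 ^ k)) ^ 4 = 1 := by rw [← pow_mul, ← hg]; ring_nf
    rw [pow_succ, pow_mul]
    exact h _ h4

theorem TypeL.not_typeS {Q : Type u} [Group Q] (h : TypeL Q) : ¬ TypeS Q := fun h' => h'.2.1 h.2.1

namespace Deg

variable {D : Set G} (hG : Deg D)
include hG

local notation "E[" v "]" => sameCommutingClass D v

theorem class_outside {c y b : G} (hy : y ∈ D) (hcy : ¬ Commute c y) (hb : b ∈ E[c]) :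
    ¬ Commute b y := fun h => hcy ((class_iff hb hy).1 h.symm).symm

theorem Xp_eq {c y : G} (hc : c ∈ D) (hy : y ∈ D) (hcy : ¬ Commute c y) : Xp D c y = closure (E[c] ∪ {y}) :=
  (hG.closure_pair hc hy hcy).symm

/-- The pair. -/
theorem rk_pair {c y : G} (hc : c ∈ D) (hy : y ∈ D) (hcy : ¬ Commute c y) :
    Rk D (Xp D c y) (clsIn (Xp D c y) y) (QuotientGroup.mk' (pCore 2 (Xp D c y))) ∧
      (TypeL (Xp D c y ⧸ pCore 2 (Xp D c y)) ∨ TypeS (Xp D c y ⧸ pCore 2 (Xp D c y))) := by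
  refine hG.rk_of_block (B := E[c]) (self_mem_class hc) (fun b hb => hb.1) hy
    (fun b hb => hG.class_outside hy hcy hb) (hG.tri c hc) (hG.Xp_eq hc hy hcy) ?_
  intro b hb v hv
  obtain ⟨g, -, rfl⟩ := hv
  exact class_iff hb (hG.hD.1.conj_mem y hy g)

theorem pair_mem {c y : G} (hc : c ∈ D) (hy : y ∈ D) (hcy : ¬ Commute c y) :
    (∀ a ∈ E[c], a ∈ clsIn (Xp D c y) y) ∧ ∀ b ∈ E[y], b ∈ clsIn (Xp D c y) y := by
  have hX : ∀ a ∈ E[c] ∪ E[y], a ∈ Xp D c y := fun a ha => Subgroup.subset_closure ha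
  have hyX := hX y (Or.inr (self_mem_class hy))
  have h1 : ∀ a ∈ E[c], a ∈ clsIn (Xp D c y) y := fun a ha =>
    mem_clsIn_of_not_commute hG.hD (self_mem_clsIn _ y) hyX hy ha.1 (hX a (Or.inl ha))
      fun e => hG.class_outside hy hcy ha e.symm
  exact ⟨h1, fun b hb => mem_clsIn_of_not_commute hG.hD (h1 c (self_mem_class hc)) hyX hy hb.1 (hX b (Or.inr hb))
    fun e => hcy ((class_iff hb hc).1 e)⟩

theorem pair_block {c y v : G} (hc : c ∈ D) (hy : y ∈ D) (hcy : ¬ Commute c y) (hv : v ∈ D) (hvX : v ∈ Xp D c y)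
    (hvy : Commute v y) : v ∈ E[y] := by
  have hyc : ¬ Commute y c := fun e => hcy e.symm
  refine hG.mem_class_of_commute hy hc hyc hv ?_ hvy
  rw [hG.closure_pair hy hc hyc, Set.union_comm]
  exact hvX

theorem three_iff_typeL {c y : G} (hc : c ∈ D) (hy : y ∈ D) (hcy : ¬ Commute c y) :
    Three D c y ↔ TypeL (Xp D c y ⧸ pCore 2 (Xp D c y)) := by
  obtain ⟨h, ht⟩ := hG.rk_pair hc hy hcy
  obtain ⟨hEc, hEy⟩ := hG.pair_mem hc hy hcy
  constructor
  · rintro ⟨a, ha, b, hb, ho⟩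
    refine ht.resolve_right fun hS => ?_
    have haC := hEc a ha
    have hbC := hEy b hb
    have hn : ¬ Commute a b := fun e => hcy ((class_iff hb hc).1 ((class_iff ha hb.1).1 e.symm).symm)
    refine hn (h.ker a haC b hbC ?_)
    have h3 := hS.2.2.2 (QuotientGroup.mk' (pCore 2 (Xp D c y)) (⟨a, h.mem a haC⟩ * ⟨b, h.mem b hbC⟩))
      (by rw [← map_pow, show ((⟨a, h.mem a haC⟩ : Xp D c y) * ⟨b, h.mem b hbC⟩) ^ 3 = 1 from
        Subtype.ext (by show (a * b) ^ 3 = 1; rw [← ho, pow_orderOf_eq_one]), map_one])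
    rw [map_mul] at h3
    rw [eq_inv_of_mul_eq_one_left h3, inv_eq_of_mul_eq_one_right (h.img_sq hG.hD hbC)]
  · intro hL
    have hcC := hEc c (self_mem_class hc)
    have hyC := hEy y (self_mem_class hy)
    obtain ⟨b, hbC, hby, ho⟩ := h.exists_partner hG.hD hL.1 (by decide) hcC hyC hcy
    refine ⟨c, self_mem_class hc, b, hG.pair_block hc hy hcy (h.memD b hbC) (h.mem b hbC) hby, ?_⟩
    rw [← map_mul] at ho
    have hn : ¬ Commute c b := fun e => by
      have h2 : orderOf (⟨c, h.mem c hcC⟩ * ⟨b, h.mem b hbC⟩ : Xp D c y) ∣ 2 := by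
        rw [← Subgroup.orderOf_coe]
        exact orderOf_dvd_of_pow_eq_one (by
          show (c * b) ^ 2 = 1
          rw [e.mul_pow, sq, sq, sq_one hG.hD hc, sq_one hG.hD (h.memD b hbC), mul_one])
      have := (orderOf_map_dvd (QuotientGroup.mk' (pCore 2 (Xp D c y))) _).trans h2
      rw [ho] at this
      exact absurd (Nat.le_of_dvd two_pos this) (by norm_num)
    rw [show c * b = ((⟨c, h.mem c hcC⟩ * ⟨b, h.mem b hbC⟩ : Xp D c y) : G) from rfl, Subgroup.orderOf_coe]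
    exact orderOf_exact (by rw [← Subgroup.orderOf_coe]; exact odd_of hG.hD hc (h.memD b hbC) hn) ho

/-- Partners among the members, with exact order three or five. -/
theorem exists_partner_exact {c y a : G} (hc : c ∈ D) (hy : y ∈ D) (hcy : ¬ Commute c y) (ha : a ∈ E[c]) :
    ∃ (n : ℕ) (b : G), b ∈ E[y] ∧ orderOf (a * b) = n ∧
      ((Three D c y ∧ n = 3) ∨ (¬ Three D c y ∧ n = 5)) := by
  obtain ⟨h, ht⟩ := hG.rk_pair hc hy hcy
  obtain ⟨hEc, hEy⟩ := hG.pair_mem hc hy hcy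
  have key : ∀ n, Partner (Xp D c y ⧸ pCore 2 (Xp D c y)) n → Odd n → 2 < n →
      ∃ b, b ∈ E[y] ∧ orderOf (a * b) = n := by
    intro n hP hn h2
    have haC := hEc a ha
    have hyC := hEy y (self_mem_class hy)
    have hay : ¬ Commute a y := hG.class_outside hy hcy ha
    obtain ⟨b, hbC, hby, ho⟩ := h.exists_partner hG.hD hP hn haC hyC hay
    refine ⟨b, hG.pair_block hc hy hcy (h.memD b hbC) (h.mem b hbC) hby, ?_⟩
    have hnc : ¬ Commute a b := fun e => Rk.not_one_of_order hG.hD (h.img_sq hG.hD haC)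
      (h.img_sq hG.hD hbC) h2 ho ((h.commute_iff hG.hD haC hbC).2 e)
    rw [← map_mul] at ho
    rw [show a * b = ((⟨a, h.mem a haC⟩ * ⟨b, h.mem b hbC⟩ : Xp D c y) : G) from rfl, Subgroup.orderOf_coe]
    exact orderOf_exact (by rw [← Subgroup.orderOf_coe]; exact odd_of hG.hD ha.1 (h.memD b hbC) hnc) ho
  by_cases h3 : Three D c y
  · obtain ⟨b, hb, ho⟩ := key 3 ((hG.three_iff_typeL hc hy hcy).1 h3).1 (by decide) (by norm_num)
    exact ⟨3, b, hb, ho, Or.inl ⟨h3, rfl⟩⟩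
  · obtain ⟨b, hb, ho⟩ := key 5 (ht.resolve_left fun hL => h3 ((hG.three_iff_typeL hc hy hcy).2 hL)).1
      (by decide) (by norm_num)
    exact ⟨5, b, hb, ho, Or.inr ⟨h3, rfl⟩⟩

/-- Two commuting classes and a member outside both. -/
theorem rk_triple_iso {c f y : G} (hc : c ∈ D) (hf : f ∈ D) (hy : y ∈ D) (hcf : Commute c f) (hcy : ¬ Commute c y)
    (hfy : ¬ Commute f y) :
    Rk D (Kp D c f y) (clsIn (Kp D c f y) y) (QuotientGroup.mk' (pCore 2 (Kp D c f y))) ∧
      (TypeL (Kp D c f y ⧸ pCore 2 (Kp D c f y)) ∨ Cfsg.Lie.IsoSuzuki (Kp D c f y ⧸ pCore 2 (Kp D c f y))) := by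
  refine hG.rk_of_block_iso (B := E[c] ∪ E[f]) (Or.inl (self_mem_class hc))
    (Set.union_subset (fun b hb => hb.1) fun b hb => hb.1) hy ?_ ?_ rfl ?_
  · rintro b (hb | hb)
    exacts [hG.class_outside hy hcy hb, hG.class_outside hy hfy hb]
  · obtain ⟨b, hb, hbc, hcb⟩ := hG.tri c hc
    exact ⟨b, Or.inl hb, hbc, Or.inl hcb⟩
  · intro b hb v hv
    obtain ⟨g, hg, rfl⟩ := hv
    have hvD := hG.hD.1.conj_mem y hy g
    have hvX : g * y * g⁻¹ ∈ Kp D c f y :=
      mul_mem (mul_mem hg (Subgroup.subset_closure (Or.inr rfl))) (inv_mem hg)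
    rcases hb with hb | hb
    · exact class_iff hb hvD
    · rw [class_iff hb hvD]
      exact (hG.wide hc hf hy hcf.symm hcy hfy hvD hvX).symm

/-- Two commuting classes and a member outside both, by type. -/
theorem rk_triple {c f y : G} (hc : c ∈ D) (hf : f ∈ D) (hy : y ∈ D) (hcf : Commute c f) (hcy : ¬ Commute c y)
    (hfy : ¬ Commute f y) :
    Rk D (Kp D c f y) (clsIn (Kp D c f y) y) (QuotientGroup.mk' (pCore 2 (Kp D c f y))) ∧
      (TypeL (Kp D c f y ⧸ pCore 2 (Kp D c f y)) ∨ TypeS (Kp D c f y ⧸ pCore 2 (Kp D c f y))) :=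
  (hG.rk_triple_iso hc hf hy hcf hcy hfy).imp_right fun h => h.imp_right typeS_of_iso

theorem Xp_le_Kp {c f y : G} (hc : c ∈ D) (hy : y ∈ D) (hcy : ¬ Commute c y) : Xp D c y ≤ Kp D c f y := by
  rw [hG.Xp_eq hc hy hcy]
  exact Subgroup.closure_mono (Set.union_subset_union_left _ Set.subset_union_left)

omit [Finite G] hG in
theorem Kp_comm (c f y : G) : Kp D c f y = Kp D f c y := by rw [Kp, Kp, Set.union_comm E[c]]

theorem triple_mem {c f y : G} (hc : c ∈ D) (hy : y ∈ D) (hcy : ¬ Commute c y) :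
    (∀ a ∈ E[c], a ∈ clsIn (Kp D c f y) y) ∧ ∀ b ∈ E[y], b ∈ clsIn (Kp D c f y) y := by
  obtain ⟨h1, h2⟩ := hG.pair_mem hc hy hcy
  have hle : clsIn (Xp D c y) y ⊆ clsIn (Kp D c f y) y := fun a ⟨g, hg, e⟩ => ⟨g, hG.Xp_le_Kp hc hy hcy hg, e⟩
  exact ⟨fun a ha => hle (h1 a ha), fun b hb => hle (h2 b hb)⟩

theorem three_triple {c f y : G} (hc : c ∈ D) (hf : f ∈ D) (hy : y ∈ D) (hcf : Commute c f)
    (hcy : ¬ Commute c y) (hfy : ¬ Commute f y) :
    Three D c y ↔ TypeL (Kp D c f y ⧸ pCore 2 (Kp D c f y)) := by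
  obtain ⟨hK, htK⟩ := hG.rk_triple hc hf hy hcf hcy hfy
  obtain ⟨hEc, hEy⟩ := hG.triple_mem (f := f) hc hy hcy
  have hle := hG.Xp_le_Kp (f := f) hc hy hcy
  constructor
  · rintro ⟨a, ha, b, hb, ho⟩
    refine htK.resolve_right fun hS => ?_
    have haC := hEc a ha
    have hbC := hEy b hb
    have hn : ¬ Commute a b := fun e => hcy ((class_iff hb hc).1 ((class_iff ha hb.1).1 e.symm).symm)
    refine hn (hK.ker a haC b hbC ?_)
    have h3 := hS.2.2.2 (QuotientGroup.mk' (pCore 2 (Kp D c f y)) (⟨a, hK.mem a haC⟩ * ⟨b, hK.mem b hbC⟩))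
      (by rw [← map_pow, show ((⟨a, hK.mem a haC⟩ : Kp D c f y) * ⟨b, hK.mem b hbC⟩) ^ 3 = 1 from
        Subtype.ext (by show (a * b) ^ 3 = 1; rw [← ho, pow_orderOf_eq_one]), map_one])
    rw [map_mul] at h3
    rw [eq_inv_of_mul_eq_one_left h3, inv_eq_of_mul_eq_one_right (hK.img_sq hG.hD hbC)]
  · intro hL
    rw [hG.three_iff_typeL hc hy hcy]
    obtain ⟨-, ht⟩ := hG.rk_pair hc hy hcy
    refine ht.resolve_right fun hS => hS.2.1 fun q hq => ?_
    obtain ⟨g, rfl⟩ := QuotientGroup.mk'_surjective _ q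
    rw [← map_pow] at hq ⊢
    obtain ⟨k, hk⟩ := CfsgLib.Core.isPGroup_pCore 2 _ ⟨g ^ 4, (QuotientGroup.eq_one_iff _).1 hq⟩
    have hgk : (g ^ 4) ^ 2 ^ k = 1 := congrArg Subtype.val hk
    have h' : (QuotientGroup.mk' (pCore 2 (Kp D c f y)) (Subgroup.inclusion hle g)) ^ (2 ^ (k + 2)) = 1 := by
      rw [← map_pow, ← map_pow, show 2 ^ (k + 2) = 4 * 2 ^ k by ring, pow_mul, hgk, map_one, map_one]
    have h2 := noFour_iter hL.2.1 _ _ h'
    rw [← map_pow, ← map_pow] at h2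
    refine (QuotientGroup.eq_one_iff _).2 ((mem_core2 (g ^ 2).2).1 (core2_inf_le hle ⟨?_, (g ^ 2).2⟩))
    exact (mem_core2 (hle (g ^ 2).2)).2 ((QuotientGroup.eq_one_iff _).1 h2)

/-- **Same type.** -/
theorem three_iff {c f y : G} (hc : c ∈ D) (hf : f ∈ D) (hy : y ∈ D) (hcf : Commute c f)
    (hcy : ¬ Commute c y) (hfy : ¬ Commute f y) : Three D c y ↔ Three D f y := by
  rw [hG.three_triple hc hf hy hcf hcy hfy, hG.three_triple hf hc hy hcf.symm hfy hcy, Kp_comm]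

/-- In the group of two commuting classes, trivial action is read off either of them. -/
theorem moves_triple {c f y : G} (hc : c ∈ D) (hf : f ∈ D) (hy : y ∈ D) (hcf : Commute c f)
    (hcy : ¬ Commute c y) (hfy : ¬ Commute f y) {w : G} (hw : w ∈ closure E[y]) :
    Moves w c ↔ w ∈ core2 (Kp D c f y) := by
  obtain ⟨hK, -⟩ := hG.rk_triple hc hf hy hcf hcy hfy
  obtain ⟨hEc, hEy⟩ := hG.triple_mem (f := f) hc hy hcy
  have hwK : w ∈ Kp D c f y := (closure_le _).2 (fun b hb => hK.mem b (hEy b hb)) hw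
  have hyC := hEy y (self_mem_class hy)
  obtain ⟨h2, h1⟩ := hK.block_img hG.hD hyC
    (fun e he => ⟨hEy e he, class_commute hy he (self_mem_class hy)⟩) hw hwK
  rw [Moves, hK.moves_iff hG.hD hyC (hEc c (self_mem_class hc)) hcy hwK h2 h1, mem_core2 hwK]
  exact QuotientGroup.eq_one_iff _

/-- **Trivial action is the same from two commuting members.** -/
theorem moves_iff {c f y : G} (hc : c ∈ D) (hf : f ∈ D) (hy : y ∈ D) (hcf : Commute c f)
    (hcy : ¬ Commute c y) (hfy : ¬ Commute f y) {w : G} (hw : w ∈ closure E[y]) : Moves w c ↔ Moves w f := by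
  rw [hG.moves_triple hc hf hy hcf hcy hfy hw, hG.moves_triple hf hc hy hcf.symm hfy hcy hw, Kp_comm]

/-- **Congruent members.** -/
theorem exists_congr {c f y f₁ : G} (hc : c ∈ D) (hf : f ∈ D) (hy : y ∈ D) (hcf : Commute c f)
    (hcy : ¬ Commute c y) (hfy : ¬ Commute f y) (hf₁ : f₁ ∈ E[f]) :
    ∃ c₁ ∈ E[c], c₁ * f₁ ∈ core2 (Kp D c f y) := by
  obtain ⟨hK, -⟩ := hG.rk_triple hc hf hy hcf hcy hfy
  obtain ⟨hEc, hEy⟩ := hG.triple_mem (f := f) hc hy hcy
  obtain ⟨hEf, -⟩ := hG.triple_mem (f := c) hf hy hfy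
  rw [Kp_comm f c y] at hEf
  obtain ⟨n, b, hb, ho, hn⟩ := hG.exists_partner_exact hf hy hfy hf₁
  obtain ⟨n', c₁, hc₁, ho', hn'⟩ := hG.exists_partner_exact hb.1 hc
    (fun e => hcy ((class_iff hb hc).1 e.symm)) (self_mem_class hb.1)
  have h3 : Three D b c ↔ Three D f y := by
    rw [← hG.three_iff hc hf hy hcf hcy hfy]
    unfold Three
    rw [class_eq hb]
    exact ⟨three_symm hG.hD, three_symm hG.hD⟩
  have hnn : n' = n := by
    rcases hn with ⟨a1, rfl⟩ | ⟨a1, rfl⟩ <;> rcases hn' with ⟨a2, rfl⟩ | ⟨a2, rfl⟩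
    exacts [rfl, absurd (h3.2 a1) a2, absurd (h3.1 a2) a1, rfl]
  subst hnn
  have hprime : Fact n'.Prime := ⟨by
    rcases hn with ⟨-, rfl⟩ | ⟨-, rfl⟩
    exacts [Nat.prime_three, by norm_num]⟩
  set π := QuotientGroup.mk' (pCore 2 (Kp D c f y))
  have img : ∀ {a b : G} (ha : a ∈ clsIn (Kp D c f y) y) (hb : b ∈ clsIn (Kp D c f y) y), orderOf (a * b) = n' →
      orderOf (π ⟨a, hK.mem a ha⟩ * π ⟨b, hK.mem b hb⟩) = n' := by
    intro a b ha hb hab
    rw [← map_mul]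
    refine orderOf_eq_prime ?_ fun e => ?_
    · rw [← map_pow, show ((⟨a, hK.mem a ha⟩ : Kp D c f y) * ⟨b, hK.mem b hb⟩) ^ n' = 1 from
        Subtype.ext (by show (a * b) ^ n' = 1; rw [← hab, pow_orderOf_eq_one]), map_one]
    · rw [map_mul] at e
      have hc' := hK.ker a ha b hb (by rw [eq_inv_of_mul_eq_one_left e, inv_eq_of_mul_eq_one_right (hK.img_sq hG.hD hb)])
      have := orderOf_dvd_of_pow_eq_one (show (a * b) ^ 2 = 1 by
        rw [hc'.mul_pow, sq, sq, sq_one hG.hD (hK.memD a ha), sq_one hG.hD (hK.memD b hb), mul_one])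
      rw [hab] at this
      have := Nat.le_of_dvd two_pos this
      rcases hn with ⟨-, h⟩ | ⟨-, h⟩ <;> omega
  have e1 := img (hEy b hb) (hEf f₁ hf₁) (by
    rw [← orderOf_inv, mul_inv_rev, inv_eq hG.hD hf₁.1, inv_eq hG.hD hb.1, ho])
  have e2 := img (hEy b hb) (hEc c₁ hc₁) ho'
  have hP : Partner (Kp D c f y ⧸ pCore 2 (Kp D c f y)) n' := by
    obtain ⟨-, htK⟩ := hG.rk_triple hc hf hy hcf hcy hfy
    rcases hn with ⟨a1, rfl⟩ | ⟨a1, rfl⟩
    · exact ((hG.three_triple hc hf hy hcf hcy hfy).1 ((hG.three_iff hc hf hy hcf hcy hfy).2 a1)).1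
    · exact (htK.resolve_left fun hL =>
        a1 ((hG.three_iff hc hf hy hcf hcy hfy).1 ((hG.three_triple hc hf hy hcf hcy hfy).2 hL))).1
  have hcomm : Commute c₁ f₁ := (class_iff hf₁ hc₁.1).2 (((class_iff hc₁ hf).2 hcf.symm).symm)
  have heq := hK.partner_unique hG.hD hP (hEy b hb) (hEc c₁ hc₁) (hEf f₁ hf₁) hcomm e2 e1
  refine ⟨c₁, hc₁, (mem_core2 (mul_mem (hK.mem _ (hEc c₁ hc₁)) (hK.mem _ (hEf f₁ hf₁)))).2 ?_⟩
  refine (QuotientGroup.eq_one_iff _).1 ?_
  show π (⟨c₁, hK.mem _ (hEc c₁ hc₁)⟩ * ⟨f₁, hK.mem _ (hEf f₁ hf₁)⟩) = 1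
  rw [map_mul, heq, hK.img_sq hG.hD (hEf f₁ hf₁)]

end Deg

end CfsgLib.ThreeTrans.OddPair
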