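import Cfsg.Agent.Lib.ThreeTrans.OddPair.Basic

/-!
Owner: helper5. The class `E` of a pair is an elementary group without its identity, and it holds every member
commuting with one of its elements.
-/

set_option autoImplicit false
set_option linter.unusedSectionVars false
set_option linter.style.haveILetI false

namespace CfsgLib.ThreeTrans.OddPair

open Subgroup Cfsg
open scoped Pointwise

variable {G : Type*} [Group G] [Finite G]

namespace Pair

variable {D E : Set G} {d x : G} (h : Pair D E d x)
include h

theorem conj_E {g a b : G} (hga : Commute g (a * b)) (hg : g * g = 1) (ha : a ∈ E) (hb : b ∈ E)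
    (hne : a ≠ b) {e : G} (he : e ∈ E) : g * e * g ∈ E := by
  have haD := h.mem_D ha
  have hbD := h.mem_D hb
  have heD : g * e * g ∈ D := conj_mem h.hD (h.mem_D he) hg
  have key : ∀ z ∈ D, (Commute z d ↔ Commute z (a * b)) := by
    intro z hz
    refine ⟨fun hc => ((h.commute_all hz hc a ha).mul_right (h.commute_all hz hc b hb)), fun hc => ?_⟩
    exact ((h.mem_iff.1 ha).2 z hz).1 (commute_factors h.hD haD hbD hne hz hc).1
  refine h.mem_iff.2 ⟨heD, fun z hz => ?_⟩
  have hzD : g * z * g ∈ D := conj_mem h.hD hz hg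
  have hgg : ∀ t : G, g * (g * t) = t := fun t => by rw [← mul_assoc, hg, one_mul]
  have h1 : ∀ u v : G, Commute (g * u * g) v ↔ Commute u (g * v * g) := by
    intro u v
    have cj : ∀ u v : G, Commute u v → Commute (g * u * g) (g * v * g) := fun u v huv => by
      show g * u * g * (g * v * g) = g * v * g * (g * u * g)
      simp only [mul_assoc, hgg]
      rw [← mul_assoc u v, huv.eq, mul_assoc]
    have back : ∀ u : G, g * (g * u * g) * g = u := fun u => by
      simp only [mul_assoc, hgg, hg, mul_one]
    exact ⟨fun huv => by simpa [back] using cj _ _ huv, fun huv => by simpa [back] using cj _ _ huv⟩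
  have hab : g * (a * b) * g = a * b := by
    rw [hga.eq, mul_assoc, hg, mul_one]
  calc Commute z (g * e * g) ↔ Commute (g * z * g) e := (h1 z e).symm
    _ ↔ Commute (g * z * g) d := (h.mem_iff.1 he).2 _ hzD
    _ ↔ Commute (g * z * g) (a * b) := key _ hzD
    _ ↔ Commute z (g * (a * b) * g) := h1 z _
    _ ↔ Commute z (a * b) := by rw [hab]
    _ ↔ Commute z d := (key z hz).symm

/-- The products of two members of `E` outside `D`. -/
def bad (D E : Set G) : Set G := {p | ∃ a ∈ E, ∃ b ∈ E, a ≠ b ∧ a * b ∉ D ∧ p = a * b}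

omit h in
theorem bad_sq (h : Pair D E d x) {p : G} (hp : p ∈ bad D E) : p * p = 1 := by
  obtain ⟨a, ha, b, hb, -, -, rfl⟩ := hp
  rw [mul_assoc, ← mul_assoc b, ← (h.commute_E ha hb).eq, mul_assoc a b b,
    sq_one h.hD (h.mem_D hb), mul_one, sq_one h.hD (h.mem_D ha)]

theorem bad_commute_E {p : G} (hp : p ∈ bad D E) {e : G} (he : e ∈ E) : Commute p e := by
  obtain ⟨a, ha, b, hb, -, -, rfl⟩ := hp
  exact (h.commute_E ha he).mul_left (h.commute_E hb he)

theorem bad_commute {p q : G} (hp : p ∈ bad D E) (hq : q ∈ bad D E) : Commute p q := by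
  obtain ⟨a, ha, b, hb, -, -, rfl⟩ := hq
  exact (h.bad_commute_E hp ha).mul_right (h.bad_commute_E hp hb)

theorem bad_conj {p g : G} (hp : p ∈ bad D E) (hg : g * g = 1) (hE : ∀ e ∈ E, g * e * g ∈ E) :
    g * p * g ∈ bad D E := by
  obtain ⟨a, ha, b, hb, hne, hab, rfl⟩ := hp
  have back : ∀ u : G, g * (g * u * g) * g = u := fun u => by
    simp only [← mul_assoc, hg, one_mul]; rw [mul_assoc, hg, mul_one]
  have e1 : g * (a * b) * g = g * a * g * (g * b * g) := by
    simp only [mul_assoc]; rw [← mul_assoc g g, hg, one_mul]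
  refine ⟨_, hE a ha, _, hE b hb, fun e => hne ?_, fun hD' => hab ?_, e1⟩
  · have := congrArg (fun t => g * t * g) e
    simpa only [back] using this
  · have := conj_mem h.hD hD' hg
    rwa [← e1, back] at this

theorem bad_empty (p : G) : p ∉ bad D E := by
  intro hp
  haveI : Fact (Nat.Prime 2) := ⟨Nat.prime_two⟩
  have hxx := sq_one h.hD h.hx
  have hxi := inv_eq h.hD h.hx
  set W := closure (bad D E) with hW
  set cx := (MulAut.conj x).toMonoidHom with hcx
  set A := W ⊔ W.map cx with hA
  have hcxa : ∀ u : G, cx u = x * u * x := fun u => by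
    rw [hcx]; show x * u * x⁻¹ = _; rw [hxi]
  -- the involution `r` of a bad product
  have hr : ∀ q ∈ bad D E, ∃ r : G, r * r = 1 ∧ x * q * x = q * r ∧ Commute r q ∧
      (∀ e ∈ E, r * e * r ∈ E) ∧ ∀ e ∈ E, ∃ w ∈ bad D E, e * r * e = r * w := by
    intro q hq
    have hq2 := bad_sq h hq
    obtain ⟨a, ha, b, hb, hne, hab, hqe⟩ := id hq
    subst hqe
    have hy := h.commute_of_not_mem ha hb hne hab
    set q := a * b with hqdef
    set y := q * x * q with hydef
    have hyD : y ∈ D := conj_mem h.hD h.hx hq2
    have hqq : ∀ t : G, q * (q * t) = t := fun t => by rw [← mul_assoc, hq2, one_mul]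
    have hxq : ¬ Commute x q := fun hc => h.not_commute_x ha
      (commute_factors h.hD (h.mem_D ha) (h.mem_D hb) hne h.hx hc).1.symm
    have hxy : x ≠ y := fun e => hxq (show x * q = q * x by
      calc x * q = q * x * q * q := by rw [← hydef, ← e]
        _ = q * x := by rw [mul_assoc, hq2, mul_one])
    have hrr : (x * y) * (x * y) = 1 := by
      rw [mul_assoc, ← mul_assoc y, hy.eq, mul_assoc x y y, sq_one h.hD hyD, mul_one, hxx]
    have hrq : Commute (x * y) q := by
      show x * y * q = q * (x * y)
      have e1 : y * q = q * x := by rw [hydef, mul_assoc, hq2, mul_one]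
      calc x * y * q = x * (q * x) := by rw [mul_assoc, e1]
        _ = q * (y * x) := by rw [hydef]; simp only [mul_assoc, hqq]
        _ = q * (x * y) := by rw [hy.eq]
    refine ⟨x * y, hrr, ?_, hrq, fun e he => h.conj_E hrq hrr ha hb hne he, fun e he => ?_⟩
    · rw [← hy.eq, hydef]
      simp only [mul_assoc, hqq]
    · set r := x * y with hrdef
      set c := r * e * r with hcdef
      have hc : c ∈ E := h.conj_E hrq hrr ha hb hne he
      have hce : Commute c e := h.commute_E hc he
      have heq : e * r * e = r * (c * e) := by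
        rw [hcdef]; simp only [← mul_assoc, hrr, one_mul]
      have hne' : c ≠ e := fun hce' => h.not_commute_x he (by
        have hre : Commute e r := show e * r = r * e by
          calc e * r = (r * r) * (e * r) := by rw [hrr, one_mul]
            _ = r * c := by rw [hcdef]; simp only [mul_assoc]
            _ = r * e := by rw [hce']
        exact (commute_factors h.hD h.hx hyD hxy (h.mem_D he) hre).1)
      refine ⟨c * e, ⟨c, hc, e, he, hne', fun hg => ?_, rfl⟩, heq⟩
      have hgE : c * e ∈ E := by
        refine h.mem_iff.2 ⟨hg, fun z hz => ⟨fun hzg => ?_, fun hzd => ?_⟩⟩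
        · exact ((h.mem_iff.1 he).2 z hz).1 (commute_factors h.hD (h.mem_D hc) (h.mem_D he) hne' hz hzg).2
        · exact (h.commute_all hz hzd c hc).mul_right (h.commute_all hz hzd e he)
      have hgr : Commute (c * e) r := by
        show c * e * r = r * (c * e)
        rw [hce.eq]
        conv_rhs => rw [← hce.eq]
        rw [hcdef]
        simp only [← mul_assoc, hrr, one_mul]
        simp only [mul_assoc, hrr, mul_one]
      exact h.not_commute_x hgE (commute_factors h.hD h.hx hyD hxy hg hgr).1
  have hWA : W ≤ A := le_sup_left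
  have hbadA : ∀ q ∈ bad D E, q ∈ A := fun q hq => hWA (subset_closure hq)
  have hxA : ∀ q ∈ bad D E, x * q * x ∈ A := fun q hq => by
    rw [← hcxa]; exact le_sup_right (b := W.map cx) (mem_map_of_mem _ (subset_closure hq))
  -- `A` is normal
  set S : Set G := bad D E ∪ cx '' bad D E with hS
  have hAS : A = closure S := by
    rw [hA, hW, MonoidHom.map_closure, hS, Subgroup.closure_union]
  have hgenA : ∀ g : G, g ∈ E ∪ {x} → ∀ s ∈ S, g * s * g ∈ A := by
    rintro g hg s (hs | ⟨q, hq, rfl⟩)
    · rcases hg with hg | rfl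
      · rw [(h.bad_commute_E hs hg).symm.eq, mul_assoc, sq_one h.hD (h.mem_D hg), mul_one]
        exact hbadA s hs
      · exact hxA s hs
    · rw [hcxa]
      rcases hg with hg | rfl
      · obtain ⟨r, hrr, hxq, -, -, hre⟩ := hr q hq
        obtain ⟨w, hw, he⟩ := hre g hg
        have hrA : r ∈ A := by
          have : r = q * (x * q * x) := by rw [hxq, ← mul_assoc, bad_sq h hq, one_mul]
          rw [this]; exact mul_mem (hbadA q hq) (hxA q hq)
        rw [hxq, ← mul_assoc, (h.bad_commute_E hq hg).symm.eq, mul_assoc q g r, mul_assoc q, he]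
        exact mul_mem (hbadA q hq) (mul_mem hrA (hbadA w hw))
      · simp only [← mul_assoc, hxx, one_mul]
        rw [mul_assoc, hxx, mul_one]
        exact hbadA q hq
  haveI hAn : A.Normal := by
    have key : ∀ g ∈ E ∪ {x}, g ∈ normalizer (A : Set G) := by
      intro g hg
      have hg2 : g * g = 1 := by
        rcases hg with hg | rfl
        · exact sq_one h.hD (h.mem_D hg)
        · exact hxx
      have hgi : g⁻¹ = g := inv_eq_of_mul_eq_one_right hg2
      have hle : A.map (MulAut.conj g).toMonoidHom ≤ A := by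
        conv_lhs => rw [hAS]
        rw [MonoidHom.map_closure, closure_le]
        rintro _ ⟨s, hs, rfl⟩
        show g * s * g⁻¹ ∈ A
        rw [hgi]; exact hgenA g hg s hs
      refine mem_normalizer_iff.2 fun a => ⟨fun ha => hle (mem_map_of_mem _ ha), fun ha => ?_⟩
      have := hle (mem_map_of_mem (MulAut.conj g).toMonoidHom ha)
      change g * (g * a * g⁻¹) * g⁻¹ ∈ A at this
      rw [hgi] at this
      simp only [← mul_assoc, hg2, one_mul] at this
      rwa [mul_assoc, hg2, mul_one] at this
    rw [← normalizer_eq_top_iff, eq_top_iff, ← h.gen, closure_le]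
    exact key
  -- `A` is a 2-group
  have hWcomm : ∀ a ∈ W, ∀ b ∈ W, a * b = b * a := by
    intro a ha b hb
    haveI := isMulCommutative_closure (k := bad D E) fun u hu v hv => (h.bad_commute hu hv).eq
    exact congrArg Subtype.val (mul_comm' (⟨a, ha⟩ : W) ⟨b, hb⟩)
  have hWsq : ∀ a ∈ W, a * a = 1 := by
    intro a ha
    induction ha using closure_induction with
    | mem u hu => exact bad_sq h hu
    | one => exact one_mul 1
    | mul u v hu hv h1 h2 =>
      rw [mul_assoc, ← mul_assoc v, hWcomm v hv u hu, mul_assoc, h2, mul_one, h1]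
    | inv u _ h1 => rw [← mul_inv_rev, h1, inv_one]
  have hWp : IsPGroup 2 W := fun a => ⟨1, Subtype.ext (by
    show (a : G) ^ (2 ^ 1) = 1
    rw [pow_one, sq, hWsq a a.2])⟩
  have hnorm : W.map cx ≤ normalizer (W : Set G) := by
    rw [hW, MonoidHom.map_closure, closure_le]
    rintro _ ⟨q, hq, rfl⟩
    obtain ⟨r, hrr, hxq, hrq, hrE, -⟩ := hr q hq
    rw [SetLike.mem_coe, hcxa, hxq]
    refine mul_mem ?_ ?_
    · exact le_normalizer (subset_closure hq)
    · refine mem_normalizer_iff.2 fun a => ?_
      have hle : W.map (MulAut.conj r).toMonoidHom ≤ W := by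
        rw [hW, MonoidHom.map_closure, closure_le]
        rintro _ ⟨s, hs, rfl⟩
        show r * s * r⁻¹ ∈ closure (bad D E)
        rw [inv_eq_of_mul_eq_one_right hrr]
        exact subset_closure (h.bad_conj hs hrr hrE)
      refine ⟨fun ha => hle (mem_map_of_mem _ ha), fun ha => ?_⟩
      have := hle (mem_map_of_mem (MulAut.conj r).toMonoidHom ha)
      change r * (r * a * r⁻¹) * r⁻¹ ∈ W at this
      rw [inv_eq_of_mul_eq_one_right hrr] at this
      simp only [← mul_assoc, hrr, one_mul] at this
      rwa [mul_assoc, hrr, mul_one] at this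
  have hAp : IsPGroup 2 A := hWp.to_sup_of_normal_left' (hWp.map cx) hnorm
  have hle := CfsgLib.Core.le_pCore hAp
  rw [h.hO, le_bot_iff] at hle
  have h1 : p = 1 := by
    have := hbadA p hp
    rwa [hle, mem_bot] at this
  obtain ⟨a, ha, b, hb, hne, -, rfl⟩ := hp
  exact hne (by rw [eq_inv_of_mul_eq_one_left h1, inv_eq h.hD (h.mem_D hb)])

/-- The product of two different elements of `E` lies in `E`. -/
theorem mul_mem_E {a b : G} (ha : a ∈ E) (hb : b ∈ E) (hne : a ≠ b) : a * b ∈ E := by
  have hab : a * b ∈ D := by_contra fun hc => h.bad_empty _ ⟨a, ha, b, hb, hne, hc, rfl⟩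
  refine h.mem_iff.2 ⟨hab, fun z hz => ⟨fun hzc => ?_, fun hzd => ?_⟩⟩
  · exact ((h.mem_iff.1 ha).2 z hz).1 (commute_factors h.hD (h.mem_D ha) (h.mem_D hb) hne hz hzc).1
  · exact (h.commute_all hz hzd a ha).mul_right (h.commute_all hz hzd b hb)

/-- A member commuting with `d` lies in `E`. -/
theorem mem_E_of_commute {f : G} (hf : f ∈ D) (hfd : Commute f d) : f ∈ E := by
  by_contra hfE
  obtain ⟨b, hb, hbd⟩ := h.two
  have hd := h.d_mem
  have hc := h.mul_mem_E hd hb (Ne.symm hbd)
  set c := d * b with hcdef
  have hff := sq_one h.hD hf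
  set x' := f * x * f with hx'def
  have hx'D : x' ∈ D := conj_mem h.hD h.hx hff
  have hfE' := h.commute_all hf hfd
  have hux : ∀ u ∈ E, Commute (u * x' * u) x := by
    intro u hu
    have huf : Commute u f := (hfE' u hu).symm
    have huD := h.mem_D hu
    have hne : u ≠ f := fun e => hfE (e ▸ hu)
    have hw : u * f * (u * f) = 1 := by
      rw [mul_assoc, ← mul_assoc f, ← huf.eq, mul_assoc u f f, hff, mul_one, sq_one h.hD huD]
    have e1 : u * x' * u = u * f * x * (u * f) := by
      rw [hx'def]; conv_rhs => rw [huf.eq]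
      simp only [mul_assoc]; rw [← mul_assoc u f, huf.eq]; simp only [mul_assoc]
    by_contra hy
    rw [e1] at hy
    obtain ⟨hmD, hmp, hmx⟩ := mid_spec h.hD h.hx hw hy
    obtain ⟨h1, -⟩ := commute_factors h.hD huD hf hne hmD hmp
    set m := mid x (u * f * x * (u * f))
    have hmE := h.commute_all hmD (((h.mem_iff.1 hu).2 _ hmD).1 h1)
    have hw1 : u * f * m = 1 := h.central_one (by
        rw [mul_assoc, ← mul_assoc m, hmp.eq, mul_assoc (u * f) m m, sq_one h.hD hmD, mul_one, hw])
      (fun e he => ((h.commute_E hu he).mul_left (hfE' e he)).mul_left (hmE e he)) hmx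
    have hg : u * f ∈ D := by rw [eq_inv_of_mul_eq_one_left hw1, inv_eq h.hD hmD]; exact hmD
    refine hfE (h.mem_iff.2 ⟨hf, fun z hz => ⟨fun hzf => ?_, fun hzd => ?_⟩⟩)
    · exact ((h.mem_iff.1 hu).2 z hz).1
        (commute_of_product h.hD hf huD (huf.eq ▸ hg) huf.symm hz hzf)
    · exact commute_of_product h.hD huD hf hg huf hz (h.commute_all hz hzd u hu)
  have hcD := h.mem_D hc
  have hcy : ¬ Commute c (d * x' * d) := by
    intro hcc
    have hdd := sq_one h.hD h.hd
    have hcd : Commute c d := h.commute_E hc hd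
    have hcx' : Commute c x' := by
      have e : d * (d * x' * d) * d = x' := by
        simp only [← mul_assoc, hdd, one_mul]; rw [mul_assoc, hdd, mul_one]
      rw [← e]
      exact (hcd.mul_right hcc).mul_right hcd
    refine h.not_commute_x hc ?_
    have hcf : Commute c f := (hfE' c hc).symm
    have e : f * x' * f = x := by
      rw [hx'def]; simp only [← mul_assoc, hff, one_mul]; rw [mul_assoc, hff, mul_one]
    rw [← e]
    exact (hcf.mul_right hcx').mul_right hcf
  have hyD : d * x' * d ∈ D := conj_mem h.hD hx'D (sq_one h.hD h.hd)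
  have hm : mid (d * x' * d) (b * x' * b) = c := by
    have hbd' : Commute b d := h.commute_d hb
    have e : b * x' * b = c * (d * x' * d) * c := by
      have hdd := sq_one h.hD h.hd
      have hdd' : ∀ t : G, d * (d * t) = t := fun t => by rw [← mul_assoc, hdd, one_mul]
      conv_rhs => enter [1, 1]; rw [hcdef, ← hbd'.eq]
      rw [hcdef]
      simp only [mul_assoc, hdd']
    rw [e]
    exact mid_eq (sq_one h.hD hcD) (sq_one h.hD hyD) (odd_of h.hD hyD hcD fun e => hcy e.symm)
  refine h.not_commute_x hc ?_
  rw [← hm]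
  exact (commute_mid (hux d hd).symm (hux b hb).symm).symm

end Pair

end CfsgLib.ThreeTrans.OddPair
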