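import Cfsg.Agent.Lib.PGroups.Basic

/-!
Owner: helper5. A chief factor of a perfect group inside a normal 2-subgroup on which the group acts nontrivially
above a given normal subgroup; the action on such a factor.
-/

set_option autoImplicit false
set_option linter.unusedSectionVars false
set_option linter.style.haveILetI false

namespace CfsgLib.ThreeTrans.OddPair

open Subgroup
open scoped commutatorElement

universe u

variable {H : Type u} [Group H]

theorem mk_mem_center_iff (T : Subgroup H) [T.Normal] (n : H) :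
    QuotientGroup.mk' T n ∈ center (H ⧸ T) ↔ ∀ h : H, ⁅n, h⁆ ∈ T := by
  rw [mem_center_iff]
  constructor
  · intro hc h
    refine (QuotientGroup.eq_one_iff _).1 ?_
    show QuotientGroup.mk' T ⁅n, h⁆ = 1
    rw [map_commutatorElement, commutatorElement_eq_one_iff_commute]
    exact (hc (QuotientGroup.mk' T h)).symm
  · intro hc q
    obtain ⟨h, rfl⟩ := QuotientGroup.mk'_surjective T q
    have := (QuotientGroup.eq_one_iff _).2 (hc h)
    rw [show (QuotientGroup.mk ⁅n, h⁆ : H ⧸ T) = QuotientGroup.mk' T ⁅n, h⁆ from rfl, map_commutatorElement,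
      commutatorElement_eq_one_iff_commute] at this
    exact this.symm

theorem mk_mem_centralizer_iff (Z R : Subgroup H) [Z.Normal] (n : H) :
    QuotientGroup.mk' Z n ∈ centralizer (R.map (QuotientGroup.mk' Z) : Set (H ⧸ Z)) ↔ ∀ r ∈ R, ⁅n, r⁆ ∈ Z := by
  rw [mem_centralizer_iff]
  constructor
  · intro hc r hr
    refine (QuotientGroup.eq_one_iff _).1 ?_
    show QuotientGroup.mk' Z ⁅n, r⁆ = 1
    rw [map_commutatorElement, commutatorElement_eq_one_iff_commute]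
    exact ((hc _ ⟨r, hr, rfl⟩ : _).symm)
  · rintro hc _ ⟨r, hr, rfl⟩
    have := (QuotientGroup.eq_one_iff _).2 (hc r hr)
    rw [show (QuotientGroup.mk ⁅n, r⁆ : H ⧸ Z) = QuotientGroup.mk' Z ⁅n, r⁆ from rfl, map_commutatorElement,
      commutatorElement_eq_one_iff_commute] at this
    exact this.eq.symm

/-- **A chief factor with nontrivial action.** -/
theorem exists_chief [Finite H] {R T : Subgroup H} [R.Normal] [T.Normal] (hTR : T ≤ R) (hR : IsPGroup 2 R)
    (hperf : commutator H = ⊤) (hnc : ¬ ∀ r ∈ R, ∀ h : H, ⁅r, h⁆ ∈ T) :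
    ∃ N Z : Subgroup H, N.Normal ∧ Z.Normal ∧ T ≤ Z ∧ Z ≤ N ∧ N ≤ R ∧ (∃ n ∈ N, n ∉ Z) ∧
      (∀ z ∈ Z, ∀ h : H, ⁅z, h⁆ ∈ T) ∧ (∀ n ∈ N, ∀ r ∈ R, ⁅n, r⁆ ∈ Z) ∧ (∀ n ∈ N, n * n ∈ Z) ∧
      (∀ n ∈ N, (∀ h : H, ⁅n, h⁆ ∈ Z) → n ∈ Z) ∧ ∀ P : Subgroup H, P.Normal → Z ≤ P → P ≤ N → P = Z ∨ P = N := by
  haveI : Fact (Nat.Prime 2) := ⟨Nat.prime_two⟩
  obtain ⟨N, ⟨hN, hTN, hNR, hNnc⟩, hmin⟩ := (wellFounded_lt (α := Subgroup H)).has_min
    {N | N.Normal ∧ T ≤ N ∧ N ≤ R ∧ ¬ ∀ r ∈ N, ∀ h : H, ⁅r, h⁆ ∈ T} ⟨R, ‹_›, hTR, le_rfl, hnc⟩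
  set Z := N ⊓ (center (H ⧸ T)).comap (QuotientGroup.mk' T) with hZdef
  have hmemZ : ∀ z, z ∈ Z ↔ z ∈ N ∧ ∀ h : H, ⁅z, h⁆ ∈ T := fun z => by
    rw [hZdef, mem_inf, mem_comap, mk_mem_center_iff]
  haveI := hN
  haveI hZn : Z.Normal := inferInstance
  have hTZ : T ≤ Z := fun z hz => (hmemZ z).2 ⟨hTN hz, fun h => by
    rw [commutatorElement_def, mul_assoc z h, mul_assoc z]
    exact mul_mem hz (‹T.Normal›.conj_mem _ (inv_mem hz) h)⟩
  have hirr : ∀ P : Subgroup H, P.Normal → Z ≤ P → P ≤ N → P = Z ∨ P = N := by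
    intro P hP hZP hPN
    by_cases hc : ∀ r ∈ P, ∀ h : H, ⁅r, h⁆ ∈ T
    · exact Or.inl (le_antisymm (fun x hx => (hmemZ x).2 ⟨hPN hx, hc x hx⟩) hZP)
    · refine Or.inr ?_
      by_contra hne
      exact hmin P ⟨hP, hTZ.trans hZP, hPN.trans hNR, hc⟩ (lt_of_le_of_ne hPN hne)
  obtain ⟨n₀, hn₀, hn₀Z⟩ : ∃ n ∈ N, n ∉ Z := by
    by_contra hno
    push Not at hno
    exact hNnc fun r hr h => ((hmemZ r).1 (hno r hr)).2 h
  set π := QuotientGroup.mk' Z with hπ
  have hRq : IsPGroup 2 (R.map π) := hR.map π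
  -- `R` centralises the factor
  have hcR : ∀ n ∈ N, ∀ r ∈ R, ⁅n, r⁆ ∈ Z := by
    haveI : (R.map π).Normal := Subgroup.Normal.map ‹_› _ (QuotientGroup.mk'_surjective Z)
    haveI : (N.map π).Normal := Subgroup.Normal.map hN _ (QuotientGroup.mk'_surjective Z)
    set P := N ⊓ (centralizer (R.map π : Set (H ⧸ Z))).comap π with hPdef
    have hne : (N.map π).subgroupOf (R.map π) ≠ ⊥ := by
      intro e
      have h1 : (⟨π n₀, mem_map_of_mem π (hNR hn₀)⟩ : R.map π) ∈ (⊥ : Subgroup (R.map π)) := e ▸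
        (show (⟨π n₀, mem_map_of_mem π (hNR hn₀)⟩ : R.map π) ∈ (N.map π).subgroupOf (R.map π) from
          mem_map_of_mem π hn₀)
      exact hn₀Z ((QuotientGroup.eq_one_iff _).1 (congrArg Subtype.val (mem_bot.1 h1)))
    obtain ⟨⟨⟨x, hx⟩, hxN, hxC⟩, hx1⟩ :=
      ne_bot_iff_exists_ne_one.1 (CfsgLib.PGroups.inf_center_ne_bot hRq hne)
    obtain ⟨n, hn, e⟩ := mem_subgroupOf.1 hxN
    change π n = x at e
    subst e
    have hZP : Z ≤ P := fun z hz => by
      refine mem_inf.2 ⟨((hmemZ z).1 hz).1, ?_⟩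
      show π z ∈ centralizer (R.map π : Set (H ⧸ Z))
      rw [show π z = 1 from (QuotientGroup.eq_one_iff z).2 hz]
      exact one_mem _
    have hnP : n ∈ P := mem_inf.2 ⟨hn, mem_centralizer_iff.2 fun q hq =>
      congrArg Subtype.val (mem_center_iff.1 hxC ⟨q, hq⟩)⟩
    haveI hPn : P.Normal := inferInstance
    rcases hirr P hPn hZP inf_le_left with h | h
    · exact absurd ((QuotientGroup.eq_one_iff n).2 (h ▸ hnP)) fun e => hx1 (Subtype.ext (Subtype.ext e))
    · intro m hm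
      exact (mk_mem_centralizer_iff Z R m).1 (mem_inf.1 (show m ∈ P from h.symm ▸ hm)).2
  -- elementary
  have hsq : ∀ n ∈ N, n * n ∈ Z := by
    have hcomm : ∀ a ∈ N, ∀ b ∈ N, Commute (π a) (π b) := fun a ha b hb => by
      rw [← commutatorElement_eq_one_iff_commute, ← map_commutatorElement]
      exact (QuotientGroup.eq_one_iff _).2 (hcR a ha b (hNR hb))
    let P : Subgroup H :=
      { carrier := {n | n ∈ N ∧ π n * π n = 1}
        one_mem' := ⟨one_mem _, by simp⟩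
        mul_mem' := by
          rintro a b ⟨ha, ea⟩ ⟨hb, eb⟩
          exact ⟨mul_mem ha hb, by rw [map_mul, (hcomm b hb a ha).mul_mul_mul_comm, ea, eb, one_mul]⟩
        inv_mem' := by
          rintro a ⟨ha, ea⟩
          exact ⟨inv_mem ha, by rw [map_inv, ← mul_inv_rev, ea, inv_one]⟩ }
    have hPn : P.Normal := ⟨fun a ⟨ha, ea⟩ g => ⟨hN.conj_mem a ha g, by
      rw [map_mul, map_mul, map_inv, show π g * π a * (π g)⁻¹ * (π g * π a * (π g)⁻¹) = π g * (π a * π a) * (π g)⁻¹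
        by group, ea, mul_one, mul_inv_cancel]⟩⟩
    have hq : IsPGroup 2 (N.map π) := (hR.to_le hNR).map π
    obtain ⟨k, hk⟩ := hq ⟨π n₀, mem_map_of_mem π hn₀⟩
    have hk' : π n₀ ^ 2 ^ k = 1 := congrArg Subtype.val hk
    have key : ∀ j : ℕ, ∀ n ∈ N, π n ≠ 1 → π n ^ 2 ^ j = 1 → ∃ m ∈ N, π m ≠ 1 ∧ π m * π m = 1 := by
      intro j
      induction j with
      | zero => intro n _ h1 h2; simp at h2; exact absurd h2 h1
      | succ j ih =>
        intro n hn h1 h2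
        by_cases hs : π n * π n = 1
        · exact ⟨n, hn, h1, hs⟩
        · refine ih (n * n) (mul_mem hn hn) (by rwa [map_mul]) ?_
          rw [map_mul, ← sq, ← pow_mul, ← pow_succ']
          exact h2
    obtain ⟨m, hm, hm1, hm2⟩ := key k n₀ hn₀ (fun e => hn₀Z ((QuotientGroup.eq_one_iff _).1 e)) hk'
    have hZP : Z ≤ P := fun z hz => ⟨((hmemZ z).1 hz).1, by
      rw [show π z = 1 from (QuotientGroup.eq_one_iff z).2 hz, mul_one]⟩
    rcases hirr P hPn hZP (fun a ha => ha.1) with h | h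
    · exact absurd (show π m = 1 from (QuotientGroup.eq_one_iff m).2 (h ▸ (⟨hm, hm2⟩ : m ∈ P))) hm1
    · intro n hn
      refine (QuotientGroup.eq_one_iff _).1 ?_
      show π (n * n) = 1
      rw [map_mul]
      exact ((show n ∈ P from h.symm ▸ hn) : _ ∧ _).2
  -- no fixed points
  have hfix : ∀ n ∈ N, (∀ h : H, ⁅n, h⁆ ∈ Z) → n ∈ Z := by
    intro n hn hnh
    refine (hmemZ n).2 ⟨hn, fun h => ?_⟩
    set ρ := QuotientGroup.mk' T
    have hcen : ∀ g, ⁅ρ n, ρ g⁆ ∈ center (H ⧸ T) := fun g => by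
      rw [← map_commutatorElement]
      exact (mk_mem_center_iff T _).2 ((hmemZ _).1 (hnh g)).2
    let f : H →* center (H ⧸ T) :=
      ⟨⟨fun g => ⟨⁅ρ n, ρ g⁆, hcen g⟩, Subtype.ext (by simp [commutatorElement_def])⟩, fun g g' => Subtype.ext (by
        show ⁅ρ n, ρ (g * g')⁆ = ⁅ρ n, ρ g⁆ * ⁅ρ n, ρ g'⁆
        rw [map_mul, show ⁅ρ n, ρ g * ρ g'⁆ = ⁅ρ n, ρ g⁆ * (ρ g * ⁅ρ n, ρ g'⁆ * (ρ g)⁻¹) by
          simp only [commutatorElement_def]; group, mem_center_iff.1 (hcen g') (ρ g), mul_inv_cancel_right])⟩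
    have hf : h ∈ f.ker := by
      have : commutator H ≤ f.ker := by
        rw [_root_.commutator_def, commutator_le]
        intro a _ b _
        rw [MonoidHom.mem_ker, map_commutatorElement, commutatorElement_eq_one_iff_commute]
        exact Subtype.ext (mem_center_iff.1 (f b).2 _)
      exact this (hperf ▸ mem_top h)
    refine (QuotientGroup.eq_one_iff _).1 ?_
    show ρ ⁅n, h⁆ = 1
    rw [map_commutatorElement]
    exact congrArg Subtype.val (MonoidHom.mem_ker.1 hf)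
  exact ⟨N, Z, hN, hZn, hTZ, inf_le_left, hNR, ⟨n₀, hn₀, hn₀Z⟩, fun z hz => ((hmemZ z).1 hz).2, hcR, hsq, hfix, hirr⟩

/-- Conjugation on a factor of normal subgroups. -/
def conjFactor (N Z : Subgroup H) [N.Normal] [Z.Normal] : H →* MulAut (N ⧸ Z.subgroupOf N) where
  toFun h := QuotientGroup.congr (Z.subgroupOf N) (Z.subgroupOf N) (MulAut.conjNormal h) (by
    ext x
    constructor
    · rintro ⟨y, hy, rfl⟩
      show (MulAut.conjNormal h y : H) ∈ Z
      rw [MulAut.conjNormal_apply]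
      exact ‹Z.Normal›.conj_mem _ hy h
    · intro hx
      refine ⟨(MulAut.conjNormal h).symm x, ?_, (MulAut.conjNormal h).apply_symm_apply x⟩
      show ((MulAut.conjNormal h).symm x : H) ∈ Z
      rw [MulAut.conjNormal_symm_apply]
      simpa using ‹Z.Normal›.conj_mem (x : H) hx h⁻¹)
  map_one' := by
    ext q
    obtain ⟨x, rfl⟩ := QuotientGroup.mk_surjective q
    simp
  map_mul' h h' := by
    ext q
    obtain ⟨x, rfl⟩ := QuotientGroup.mk_surjective q
    simp [map_mul, MulAut.mul_apply]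

theorem conjFactor_mk (N Z : Subgroup H) [N.Normal] [Z.Normal] (h : H) (n : N) :
    conjFactor N Z h (QuotientGroup.mk n) =
      QuotientGroup.mk (⟨h * n * h⁻¹, ‹N.Normal›.conj_mem n n.2 h⟩ : N) := by
  simp only [conjFactor, MonoidHom.coe_mk, OneHom.coe_mk, QuotientGroup.congr_mk]
  congr 1

end CfsgLib.ThreeTrans.OddPair
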