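import Cfsg.Agent.Lib.Perm.Binary.UnitalCentre

/-!
Owner: helper5. In `PSU₃(q)`, `q` even, the involutions commuting with one involution do not generate the group
together with one further involution: they all stabilise a chord of the unital.
-/

set_option autoImplicit false
set_option linter.unusedSectionVars false
set_option linter.style.haveILetI false

namespace CfsgLib.ThreeTrans.OddPair

open scoped Pointwise
open Subgroup CfsgLib.Classical CfsgLib.Classical.Herm CfsgLib.Perm.RankOne.Unital CfsgLib.Perm.Binary.Unital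

variable {F : Type*} [Field F] [Fintype F] [CharP F 2] {q : ℕ} (hF : Fintype.card F = q ^ 2)

/-- The chord through `none` and the zero point. -/
def chord : Set (Option (Pt F q)) := {p | ∀ r, p = some r → r.1.2 = 0}

theorem swap_chord : ∀ p ∈ (chord : Set (Option (Pt F q))), swapPerm hF p ∈ (chord : Set (Option (Pt F q))) := by
  rintro (_ | r) hp s hs
  · rw [swapPerm_apply] at hs
    change some (zeroPt hF) = some s at hs
    obtain rfl := Option.some.inj hs
    rfl
  · rw [swapPerm_apply] at hs
    by_cases h : r.1.1 = 0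
    · rw [swapFun_zero hF h] at hs
      exact absurd hs (by simp)
    · obtain ⟨r', hr', e⟩ := swapFun_some hF h
      rw [e] at hs
      obtain rfl := Option.some.inj hs
      rw [hr', hp r rfl, zero_div]

variable (hq : q ≠ 2)
include hF hq

/-- An involution of the model fixing `none` is in `zGrp`. -/
theorem mem_zGrp {i : modelGroup hF} (hi : i * i = 1)
    (h0 : (i : Equiv.Perm (Option (Pt F q))) none = none) : i ∈ zGrp hF := by
  by_cases h1 : i = 1
  · rw [h1]; exact one_mem _
  obtain ⟨c, hc, -, e⟩ := involution_none hF hq i.2 h0 (congrArg Subtype.val hi)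
    (fun h' => h1 (Subtype.ext h'))
  exact ⟨c, hc, e⟩

theorem exists_fixed {δ : Equiv.Perm (Option (Pt F q))} (hδ : δ * δ = 1) : ∃ p, δ p = p := by
  classical
  by_contra hno
  push Not at hno
  have hqe : Even q := by
    obtain ⟨a, ha⟩ := exists_two_pow hF
    rw [ha]
    refine Nat.even_pow.2 ⟨even_two, ?_⟩
    rintro rfl
    rw [pow_zero] at ha
    have := two_le_of_card_sq hF
    omega
  have hodd : Odd (Fintype.card (Option (Pt F q))) := by
    rw [← Nat.card_eq_fintype_card, Finite.card_option, CfsgLib.Known.UThreeEven.card_Pt hF]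
    exact (hqe.pow_of_ne_zero (by norm_num)).add_one
  haveI : Fact (Nat.Prime 2) := ⟨Nat.prime_two⟩
  have h := Equiv.Perm.card_compl_support_modEq (σ := δ) (p := 2) (n := 1) (by rw [pow_one, sq, hδ])
  have h0 : δ.supportᶜ.card = 0 := by
    rw [Finset.card_eq_zero, Finset.eq_empty_iff_forall_notMem]
    intro p hp
    rw [Finset.mem_compl, Equiv.Perm.mem_support, not_not] at hp
    exact hno p hp
  rw [h0, Nat.ModEq] at h
  exact Nat.not_even_iff_odd.2 hodd (Nat.even_iff.2 h.symm)

/-- **No pair generates the model.** -/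
theorem closure_ne_top_model {d x : modelGroup hF} (hd : d * d = 1) (hd1 : d ≠ 1) (hx : x * x = 1)
    (S : Set (modelGroup hF)) (hS : ∀ e ∈ S, e * e = 1 ∧ e * d = d * e) :
    closure (S ∪ {x}) ≠ ⊤ := by
  intro htop
  let V := modelGroup hF
  obtain ⟨p, hp⟩ := exists_fixed hF hq (δ := (d : Equiv.Perm (Option (Pt F q)))) (congrArg Subtype.val hd)
  obtain ⟨m, hm, hm0⟩ := exists_act_none hF p
  -- move the fixed point of `d` to `none`
  set φ : V ≃* V := MulAut.conj (⟨m, hm⟩ : V)⁻¹ with hφ
  have hφv : ∀ u : V, ((φ u : V) : Equiv.Perm (Option (Pt F q))) =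
      m⁻¹ * (u : Equiv.Perm (Option (Pt F q))) * m := fun u => by simp [hφ]
  have hφd : φ d ∈ zGrp hF := mem_zGrp hF hq (by rw [← map_mul, hd, map_one]) (by
    rw [hφv, Equiv.Perm.mul_apply, Equiv.Perm.mul_apply, hm0, hp, ← hm0]
    exact m.symm_apply_apply none)
  obtain ⟨c, hc, hce⟩ := hφd
  have hc0 : c ≠ 0 := fun h0 => hd1 (φ.injective (Subtype.ext (by
    subst h0
    rw [hce, eq_zeroPt hF (p := zPt hF 0 hc) rfl, transPerm_zero, map_one]; rfl)))
  have hSz : ∀ e ∈ S, φ e ∈ zGrp hF := by
    intro e he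
    refine mem_zGrp hF hq (by rw [← map_mul, (hS e he).1, map_one]) ?_
    have hcomm : ((φ e : V) : Equiv.Perm (Option (Pt F q))) * transPerm hF (zPt hF c hc) =
        transPerm hF (zPt hF c hc) * ((φ e : V) : Equiv.Perm (Option (Pt F q))) := by
      rw [← hce, ← Subgroup.coe_mul, ← Subgroup.coe_mul, ← map_mul, ← map_mul, (hS e he).2]
    rcases hp' : ((φ e : V) : Equiv.Perm (Option (Pt F q))) none with _ | r
    · rfl
    · exfalso
      have := congrArg (fun f : Equiv.Perm (Option (Pt F q)) => f none) hcomm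
      simp only [Equiv.Perm.mul_apply, transPerm_none, hp', transPerm_some, Option.some.injEq] at this
      have h3 := congrArg (fun p : Pt F q => p.1.1) this
      simp [transFun, q_ne_zero hF] at h3
      exact hc0 h3
  -- move the fixed point of `x` to the zero point
  obtain ⟨r, hr⟩ := exists_fixed hF hq (δ := ((φ x : V) : Equiv.Perm (Option (Pt F q))))
    (congrArg Subtype.val (show φ x * φ x = 1 by rw [← map_mul, hx, map_one]))
  let K : Subgroup V := MulAction.stabilizer V (chord : Set (Option (Pt F q)))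
  have hK : ∀ g : V, (∀ p ∈ (chord : Set (Option (Pt F q))),
      (g : Equiv.Perm (Option (Pt F q))) p ∈ (chord : Set (Option (Pt F q)))) → g ∈ K := by
    intro g hg
    refine MulAction.mem_stabilizer_iff.2 (Set.eq_of_subset_of_ncard_le ?_ ?_)
    · rintro _ ⟨p, hp, rfl⟩; exact hg p hp
    · exact (Set.ncard_smul_set g _).ge
  have hzK : zGrp hF ≤ K := by
    rintro g ⟨c', hc', e⟩
    refine hK g ?_
    rintro (_ | s) hs t ht
    · rw [e, transPerm_none] at ht
      exact absurd ht (by simp)
    · rw [e, transPerm_some] at ht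
      obtain rfl := Option.some.inj ht
      show (transFun hF (zPt hF c' hc') s).1.2 = 0
      simp [transFun, hs s rfl, zPt]
  have hswapK : (⟨swapPerm hF, swapPerm_mem hF⟩ : V) ∈ K := hK _ (swap_chord hF)
  -- everything into `K` after a translation `τ`
  have key : ∀ τ : V ≃* V, (∀ e ∈ S, τ (φ e) ∈ K) → τ (φ x) ∈ K → False := by
    intro τ hτS hτx
    have hKtop : K = ⊤ := by
      rw [eq_top_iff]
      intro g _
      obtain ⟨u, rfl⟩ := (φ.trans τ).surjective g
      have hu : u ∈ closure (S ∪ {x}) := htop ▸ mem_top u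
      refine closure_induction (p := fun y _ => τ (φ y) ∈ K) ?_ ?_ ?_ ?_ hu
      · rintro y (hy | rfl)
        exacts [hτS y hy, hτx]
      · simp only [map_one]; exact one_mem _
      · intro a b _ _ ha hb; simp only [map_mul]; exact mul_mem ha hb
      · intro a _ ha; simp only [map_inv]; exact inv_mem ha
    obtain ⟨s, hs⟩ := exists_pt_snd hF (1 : F)
    have hmem : (⟨transPerm hF s, transPerm_mem hF s⟩ : V) ∈ K := hKtop ▸ mem_top _
    have hz : (some (zeroPt hF) : Option (Pt F q)) ∈ (chord : Set (Option (Pt F q))) := by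
      intro t ht; obtain rfl := Option.some.inj ht; rfl
    have h2 : ((⟨transPerm hF s, transPerm_mem hF s⟩ : V) • some (zeroPt hF) : Option (Pt F q)) ∈
        (chord : Set (Option (Pt F q))) := by
      rw [← MulAction.mem_stabilizer_iff.1 hmem]; exact Set.smul_mem_smul_set hz
    have h3 := h2 s (transPerm_apply_zero hF s)
    rw [hs] at h3
    exact one_ne_zero h3
  cases r with
  | none =>
    exact key (MulEquiv.refl V) (fun e he => hzK (hSz e he))
      (hzK (mem_zGrp hF hq (by show φ x * φ x = 1; rw [← map_mul, hx, map_one]) hr))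
  | some r =>
    set T : V := ⟨transPerm hF r, transPerm_mem hF r⟩ with hT
    set τ : V ≃* V := MulAut.conj T⁻¹ with hτ
    refine key τ (fun e he => ?_) ?_
    · obtain ⟨c', hc', e'⟩ := hSz e he
      have hcomm : T * φ e = φ e * T := Subtype.ext (by
        rw [Subgroup.coe_mul, Subgroup.coe_mul, e']
        show transPerm hF r * _ = _ * transPerm hF r
        rw [transPerm_mul, transPerm_mul]
        congr 1
        apply Subtype.ext
        simp [transFun, zPt, q_ne_zero hF, add_comm])
      have : τ (φ e) = φ e := by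
        rw [hτ, MulAut.conj_apply, inv_inv, mul_assoc, ← hcomm, inv_mul_cancel_left]
      rw [this]
      exact hzK ⟨c', hc', e'⟩
    · set w : V := ⟨swapPerm hF, swapPerm_mem hF⟩ with hw
      have hw2 : w * w = 1 := Subtype.ext (Equiv.ext fun p => swapFun_involutive hF p)
      have hx0 : ((τ (φ x) : V) : Equiv.Perm (Option (Pt F q))) (some (zeroPt hF)) = some (zeroPt hF) := by
        show ((T⁻¹ * φ x * T⁻¹⁻¹ : V) : Equiv.Perm (Option (Pt F q))) _ = _
        rw [inv_inv, Subgroup.coe_mul, Subgroup.coe_mul, Equiv.Perm.mul_apply, Equiv.Perm.mul_apply]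
        show (transPerm hF r)⁻¹ (((φ x : V) : Equiv.Perm _) (transPerm hF r (some (zeroPt hF)))) = _
        rw [transPerm_apply_zero, hr]
        conv_lhs => rw [← transPerm_apply_zero hF r]
        exact (transPerm hF r).symm_apply_apply _
      have hz : w * τ (φ x) * w ∈ zGrp hF := by
        refine mem_zGrp hF hq ?_ ?_
        · have e : τ (φ x) * τ (φ x) = 1 := by rw [← map_mul, ← map_mul, hx, map_one, map_one]
          simp only [mul_assoc]
          rw [← mul_assoc w w, hw2, one_mul, ← mul_assoc (τ (φ x)) (τ (φ x)), e, one_mul, hw2]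
        · rw [Subgroup.coe_mul, Subgroup.coe_mul, Equiv.Perm.mul_apply, Equiv.Perm.mul_apply,
            show (w : Equiv.Perm (Option (Pt F q))) none = some (zeroPt hF) from rfl, hx0]
          exact swapFun_zero hF rfl
      have e : τ (φ x) = w * (w * τ (φ x) * w) * w := by
        simp only [← mul_assoc, hw2, one_mul]; rw [mul_assoc, hw2, mul_one]
      rw [e]
      exact mul_mem (mul_mem hswapK (hzK hz)) hswapK

omit hF hq in
/-- **No pair generates `PSU₃(q)`, `q` even.** -/
theorem closure_ne_top_psu {G : Type*} [Group G] {F : Type*} [Field F] [Fintype F] {q : ℕ} (hqe : Even q)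
    (hq4 : 4 ≤ q) (hF : Fintype.card F = q ^ 2) (e : G ≃* Cfsg.PSU 3 F q) {d x : G} (hd : d * d = 1)
    (hd1 : d ≠ 1) (hx : x * x = 1) (S : Set G) (hS : ∀ a ∈ S, a * a = 1 ∧ a * d = d * a) :
    closure (S ∪ {x}) ≠ ⊤ := by
  haveI : CharP F 2 := by
    obtain ⟨p, hp⟩ := CharP.exists F
    obtain ⟨n, hpr, hn⟩ := FiniteField.card F p
    have h2 : 2 ∣ p ^ (n : ℕ) := by
      rw [← hn, hF]; exact dvd_pow (even_iff_two_dvd.1 hqe) two_ne_zero
    have := (Nat.prime_dvd_prime_iff_eq Nat.prime_two hpr).1 (Nat.prime_two.dvd_of_dvd_pow h2)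
    rwa [← this] at hp
  have hq : q ≠ 2 := by omega
  obtain ⟨f⟩ := nonempty_modelGroup_equiv hF hq
  set ψ := e.trans f.symm with hψ
  intro htop
  refine closure_ne_top_model hF hq (d := ψ d) (x := ψ x) (by rw [← map_mul, hd, map_one])
    (fun h => hd1 (ψ.injective (by rw [h, map_one]))) (by rw [← map_mul, hx, map_one]) (ψ '' S) ?_ ?_
  · rintro _ ⟨a, ha, rfl⟩
    exact ⟨by rw [← map_mul, (hS a ha).1, map_one], by rw [← map_mul, ← map_mul, (hS a ha).2]⟩
  · have h1 := congrArg (Subgroup.map ψ.toMonoidHom) htop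
    rw [MonoidHom.map_closure, Subgroup.map_top_of_surjective _ ψ.surjective, Set.image_union,
      Set.image_singleton] at h1
    exact h1

end CfsgLib.ThreeTrans.OddPair
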