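import Cfsg.Agent.Lib.ThreeTrans.OddPair.PartnerL
import Cfsg.Agent.Lib.ThreeTrans.OddPair.Unital

/-!
Owner: helper5. In `PSU₃(q)`, `q` even, commuting is transitive on involutions and the involutions commuting with one
of two involutions generate a group without elements of order four.
-/

set_option autoImplicit false
set_option linter.unusedSectionVars false
set_option linter.style.haveILetI false

namespace CfsgLib.ThreeTrans.OddPair

open scoped Pointwise
open Subgroup CfsgLib.Classical CfsgLib.Classical.Herm CfsgLib.Perm.RankOne.Unital CfsgLib.Perm.Binary.Unital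

variable {F : Type*} [Field F] [Fintype F] [CharP F 2] {q : ℕ} (hF : Fintype.card F = q ^ 2) (hq : q ≠ 2)

local notation "Ω" => Option (Pt F q)
local notation "V" => modelGroup hF

include hF hq

/-- An involution can be conjugated into the centre of the root group. -/
theorem exists_conj_zGrp {d : V} (hd : d * d = 1) : ∃ φ : V ≃* V, φ d ∈ zGrp hF := by
  obtain ⟨p, hp⟩ := exists_fixed hF hq (δ := (d : Equiv.Perm Ω)) (congrArg Subtype.val hd)
  obtain ⟨m, hm, hm0⟩ := exists_act_none hF p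
  refine ⟨MulAut.conj (⟨m, hm⟩ : V)⁻¹, mem_zGrp hF hq (by rw [← map_mul, hd, map_one]) ?_⟩
  simp only [MulAut.conj_apply, inv_inv, Subgroup.coe_mul, Subgroup.coe_inv, Equiv.Perm.mul_apply]
  rw [hm0, hp, ← hm0]
  exact m.symm_apply_apply none

/-- An involution commuting with a nontrivial central translation is one. -/
theorem mem_zGrp_of_commute {d e : V} (hd : d ∈ zGrp hF) (hd1 : d ≠ 1) (he : e * e = 1)
    (hc : Commute e d) : e ∈ zGrp hF := by
  obtain ⟨c, hc', hce⟩ := hd
  have hc0 : c ≠ 0 := fun h0 => hd1 (Subtype.ext (by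
    subst h0
    rw [hce, eq_zeroPt hF (p := zPt hF 0 hc') rfl, transPerm_zero]; rfl))
  refine mem_zGrp hF hq he ?_
  have hcomm : (e : Equiv.Perm Ω) * transPerm hF (zPt hF c hc') =
      transPerm hF (zPt hF c hc') * (e : Equiv.Perm Ω) := by
    rw [← hce]; exact congrArg Subtype.val hc.eq
  rcases hp' : (e : Equiv.Perm Ω) none with _ | r
  · rfl
  · exfalso
    have := congrArg (fun f : Equiv.Perm Ω => f none) hcomm
    simp only [Equiv.Perm.mul_apply, transPerm_none, hp', transPerm_some, Option.some.injEq] at this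
    have h3 := congrArg (fun p : Pt F q => p.1.1) this
    simp [transFun, q_ne_zero hF] at h3
    exact hc0 h3

omit hq in
theorem commute_zGrp {a b : V} (ha : a ∈ zGrp hF) (hb : b ∈ zGrp hF) : Commute a b := by
  obtain ⟨c, hc, ea⟩ := ha
  obtain ⟨e, he, eb⟩ := hb
  refine Subtype.ext ?_
  rw [Subgroup.coe_mul, Subgroup.coe_mul, ea, eb, transPerm_mul, transPerm_mul, transFun_zPt, transFun_zPt]
  congr 1
  exact Subtype.ext (Prod.ext (add_comm _ _) rfl)

theorem transInv_model : TransInv V := by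
  intro a b c ha hb hb1 hc h1 h2
  obtain ⟨φ, hφ⟩ := exists_conj_zGrp hF hq hb
  have hb1' : φ b ≠ 1 := fun h => hb1 (φ.injective (by rw [h, map_one]))
  have ea := mem_zGrp_of_commute hF hq hφ hb1' (by rw [← map_mul, ha, map_one]) (h1.map φ.toMonoidHom)
  have ec := mem_zGrp_of_commute hF hq hφ hb1' (by rw [← map_mul, hc, map_one]) (h2.symm.map φ.toMonoidHom)
  simpa using (commute_zGrp hF ea ec).map φ.symm.toMonoidHom

omit hq in
theorem zGrp_chord {z : V} (hz : z ∈ zGrp hF) : z ∈ MulAction.stabilizer V (chord : Set Ω) := by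
  obtain ⟨c', hc', e⟩ := hz
  refine MulAction.mem_stabilizer_iff.2 (Set.eq_of_subset_of_ncard_le ?_ (Set.ncard_smul_set z _).ge)
  rintro _ ⟨p, hp, rfl⟩
  show (z : Equiv.Perm Ω) p ∈ (chord : Set Ω)
  rcases p with _ | s
  · intro t ht; rw [e, transPerm_none] at ht; exact absurd ht (by simp)
  · intro t ht
    rw [e, transPerm_some] at ht
    obtain rfl := Option.some.inj ht
    show (transFun hF (zPt hF c' hc') s).1.2 = 0
    simp [transFun, hp s rfl, zPt]

omit hq in
theorem swap_mem_stab : (⟨swapPerm hF, swapPerm_mem hF⟩ : V) ∈ MulAction.stabilizer V (chord : Set Ω) := by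
  refine MulAction.mem_stabilizer_iff.2 (Set.eq_of_subset_of_ncard_le ?_ (Set.ncard_smul_set _ _).ge)
  rintro _ ⟨p, hp, rfl⟩
  exact swap_chord hF p hp

omit hq in
/-- The translation to a point of the chord is central. -/
theorem trans_zGrp {r : Pt F q} (hr : r.1.2 = 0) :
    (⟨transPerm hF r, transPerm_mem hF r⟩ : V) ∈ zGrp hF := by
  have hc : r.1.1 ^ q = r.1.1 := by
    have := r.2
    rw [hr, zero_pow (Nat.succ_ne_zero q), add_zero] at this
    linear_combination this - r.1.1 * two_eq_zero (F := F)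
  exact ⟨_, hc, congrArg (transPerm hF) (Subtype.ext (Prod.ext rfl hr))⟩

omit hq in
theorem chord_apply {g : V} (hg : g ∈ MulAction.stabilizer V (chord : Set Ω)) {p : Ω} (hp : p ∈ (chord : Set Ω)) :
    (g : Equiv.Perm Ω) p ∈ (chord : Set Ω) := by
  have := Set.smul_mem_smul_set (a := g) hp
  rwa [MulAction.mem_stabilizer_iff.1 hg] at this

theorem fix_unique {h : V} (hh : h * h = 1) (h1 : h ≠ 1) {p r : Ω} (hp : (h : Equiv.Perm Ω) p = p)
    (hr : (h : Equiv.Perm Ω) r = r) : r = p := by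
  obtain ⟨m, hm, hm0⟩ := exists_act_none hF p
  set M : V := ⟨m, hm⟩ with hM
  have hz : M⁻¹ * h * M ∈ zGrp hF := mem_zGrp hF hq
    (by rw [show M⁻¹ * h * M * (M⁻¹ * h * M) = M⁻¹ * (h * h) * M by group, hh]; group)
    (by
      simp only [hM, Subgroup.coe_mul, Subgroup.coe_inv, Equiv.Perm.mul_apply]
      rw [hm0, hp, ← hm0]
      exact m.symm_apply_apply none)
  obtain ⟨c, hc, e⟩ := hz
  have e2 : ((M⁻¹ * h * M : V) : Equiv.Perm Ω) (m⁻¹ r) = m⁻¹ r := by
    simp only [hM, Subgroup.coe_mul, Subgroup.coe_inv, Equiv.Perm.mul_apply]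
    rw [show m (m⁻¹ r) = r from m.apply_symm_apply r, hr]
  rw [e] at e2
  rcases hmr : m⁻¹ r with _ | s
  · rw [← hm0, ← hmr]; exact (m.apply_symm_apply r).symm
  · exfalso
    rw [hmr, transPerm_some, Option.some.injEq] at e2
    have h3 := congrArg (fun p : Pt F q => p.1.1) e2
    simp [transFun, zPt, q_ne_zero hF] at h3
    refine h1 ?_
    have : M⁻¹ * h * M = 1 := Subtype.ext (by
      subst h3
      rw [e, eq_zeroPt hF (p := zPt hF 0 hc) rfl, transPerm_zero]; rfl)
    calc h = M * (M⁻¹ * h * M) * M⁻¹ := by group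
      _ = 1 := by rw [this]; group

/-- An involution of the chord stabiliser fixes a point of the chord. -/
theorem exists_fix_chord {h : V} (hh : h * h = 1) (hK : h ∈ MulAction.stabilizer V (chord : Set Ω)) :
    ∃ p ∈ (chord : Set Ω), (h : Equiv.Perm Ω) p = p := by
  have hnone : (none : Ω) ∈ (chord : Set Ω) := fun r hr => absurd hr (by simp)
  rcases hn : (h : Equiv.Perm Ω) none with _ | r
  · exact ⟨none, hnone, hn⟩
  have hr : r.1.2 = 0 := chord_apply hF hK hnone r hn
  set T : V := ⟨transPerm hF r, transPerm_mem hF r⟩ with hT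
  set w : V := ⟨swapPerm hF, swapPerm_mem hF⟩ with hw
  set h' : V := T⁻¹ * h * T with hh'
  have hh'2 : (h' : Equiv.Perm Ω) * (h' : Equiv.Perm Ω) = 1 := congrArg Subtype.val (show h' * h' = 1 by
    rw [hh', show T⁻¹ * h * T * (T⁻¹ * h * T) = T⁻¹ * (h * h) * T by group, hh]; group)
  have e1 : (h' : Equiv.Perm Ω) none = some (zeroPt hF) := by
    simp only [hh', hT, Subgroup.coe_mul, Subgroup.coe_inv, Equiv.Perm.mul_apply, transPerm_none, hn]
    rw [Equiv.Perm.inv_eq_iff_eq, transPerm_apply_zero]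
  have e2 : (h' : Equiv.Perm Ω) (some (zeroPt hF)) = none := by
    rw [← e1, ← Equiv.Perm.mul_apply, hh'2, Equiv.Perm.one_apply]
  have sn : swapPerm hF none = some (zeroPt hF) := rfl
  have sz : swapPerm hF (some (zeroPt hF)) = none := by rw [swapPerm_apply]; exact swapFun_zero hF rfl
  obtain ⟨l, hl⟩ := stab_two hF hq (g := (h' : Equiv.Perm Ω) * swapPerm hF) (mul_mem h'.2 (swapPerm_mem hF))
    (by rw [Equiv.Perm.mul_apply, sn, e2]) (by rw [Equiv.Perm.mul_apply, sz, e1])
  -- the fixed point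
  obtain ⟨c, hc⟩ := (bijective_frobenius F 2).2 ((l : F) ^ (q + 1))
  rw [frobenius_def] at hc
  have hc0 : c ≠ 0 := fun e => by
    rw [e, zero_pow two_ne_zero] at hc
    exact pow_ne_zero _ l.ne_zero hc.symm
  have hcq : c ^ q = c := CharTwo.sq_inj.1 (by rw [← pow_mul, mul_comm, pow_mul, hc, norm_fixed hF])
  refine ⟨(T : Equiv.Perm Ω) (some (zPt hF c hcq)), chord_apply hF (zGrp_chord hF (trans_zGrp hF hr)) ?_, ?_⟩
  · intro t ht; obtain rfl := Option.some.inj ht; rfl
  obtain ⟨r', hr', e⟩ := swapFun_some hF (p := zPt hF c hcq) hc0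
  have e3 : (h' : Equiv.Perm Ω) (some (zPt hF c hcq)) = some (zPt hF c hcq) := by
    have : (h' : Equiv.Perm Ω) = dil hF l * swapPerm hF := by
      have hww : swapPerm hF * swapPerm hF = 1 := Equiv.ext fun p => swapFun_involutive hF p
      rw [← hl, mul_assoc, hww, mul_one]
    rw [this, Equiv.Perm.mul_apply, swapPerm_apply, e, dil_some, Option.some.injEq]
    refine Subtype.ext ?_
    rw [dilPt_val, hr', zPt_val]
    refine Prod.ext ?_ (by simp)
    show (l : F) ^ (q + 1) * c⁻¹ = c
    rw [← hc, sq, mul_assoc, mul_inv_cancel₀ hc0, mul_one]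
  simp only [hh', hT, Subgroup.coe_mul, Subgroup.coe_inv, Equiv.Perm.mul_apply] at e3
  exact (Equiv.Perm.inv_eq_iff_eq).1 e3

/-- The chord stabiliser has no element of order four. -/
theorem noFour_chord {g : V} (hK : g ∈ MulAction.stabilizer V (chord : Set Ω)) (h4 : g ^ 4 = 1) :
    g ^ 2 = 1 := by
  by_contra h2
  set h := g ^ 2 with hh
  have hhh : h * h = 1 := by rw [hh, ← _root_.pow_add, h4]
  obtain ⟨p, hp, hfix⟩ := exists_fix_chord hF hq hhh (pow_mem hK 2)
  have hgp : (g : Equiv.Perm Ω) p = p := by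
    refine fix_unique hF hq hhh h2 hfix ?_
    have e : (h : Equiv.Perm Ω) * (g : Equiv.Perm Ω) = (g : Equiv.Perm Ω) * (h : Equiv.Perm Ω) :=
      congrArg Subtype.val (show h * g = g * h from ((Commute.refl g).pow_left 2).eq)
    rw [← Equiv.Perm.mul_apply, e, Equiv.Perm.mul_apply, hfix]
  -- move `p` to `none` inside the stabiliser
  obtain ⟨k, hk, hk0⟩ : ∃ k : V, k ∈ MulAction.stabilizer V (chord : Set Ω) ∧ (k : Equiv.Perm Ω) none = p := by
    rcases p with _ | r
    · exact ⟨1, one_mem _, rfl⟩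
    · refine ⟨⟨transPerm hF r, transPerm_mem hF r⟩ * ⟨swapPerm hF, swapPerm_mem hF⟩,
        mul_mem (zGrp_chord hF (trans_zGrp hF (hp r rfl))) (swap_mem_stab hF), ?_⟩
      show transPerm hF r (swapPerm hF none) = some r
      exact transPerm_apply_zero hF r
  set g' := k⁻¹ * g * k with hg'
  have hg'4 : g' ^ 4 = 1 := by
    rw [hg', show k⁻¹ * g * k = MulAut.conj k⁻¹ g by simp, ← map_pow, h4, map_one]
  have hg'0 : (g' : Equiv.Perm Ω) none = none := by
    simp only [hg', Subgroup.coe_mul, Subgroup.coe_inv, Equiv.Perm.mul_apply, hk0, hgp]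
    rw [Equiv.Perm.inv_eq_iff_eq, hk0]
  obtain ⟨s, l, hsl⟩ := stab_one hF hq g'.2 hg'0
  have hs : s.1.2 = 0 := by
    refine chord_apply hF (mul_mem (mul_mem (inv_mem hk) hK) hk) (p := some (zeroPt hF)) ?_ s ?_
    · intro t ht; obtain rfl := Option.some.inj ht; rfl
    · show (g' : Equiv.Perm Ω) _ = _
      rw [hsl, Equiv.Perm.mul_apply, dil_some, dilPt_zeroPt, transPerm_apply_zero]
  have esq : (g' : Equiv.Perm Ω) * (g' : Equiv.Perm Ω) =
      transPerm hF (transFun hF s (dilPt hF l s)) * dil hF (l * l) := by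
    rw [hsl, map_mul, ← transPerm_mul, mul_assoc (transPerm hF s) (dil hF l), ← mul_assoc (dil hF l),
      dil_mul_trans]
    simp only [mul_assoc]
  set r := transFun hF s (dilPt hF l s) with hr
  have e4 : transPerm hF (transFun hF r (dilPt hF (l * l) r)) * dil hF (l * l * (l * l)) = 1 := by
    have : ((g' : Equiv.Perm Ω) * (g' : Equiv.Perm Ω)) * ((g' : Equiv.Perm Ω) * (g' : Equiv.Perm Ω)) = 1 := by
      rw [← Subgroup.coe_mul, ← Subgroup.coe_mul, ← sq, ← sq, ← pow_mul, hg'4]; rfl
    rw [← this, esq, ← transPerm_mul, map_mul (dil hF) (l * l) (l * l), mul_assoc (transPerm hF r) (dil hF (l * l)),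
      ← mul_assoc (dil hF (l * l)), dil_mul_trans]
    simp only [mul_assoc]
  have e0 : transFun hF r (dilPt hF (l * l) r) = zeroPt hF := by
    have := congrArg (fun e : Equiv.Perm Ω => e (some (zeroPt hF))) e4
    simpa only [Equiv.Perm.mul_apply, dil_some, dilPt_zeroPt, transPerm_apply_zero, Equiv.Perm.one_apply,
      Option.some.injEq] using this
  rw [e0, transPerm_zero, one_mul] at e4
  have hl4 : l * l * (l * l) = 1 := dil_injective hF (by rw [e4, map_one])
  have hl1 : l = 1 := Units.ext (CharTwo.sq_inj.1 (CharTwo.sq_inj.1 (by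
    simp only [sq, Units.val_one, mul_one, ← Units.val_mul, hl4])))
  have hz : g' ∈ zGrp hF := by
    obtain ⟨c, hc, e⟩ := trans_zGrp hF hs
    exact ⟨c, hc, by rw [hsl, hl1, map_one, mul_one]; exact e⟩
  obtain ⟨c, hc, e⟩ := hz
  refine h2 ?_
  have : g' * g' = 1 := Subtype.ext (by rw [Subgroup.coe_mul, e, zPt_sq]; rfl)
  rw [hh, sq]
  calc g * g = k * (g' * g') * k⁻¹ := by rw [hg']; group
    _ = 1 := by rw [this]; group

/-- The involutions commuting with one of two involutions generate no element of order four. -/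
theorem noFour_two_model {d x : V} (hd : d * d = 1) (hd1 : d ≠ 1) (hx : x * x = 1) (hx1 : x ≠ 1)
    {g : V} (hg : g ∈ closure {e : V | e * e = 1 ∧ (Commute e d ∨ Commute e x)}) (h4 : g ^ 4 = 1) :
    g ^ 2 = 1 := by
  obtain ⟨φ, hφd⟩ := exists_conj_zGrp hF hq hd
  set K := MulAction.stabilizer V (chord : Set Ω)
  obtain ⟨r, hr⟩ := exists_fixed hF hq (δ := ((φ x : V) : Equiv.Perm Ω))
    (congrArg Subtype.val (show φ x * φ x = 1 by rw [← map_mul, hx, map_one]))
  have hφd1 : φ d ≠ 1 := fun h => hd1 (φ.injective (by rw [h, map_one]))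
  have key : ∀ ψ : V ≃* V, (∀ e, e * e = 1 → Commute e d → ψ e ∈ K) →
      (∀ e, e * e = 1 → Commute e x → ψ e ∈ K) → g ^ 2 = 1 := by
    intro ψ h1 h2
    have hle : (closure {e : V | e * e = 1 ∧ (Commute e d ∨ Commute e x)}).map ψ.toMonoidHom ≤ K := by
      rw [MonoidHom.map_closure, closure_le]
      rintro _ ⟨e, ⟨he, hc | hc⟩, rfl⟩
      exacts [h1 e he hc, h2 e he hc]
    have hψ := noFour_chord hF hq (hle (mem_map_of_mem _ hg))
      (show ψ g ^ 4 = 1 by rw [← map_pow, h4, map_one])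
    exact ψ.injective (by rw [map_pow, map_one]; exact hψ)
  have hSd : ∀ e : V, e * e = 1 → Commute e d → φ e ∈ zGrp hF := fun e he hc =>
    mem_zGrp_of_commute hF hq hφd hφd1 (by rw [← map_mul, he, map_one]) (hc.map φ.toMonoidHom)
  rcases r with _ | r
  · have hφx : φ x ∈ zGrp hF := mem_zGrp hF hq (by rw [← map_mul, hx, map_one]) hr
    refine key φ (fun e he hc => zGrp_chord hF (hSd e he hc)) (fun e he hc => zGrp_chord hF ?_)
    exact mem_zGrp_of_commute hF hq hφx (fun h => hx1 (φ.injective (by rw [h, map_one])))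
      (by rw [← map_mul, he, map_one]) (hc.map φ.toMonoidHom)
  set T : V := ⟨transPerm hF r, transPerm_mem hF r⟩ with hT
  set τ : V ≃* V := MulAut.conj T⁻¹ with hτ
  set w : V := ⟨swapPerm hF, swapPerm_mem hF⟩ with hw
  have hw2 : w * w = 1 := Subtype.ext (Equiv.ext fun p => swapFun_involutive hF p)
  refine key (φ.trans τ) (fun e he hc => ?_) (fun e he hc => ?_)
  · obtain ⟨c', hc', e'⟩ := hSd e he hc
    have hcomm : T * φ e = φ e * T := Subtype.ext (by
      rw [Subgroup.coe_mul, Subgroup.coe_mul, e']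
      show transPerm hF r * _ = _ * transPerm hF r
      rw [transPerm_mul, transPerm_mul]
      congr 1
      apply Subtype.ext
      simp [transFun, zPt, q_ne_zero hF, add_comm])
    show τ (φ e) ∈ K
    have : τ (φ e) = φ e := by
      rw [hτ, MulAut.conj_apply, inv_inv, mul_assoc, ← hcomm, inv_mul_cancel_left]
    rw [this]
    exact zGrp_chord hF ⟨c', hc', e'⟩
  · set χ : V ≃* V := (φ.trans τ).trans (MulAut.conj w) with hχ
    have hx0 : ((χ x : V) : Equiv.Perm Ω) none = none := by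
      show ((w * (T⁻¹ * φ x * T⁻¹⁻¹) * w⁻¹ : V) : Equiv.Perm Ω) none = none
      rw [inv_inv, inv_eq_of_mul_eq_one_right hw2]
      simp only [hw, hT, Subgroup.coe_mul, Subgroup.coe_inv, Equiv.Perm.mul_apply]
      rw [show swapPerm hF none = some (zeroPt hF) from rfl, transPerm_apply_zero, hr,
        show (transPerm hF r)⁻¹ (some r) = some (zeroPt hF) by
          rw [Equiv.Perm.inv_eq_iff_eq, transPerm_apply_zero]]
      exact swapFun_zero hF rfl
    have hχx : χ x ∈ zGrp hF := mem_zGrp hF hq (by rw [← map_mul, hx, map_one]) hx0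
    have hχe := zGrp_chord hF (mem_zGrp_of_commute hF hq hχx (fun h => hx1 (χ.injective (by rw [h, map_one])))
      (by rw [← map_mul, he, map_one]) (hc.map χ.toMonoidHom))
    have e1 : (φ.trans τ) e = w * χ e * w := by
      show τ (φ e) = w * (w * τ (φ e) * w⁻¹) * w
      rw [inv_eq_of_mul_eq_one_right hw2]
      simp only [← mul_assoc, hw2, one_mul]; rw [mul_assoc, hw2, mul_one]
    rw [e1]
    exact mul_mem (mul_mem (swap_mem_stab hF) hχe) (swap_mem_stab hF)

omit hF hq in
/-- The facts for `PSU₃(q)`. -/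
theorem psu_facts {G : Type*} [Group G] {F : Type*} [Field F] [Fintype F] [CharP F 2] {q : ℕ} (hq4 : 4 ≤ q)
    (hF : Fintype.card F = q ^ 2) (e : G ≃* Cfsg.PSU 3 F q) :
    TransInv G ∧ ∀ d x g : G, d * d = 1 → d ≠ 1 → x * x = 1 → x ≠ 1 →
      g ∈ closure {a : G | a * a = 1 ∧ (Commute a d ∨ Commute a x)} → g ^ 4 = 1 → g ^ 2 = 1 := by
  have hq : q ≠ 2 := by omega
  obtain ⟨f⟩ := nonempty_modelGroup_equiv hF hq
  set ψ := e.trans f.symm
  refine ⟨(transInv_model hF hq).of_equiv ψ, fun d x g hd hd1 hx hx1 hg h4 => ψ.injective ?_⟩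
  rw [map_pow, map_one]
  refine noFour_two_model hF hq (d := ψ d) (x := ψ x) (by rw [← map_mul, hd, map_one])
    (fun h => hd1 (ψ.injective (by rw [h, map_one]))) (by rw [← map_mul, hx, map_one])
    (fun h => hx1 (ψ.injective (by rw [h, map_one]))) ?_ (by rw [← map_pow, h4, map_one])
  have h1 := mem_map_of_mem ψ.toMonoidHom hg
  rw [MonoidHom.map_closure] at h1
  refine closure_mono ?_ h1
  rintro _ ⟨a, ⟨ha, hc⟩, rfl⟩
  exact ⟨by show ψ a * ψ a = 1; rw [← map_mul, ha, map_one],
    hc.imp (fun h => h.map ψ.toMonoidHom) (fun h => h.map ψ.toMonoidHom)⟩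

end CfsgLib.ThreeTrans.OddPair
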