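import Cfsg.Agent.Lib.ThreeTrans.OddPair.Nbr
import Cfsg.Agent.Lib.ThreeTrans.OddPair.Chord
import Cfsg.Agent.Lib.ThreeTrans.RootSplit.Dichotomy

/-!
Owner: helper5. A class generating its group, with a pair of Suzuki type and disconnected commuting graph, has a
Suzuki group as quotient; and so has the group of two sets of commuting members of Suzuki type when no configuration
of Suzuki type occurs.
-/

set_option autoImplicit false
set_option linter.unusedSectionVars false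
set_option linter.style.haveILetI false

namespace CfsgLib.ThreeTrans.OddPair

open Subgroup Cfsg

universe u

variable {G : Type u} [Group G] [Finite G] {D : Set G}

namespace Deg

variable (hG : Deg D)
include hG

/-- **A disconnected class with a pair of Suzuki type.** -/
theorem disconnected_typeS {K : Subgroup G} {c t : G} (hc : c ∈ D) (hcK : c ∈ K)
    (hgen : K ≤ closure (clsIn K c)) (hE : ∀ v ∈ clsIn K c, ∀ e ∈ sameCommutingClass D v, e ∈ K)
    (ht : t ∈ clsIn K c) (hct : ¬ Commute c t) (h5 : ¬ Three D c t)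
    (hdis : ¬ IsConnectedSet (CommAdj (clsIn K c)) (clsIn K c)) :
    Rk D K (clsIn K c) (QuotientGroup.mk' (twoZCore K)) ∧ TypeS (K ⧸ twoZCore K) := by
  haveI : Fact (Nat.Prime 2) := ⟨Nat.prime_two⟩
  have hD := hG.hD
  have hsub : ∀ a ∈ clsIn K c, a ∈ D := by
    rintro a ⟨g, -, rfl⟩; exact hD.1.conj_mem c hc g
  have hmemK : ∀ a ∈ clsIn K c, a ∈ K := by
    rintro a ⟨g, hg, rfl⟩; exact mul_mem (mul_mem hg hcK) (inv_mem hg)
  have hcC := self_mem_clsIn K c
  let D₀ : Set K := {a | (a : G) ∈ clsIn K c}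
  have hcomm : ∀ {a b : K}, Commute a b ↔ Commute (a : G) (b : G) := fun {a b} =>
    ⟨fun hc => congrArg Subtype.val hc.eq, fun hc => Subtype.ext hc.eq⟩
  have ho : ∀ a b : K, orderOf (a * b) = orderOf ((a : G) * b) := fun a b => (Subgroup.orderOf_coe (a * b)).symm
  have hD₀ : IsOddTranspositionSet D₀ := by
    refine ⟨⟨fun a ha => ?_, ?_, ?_, fun a ha b hb => ?_⟩, fun a ha b hb => ?_⟩
    · rw [← Subgroup.orderOf_coe]; exact hD.1.orderOf_eq _ (hsub _ ha)
    · rw [eq_top_iff]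
      intro g _
      have hle : clsIn K c ⊆ K.subtype '' D₀ := fun a ha => ⟨⟨a, hmemK a ha⟩, ha, rfl⟩
      have hg : (g : G) ∈ closure (K.subtype '' D₀) := Subgroup.closure_mono hle (hgen g.2)
      rw [← MonoidHom.map_closure] at hg
      obtain ⟨g', hg', e⟩ := hg
      exact (Subtype.ext e : g' = g) ▸ hg'
    · intro a ha g
      exact clsIn_conj ha g.2
    · rcases hD.1.pair _ (hsub _ ha) _ (hsub _ hb) with h | h | h
      · exact Or.inl (Subtype.ext h)
      · exact Or.inr (Or.inl (ho a b ▸ h))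
      · exact absurd h.1 (hD.2 _ (hsub _ ha) _ (hsub _ hb))
    · rw [ho]; exact hD.2 _ (hsub _ ha) _ (hsub _ hb)
  -- classes stay in the class
  have hEC : ∀ e ∈ sameCommutingClass D c, e ∈ clsIn K c := fun e he =>
    mem_clsIn_of_not_commute hD ht hcK hc he.1 (hE c hcC e he) fun h => hct ((class_iff he (hsub t ht)).1 h).symm
  have hDD : (D₀ ∩ commutingProducts D₀).Nonempty := by
    obtain ⟨f, hf, hfc, hcf⟩ := hG.tri c hc
    refine ⟨⟨c * f, hmemK _ (hEC _ hcf)⟩, hEC _ hcf, ⟨c, hcK⟩, hcC, ⟨f, hmemK f (hEC f hf)⟩, hEC f hf,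
      Subtype.ext ((class_commute hc (self_mem_class hc) hf).eq), fun e => hfc ?_, rfl⟩
    have e' : c * f = 1 := congrArg Subtype.val e
    rw [eq_inv_of_mul_eq_one_right e', inv_eq hD hc]
  have hdis₀ : ¬ IsConnectedSet (CommAdj D₀) D₀ := fun hc₀ => hdis fun a ha b hb => by
    have h := hc₀ ⟨a, hmemK a ha⟩ ha ⟨b, hmemK b hb⟩ hb
    refine h.lift (Subtype.val) fun x y hxy => ?_
    exact ⟨hxy.1, hxy.2.1, fun e => hxy.2.2.1 (Subtype.ext e), congrArg Subtype.val hxy.2.2.2⟩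
  set π := QuotientGroup.mk' (twoZCore K) with hπ
  have h2 : IsPGroup 2 (pCore 2 K) := CfsgLib.Core.isPGroup_pCore 2 K
  -- an odd product in the kernel
  have hker : ∀ a ∈ clsIn K c, ∀ b ∈ clsIn K c, ∀ (ha' : a ∈ K) (hb' : b ∈ K),
      π (⟨a, ha'⟩ * ⟨b, hb'⟩) = 1 → Commute a b := by
    intro a ha b hb ha' hb' e
    by_contra hn
    set A : K := ⟨a, ha'⟩
    set B : K := ⟨b, hb'⟩
    have hodd : Odd (orderOf (A * B)) := by rw [ho]; exact odd_of hD (hsub a ha) (hsub b hb) hn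
    have hz := Subgroup.mem_center_iff.1 (Subgroup.mem_comap.1 ((QuotientGroup.eq_one_iff _).1 e))
      (QuotientGroup.mk' (pCore 2 K) A)
    rw [← map_mul, ← map_mul, QuotientGroup.mk'_apply, QuotientGroup.mk'_apply, QuotientGroup.eq] at hz
    have haa : A * A = 1 := Subtype.ext (sq_one hD (hsub a ha))
    have hbb : B * B = 1 := Subtype.ext (sq_one hD (hsub b hb))
    have e1 : (A * (A * B))⁻¹ * (A * B * A) = (B * A) ^ 0 * (B * A * B * A) * 1 := by
      rw [← mul_assoc A A B, haa, one_mul, inv_eq_of_mul_eq_one_right hbb, pow_zero, one_mul, mul_one]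
      simp only [← mul_assoc]
    have hm : (B * A) ^ 2 ∈ pCore 2 K := by
      have e2 : (A * (A * B))⁻¹ * (A * B * A) = B * A * B * A := by simpa using e1
      rw [e2] at hz
      rwa [sq, ← mul_assoc]
    obtain ⟨k, hk⟩ := h2 ⟨_, hm⟩
    have hBA : orderOf (B * A) = orderOf (A * B) := by
      rw [← orderOf_inv (A * B), mul_inv_rev, inv_eq_of_mul_eq_one_right haa, inv_eq_of_mul_eq_one_right hbb]
    have h1 : B * A = 1 := by
      refine RootInv.eq_one_of_odd_of_pow (k := k + 1) (hBA ▸ hodd) ?_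
      rw [show 2 ^ (k + 1) = 2 * 2 ^ k by ring, pow_mul]
      exact congrArg Subtype.val hk
    have : b = a := by
      have := congrArg Subtype.val (eq_inv_of_mul_eq_one_left h1)
      rwa [show ((A⁻¹ : K) : G) = a⁻¹ from rfl, inv_eq hD (hsub a ha)] at this
    exact hn (this ▸ Commute.refl a)
  have htK := hmemK t ht
  have hne : ∀ a ∈ clsIn K c, ∀ (ha' : a ∈ K), π ⟨a, ha'⟩ ≠ 1 := by
    rintro a ⟨g, hg, rfl⟩ ha' e
    have e1 : π ⟨c, hcK⟩ = 1 := by
      have : (⟨g * c * g⁻¹, ha'⟩ : K) = ⟨g, hg⟩ * ⟨c, hcK⟩ * (⟨g, hg⟩ : K)⁻¹ := rfl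
      rw [this, map_mul, map_mul, map_inv] at e
      rw [mul_inv_eq_one] at e
      exact mul_eq_left.1 e
    have hodd : Odd (orderOf ((⟨c, hcK⟩ : K) * ⟨t, htK⟩)) := by rw [ho]; exact odd_of hD hc (hsub t ht) hct
    have h' : π (⟨c, hcK⟩ * ⟨t, htK⟩) ^ 2 = 1 := by
      rw [map_mul, e1, one_mul, sq, ← map_mul,
        show (⟨t, htK⟩ : K) * ⟨t, htK⟩ = 1 from Subtype.ext (sq_one hD (hsub t ht)), map_one]
    have := RootInv.eq_one_of_odd_of_pow (k := 1) (hodd.of_dvd_nat (orderOf_map_dvd π _)) h'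
    exact hct (hker c hcC t ht hcK htK this)
  have hle : Xp D c t ≤ K := by
    rw [Xp, closure_le]
    rintro e (he | he)
    exacts [hE c hcC e he, hE t ht e he]
  -- the pair of Suzuki type has no image in a group without elements of order four
  have hfour : TransInv (K ⧸ twoZCore K) →
      (∀ g : K, (g : G) ∈ Xp D c t → π g ^ 4 = 1 → π g ^ 2 = 1) → False := by
    intro htr hno
    obtain ⟨hX, htX⟩ := hG.rk_pair hc (hsub t ht) hct
    have hS := htX.resolve_left fun hL => h5 ((hG.three_iff_typeL hc (hsub t ht) hct).2 hL)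
    apply hS.2.1
    intro q hq
    obtain ⟨g, rfl⟩ := QuotientGroup.mk'_surjective _ q
    rw [← map_pow] at hq ⊢
    obtain ⟨k, hk⟩ := CfsgLib.Core.isPGroup_pCore 2 _ ⟨g ^ 4, (QuotientGroup.eq_one_iff _).1 hq⟩
    have hgk : (g ^ 4) ^ 2 ^ k = 1 := congrArg Subtype.val hk
    have iter : ∀ j : ℕ, ∀ g : K, (g : G) ∈ Xp D c t → π g ^ (4 * 2 ^ j) = 1 → π g ^ 2 = 1 := by
      intro j
      induction j with
      | zero => intro g hg h; exact hno g hg (by simpa using h)
      | succ j ih =>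
        intro g hg h
        refine hno g hg ?_
        have h1 := ih (g ^ 2) (pow_mem hg 2) (by
          rw [map_pow, ← pow_mul, ← h]; ring_nf)
        rw [map_pow, ← pow_mul] at h1
        exact h1
    have hg2 : π (Subgroup.inclusion hle g ^ 2) = 1 := by
      rw [map_pow]
      refine iter k _ g.2 ?_
      rw [← map_pow, ← map_pow, pow_mul, hgk, map_one, map_one]
    -- `g ^ 2` is central modulo the 2-core of the pair
    refine (QuotientGroup.eq_one_iff _).2 ?_
    by_contra hout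
    have hcen : ∀ x : Xp D c t, g ^ 2 * x * (g ^ 2)⁻¹ * x⁻¹ ∈ pCore 2 (Xp D c t) := by
      intro x
      refine (mem_core2 (g ^ 2 * x * (g ^ 2)⁻¹ * x⁻¹).2).1 (core2_inf_le hle ⟨?_, (g ^ 2 * x * (g ^ 2)⁻¹ * x⁻¹).2⟩)
      refine (mem_core2 (hle (g ^ 2 * x * (g ^ 2)⁻¹ * x⁻¹).2)).2 ?_
      show Subgroup.inclusion hle (g ^ 2 * x * (g ^ 2)⁻¹ * x⁻¹) ∈ pCore 2 K
      have hz := Subgroup.mem_center_iff.1 (Subgroup.mem_comap.1 ((QuotientGroup.eq_one_iff _).1 hg2))
        (QuotientGroup.mk' (pCore 2 K) (Subgroup.inclusion hle x))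
      refine (QuotientGroup.eq_one_iff _).1 ?_
      show QuotientGroup.mk' (pCore 2 K) _ = 1
      simp only [map_mul, map_inv, map_pow] at hz ⊢
      rw [← hz, mul_inv_cancel_right, mul_inv_cancel]
    set ρ := QuotientGroup.mk' (pCore 2 (Xp D c t))
    have hcm : ∀ x, Commute (ρ (g ^ 2)) (ρ x) := fun x => by
      have h : ρ (g ^ 2 * x * (g ^ 2)⁻¹ * x⁻¹) = 1 := (QuotientGroup.eq_one_iff _).2 (hcen x)
      rw [map_mul, map_mul, map_mul, map_inv, map_inv, mul_inv_eq_one, mul_inv_eq_iff_eq_mul] at h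
      exact h
    obtain ⟨hEc, hEt⟩ := hG.pair_mem hc (hsub t ht) hct
    have hcX := hEc c (self_mem_class hc)
    have htX' := hEt t (self_mem_class (hsub t ht))
    refine hct ((hX.commute_iff hD hcX htX').1 (hX.trans _ (ρ (g ^ 2)) _ (hX.img_sq hD hcX) ?_ ?_
      (hX.img_sq hD htX') (hcm _).symm (hcm _)))
    · rw [← map_mul, ← pow_add]; exact hq
    · exact fun e => hout ((QuotientGroup.eq_one_iff _).1 e)
  have hS : TypeS (K ⧸ twoZCore K) := by
    rcases (RootSplit.dichotomy CfsgLib.AschCrit.mainProved hD₀.1 hDD).resolve_left hdis₀ with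
      ⟨F, _, _, _, -, ⟨i⟩⟩ | hs | ⟨F, _, _, q, _, hF, hq, ⟨i⟩⟩
    · obtain ⟨ep⟩ := CfsgLib.Recog.AffineTwo.psl_equiv_sl F
      have hL := (typeL_sl (F := F)).of_equiv (i.trans ep)
      exact (hfour hL.2.2 fun g _ h => hL.2.1 _ h).elim
    · exact typeS_of_iso hs
    · obtain ⟨htr, hch⟩ := psu_facts hq hF i
      refine (hfour htr fun g hg h => ?_).elim
      have hc2 : π ⟨c, hcK⟩ * π ⟨c, hcK⟩ = 1 := by
        rw [← map_mul, show (⟨c, hcK⟩ : K) * ⟨c, hcK⟩ = 1 from Subtype.ext (sq_one hD hc), map_one]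
      have ht2 : π ⟨t, htK⟩ * π ⟨t, htK⟩ = 1 := by
        rw [← map_mul, show (⟨t, htK⟩ : K) * ⟨t, htK⟩ = 1 from Subtype.ext (sq_one hD (hsub t ht)), map_one]
      refine hch (π ⟨c, hcK⟩) (π ⟨t, htK⟩) (π g) hc2 (hne c hcC hcK) ht2 (hne t ht htK) ?_ h
      have hmem : ∀ (w : G), w ∈ Xp D c t → ∀ hwK : w ∈ K, π ⟨w, hwK⟩ ∈ closure
          {a : K ⧸ twoZCore K | a * a = 1 ∧ (Commute a (π ⟨c, hcK⟩) ∨ Commute a (π ⟨t, htK⟩))} := by
        intro w hw
        induction hw using closure_induction with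
        | mem e he =>
          intro hwK
          refine Subgroup.subset_closure ⟨?_, ?_⟩
          · rw [← map_mul, show (⟨e, hwK⟩ : K) * ⟨e, hwK⟩ = 1 from
              Subtype.ext (sq_one hD (he.elim (fun h => h.1) (fun h => h.1))), map_one]
          · rcases he with he | he
            · exact Or.inl ((hcomm.2 (class_commute hc he (self_mem_class hc)) :
                Commute (⟨e, hwK⟩ : K) ⟨c, hcK⟩).map π)
            · exact Or.inr ((hcomm.2 (class_commute (hsub t ht) he (self_mem_class (hsub t ht))) :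
                Commute (⟨e, hwK⟩ : K) ⟨t, htK⟩).map π)
        | one => intro hwK; exact (map_one π).symm ▸ one_mem _
        | mul u w' hu hw' iu iw =>
          intro hwK
          rw [show (⟨u * w', hwK⟩ : K) = ⟨u, hle hu⟩ * ⟨w', hle hw'⟩ from rfl, map_mul]
          exact mul_mem (iu _) (iw _)
        | inv u hu iu =>
          intro hwK
          rw [show (⟨u⁻¹, hwK⟩ : K) = (⟨u, hle hu⟩ : K)⁻¹ from rfl, map_inv]
          exact inv_mem (iu _)
      exact hmem g hg g.2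
  refine ⟨⟨hsub, hmemK, fun a ha g hg => clsIn_conj ha hg, QuotientGroup.mk'_surjective _, hS.2.2.1,
    fun a ha b hb e => hker a ha b hb _ _ (by
      rw [map_mul, e, ← map_mul, show (⟨b, hmemK b hb⟩ : K) * ⟨b, hmemK b hb⟩ = 1 from
        Subtype.ext (sq_one hD (hsub b hb)), map_one]),
    fun a ha => hne a ha _⟩, hS⟩

/-- **Two sets of members of Suzuki type.** -/
theorem rk_two_sets {W : Subgroup G} (hW : ∀ v ∈ D, v ∈ W → ∀ e ∈ sameCommutingClass D v, e ∈ W)
    (hS : ∀ d a r s : G, d ∈ D → a ∈ D → r ∈ D → s ∈ D → d ∈ W → a ∈ W → r ∈ W → s ∈ W → ¬ Commute d a →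
      Commute r d → Commute r a → Commute s a → ¬ Commute s r → ¬ Commute s d → Three D d a)
    {c t : G} (hc : c ∈ D) (hcW : c ∈ W) (ht : t ∈ D) (htW : t ∈ W) (hct : ¬ Commute c t) (h5 : ¬ Three D c t)
    {B P : Set G} (hcB : c ∈ B) (htP : t ∈ P) (hBD : ∀ b ∈ B, b ∈ D ∧ b ∈ W) (hPD : ∀ m ∈ P, m ∈ D ∧ m ∈ W)
    (hB : ∀ b ∈ B, Commute b c ∧ ¬ Commute b t) (hP : ∀ m ∈ P, Commute m t ∧ ¬ Commute m c) :
    ∃ K : Subgroup G, K = closure (⋃ v ∈ B ∪ P, sameCommutingClass D v) ∧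
      (∀ v ∈ B ∪ P, ∀ e ∈ sameCommutingClass D v, e ∈ clsIn K c) ∧
      Rk D K (clsIn K c) (QuotientGroup.mk' (twoZCore K)) ∧ TypeS (K ⧸ twoZCore K) := by
  set K := closure (⋃ v ∈ B ∪ P, sameCommutingClass D v) with hK
  have hD := hG.hD
  have hgenK : ∀ v ∈ B ∪ P, ∀ e ∈ sameCommutingClass D v, e ∈ K := fun v hv e he =>
    Subgroup.subset_closure (Set.mem_biUnion hv he)
  have hvD : ∀ v ∈ B ∪ P, v ∈ D ∧ v ∈ W := fun v hv => hv.elim (hBD v) (hPD v)
  have hcK : c ∈ K := hgenK c (Or.inl hcB) c (self_mem_class hc)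
  have htK : t ∈ K := hgenK t (Or.inr htP) t (self_mem_class ht)
  have htC : t ∈ clsIn K c := mem_clsIn_of_not_commute hD (self_mem_clsIn K c) hcK hc ht htK hct
  have hgenC : ∀ v ∈ B ∪ P, ∀ e ∈ sameCommutingClass D v, e ∈ clsIn K c := by
    intro v hv e he
    have heK := hgenK v hv e he
    rcases hv with hv | hv
    · exact mem_clsIn_of_not_commute hD htC hcK hc he.1 heK fun h => (hB v hv).2 ((class_iff he ht).1 h).symm
    · exact mem_clsIn_of_not_commute hD (self_mem_clsIn K c) hcK hc he.1 heK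
        fun h => (hP v hv).2 ((class_iff he hc).1 h).symm
  have hsub : ∀ a ∈ clsIn K c, a ∈ D := by
    rintro a ⟨g, -, rfl⟩; exact hD.1.conj_mem c hc g
  have hKW : K ≤ W := by
    rw [hK, closure_le]
    simp only [Set.iUnion_subset_iff]
    exact fun v hv e he => hW v (hvD v hv).1 (hvD v hv).2 e he
  have hmemK : ∀ a ∈ clsIn K c, a ∈ K := by
    rintro a ⟨g, hg, rfl⟩; exact mul_mem (mul_mem hg hcK) (inv_mem hg)
  have hE : ∀ v ∈ clsIn K c, ∀ e ∈ sameCommutingClass D v, e ∈ K := by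
    rintro v ⟨g, hg, rfl⟩ e he
    have h1 := class_conj hD g⁻¹ he
    rw [show g⁻¹ * (g * c * g⁻¹) * g⁻¹⁻¹ = c by group] at h1
    have h2 := mul_mem (mul_mem hg (hgenK c (Or.inl hcB) _ h1)) (inv_mem hg)
    rwa [show g * (g⁻¹ * e * g⁻¹⁻¹) * g⁻¹ = e by group] at h2
  have hgen : K ≤ closure (clsIn K c) := by
    conv_lhs => rw [hK]
    refine Subgroup.closure_mono ?_
    simp only [Set.iUnion_subset_iff]
    exact hgenC
  refine ⟨K, rfl, hgenC, hG.disconnected_typeS hc hcK hgen hE htC hct h5 fun hcon => ?_⟩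
  have key : ∀ {x : G}, x ∈ clsIn K c → x ∈ D ∧ x ∈ W := fun {x} hx => ⟨hsub x hx, hKW (hmemK x hx)⟩
  rcases hG.near hc hcK hE
      (fun d hd a ha r hr s hs h1 h2 h3 h4 h6 h7 => hS d a r s (key hd).1 (key ha).1 (key hr).1 (key hs).1
        (key hd).2 (key ha).2 (key hr).2 (key hs).2 h1 h2 h3 h4 h6 h7)
      (self_mem_clsIn K c) (hcon c (self_mem_clsIn K c) t htC) with h | ⟨r, hr, hrc, hrt⟩
  · exact hct h
  have hrv : ∀ v ∈ B ∪ P, Commute r v := by
    rintro v (hv | hv) <;> by_contra hn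
    · exact h5 (three_symm hD (hS t c r v ht hc (key hr).1 (hBD v hv).1 htW hcW (key hr).2 (hBD v hv).2
        (fun e => hct e.symm) hrt hrc (hB v hv).1 (fun e => hn e.symm) (hB v hv).2))
    · exact h5 (hS c t r v hc ht (key hr).1 (hPD v hv).1 hcW htW (key hr).2 (hPD v hv).2 hct hrc hrt
        (hP v hv).1 (fun e => hn e.symm) (hP v hv).2)
  have hrK : K ≤ centralizer {r} := by
    rw [hK, closure_le]
    simp only [Set.iUnion_subset_iff]
    intro v hv e he
    exact mem_centralizer_singleton_iff.2 ((class_iff he (key hr).1).2 (hrv v hv)).symm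
  obtain ⟨g, hg, rfl⟩ := hr
  have hgc : Commute g (g * c * g⁻¹) := mem_centralizer_singleton_iff.1 (hrK hg)
  refine hct ?_
  rwa [show g * c * g⁻¹ = c by
    calc g * c * g⁻¹ = g⁻¹ * (g * (g * c * g⁻¹)) := by group
      _ = g⁻¹ * ((g * c * g⁻¹) * g) := by rw [hgc.eq]
      _ = c := by group] at hrt

end Deg

end CfsgLib.ThreeTrans.OddPair
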