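import Cfsg.Agent.Lib.ThreeTrans.OddPair.Simple
import Cfsg.Agent.Lib.Char.Exceptional.AltMultiplierBound
import Cfsg.Agent.Lib.TwoGroups.Recognition
import Cfsg.Agent.S0252
import Cfsg.Agent.S2111
import Cfsg.Agent.S2112
import Cfsg.Agent.S2117

/-!
Owner: helper5. The group generated by the class `E` of `d` and one member `x` not commuting with `d` is, modulo its
2-core, `L₂(q)`, a Suzuki group or dihedral.
-/

set_option autoImplicit false
set_option linter.unusedSectionVars false
set_option linter.style.haveILetI false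

namespace CfsgLib.ThreeTrans.OddPair

open Subgroup Cfsg

universe u

variable {G : Type u} [Group G] [Finite G]

/-- a stem extension of a group with known multiplier has kernel of order dividing it -/
theorem stem_card_dvd {K : Type u} [Group K] [Finite K] {S : Type} [Group S] {A : Type} [CommGroup A] (hS : HasSchurMultiplier S A)
    (f : K →* S) (hf : Cfsg.IsStemExtension f) : Nat.card f.ker ∣ Nat.card A := by
  have : Small.{0} K := inferInstance
  let e : Shrink.{0} K ≃* K := Shrink.mulEquiv.{0}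
  have hk : (f.comp e.toMonoidHom).ker = f.ker.comap e.toMonoidHom := rfl
  have hst : Cfsg.IsStemExtension (f.comp e.toMonoidHom) := by
    refine ⟨hf.1.comp e.surjective, fun x hx => ?_, fun x hx => ?_⟩
    · refine Subgroup.mem_center_iff.2 fun y => e.injective ?_
      rw [map_mul, map_mul]
      exact Subgroup.mem_center_iff.1 (hf.2.1 (show e x ∈ f.ker from hx)) (e y)
    · have hm : (commutator K).map e.symm.toMonoidHom ≤ commutator (Shrink.{0} K) := by
        rw [commutator_def, Subgroup.map_commutator, commutator_def]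
        exact Subgroup.commutator_mono le_top le_top
      exact hm ⟨e x, hf.2.2 (show e x ∈ f.ker from hx), e.symm_apply_apply x⟩
  obtain ⟨π, hπ⟩ := hS.2 (Shrink.{0} K) (f.comp e.toMonoidHom) hst
  have hcard : Nat.card f.ker = Nat.card (f.comp e.toMonoidHom).ker := by
    rw [hk, Subgroup.comap_equiv_eq_map_symm']
    exact Nat.card_congr (f.ker.equivMapOfInjective _ e.symm.injective).toEquiv
  rw [hcard]
  exact Subgroup.card_dvd_of_surjective π hπ

theorem natCard_zmod (n : ℕ) : Nat.card (Multiplicative (ZMod n)) = n := by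
  rw [Nat.card_congr Multiplicative.toAdd, Nat.card_zmod]

/-- The list. -/
def Listed (Q : Type u) [Group Q] : Prop :=
  (∃ (F : Type) (_ : Field F) (_ : Fintype F), CharP F 2 ∧ 4 ≤ Fintype.card F ∧
      Nonempty (Q ≃* Matrix.ProjectiveSpecialLinearGroup (Fin 2) F)) ∨
    Cfsg.Lie.IsoSuzuki Q ∨ ∃ n : ℕ, Nonempty (Q ≃* DihedralGroup n)

/-- A finite group generated by two involutions with product of odd order is dihedral. -/
theorem dihedral_of_two {d x : G} (hd : d * d = 1) (hd1 : d ≠ 1) (hx : x * x = 1)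
    (ho : Odd (orderOf (d * x))) (gen : closure ({d, x} : Set G) = ⊤) :
    ∃ n : ℕ, Nonempty (G ≃* DihedralGroup n) := by
  haveI : Fact (Nat.Prime 2) := ⟨Nat.prime_two⟩
  set a := d * x with ha
  set n := orderOf a with hn
  haveI : NeZero n := ⟨(orderOf_pos a).ne'⟩
  have hdi : d⁻¹ = d := inv_eq_of_mul_eq_one_right hd
  have hxi : x⁻¹ = x := inv_eq_of_mul_eq_one_right hx
  have hord : orderOf d = 2 := orderOf_eq_prime (by rw [sq, hd]) hd1
  have hdz : d ∉ zpowers a := fun h => by
    have h2 := orderOf_dvd_natCard _ h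
    rw [hord, Nat.card_zpowers] at h2
    exact Nat.not_even_iff_odd.2 ho (even_iff_two_dvd.2 h2)
  have hdad : d * a * d⁻¹ = a⁻¹ := by
    rw [ha, mul_inv_rev, hdi, hxi, ← mul_assoc d d, hd, one_mul]
  refine ⟨n, CfsgLib.TwoGroups.nonempty_mulEquiv_dihedralGroup (a := a) (b := d) rfl hd hdz hdad ?_⟩
  have hdN : d ∈ normalizer (zpowers a : Set G) := by
    refine mem_normalizer_iff.2 fun y => ⟨fun hy => ?_, fun hy => ?_⟩
    · obtain ⟨i, rfl⟩ := mem_zpowers_iff.1 hy
      rw [← conj_zpow, hdad]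
      exact zpow_mem (inv_mem (mem_zpowers a)) i
    · obtain ⟨i, hi⟩ := mem_zpowers_iff.1 hy
      have : y = d⁻¹ * a ^ i * d := by rw [hi]; group
      rw [this, hdi]
      nth_rewrite 2 [← hdi]
      rw [← conj_zpow, hdad]
      exact zpow_mem (inv_mem (mem_zpowers a)) i
  haveI : (zpowers a).Normal := by
    rw [← normalizer_eq_top_iff, eq_top_iff, ← gen, closure_le]
    rintro y (rfl | rfl)
    · exact hdN
    · have : y = d * a := by rw [ha, ← mul_assoc, hd, one_mul]
      rw [this]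
      exact mul_mem hdN (le_normalizer (mem_zpowers a))
  let π := QuotientGroup.mk' (zpowers a)
  have htop : zpowers (π d) = ⊤ := by
    rw [eq_top_iff, ← map_top_of_surjective π (QuotientGroup.mk'_surjective _), ← gen,
      MonoidHom.map_closure, closure_le]
    rintro _ ⟨y, (rfl | rfl), rfl⟩
    · exact mem_zpowers _
    · have : y = d * a := by rw [ha, ← mul_assoc, hd, one_mul]
      rw [this, map_mul, show π a = 1 from (QuotientGroup.eq_one_iff a).2 (mem_zpowers a), mul_one]
      exact mem_zpowers _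
  have hcard : Nat.card (G ⧸ zpowers a) = 2 := by
    rw [← Subgroup.card_top (G := G ⧸ zpowers a), ← htop, Nat.card_zpowers]
    exact orderOf_eq_prime (by rw [← map_pow, sq, hd, map_one])
      (fun e => hdz ((QuotientGroup.eq_one_iff d).1 e))
  rw [card_eq_card_quotient_mul_card_subgroup (zpowers a), hcard, Nat.card_zpowers]

/-- The case without normal 2-subgroup. -/
theorem listed_of_pair {D E : Set G} {d x : G} (h : Pair D E d x) (hmain : CfsgLib.AschCrit.Main.{u}) :
    (∃ (F : Type) (_ : Field F) (_ : Fintype F), CharP F 2 ∧ 4 ≤ Fintype.card F ∧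
      Nonempty (G ≃* Matrix.ProjectiveSpecialLinearGroup (Fin 2) F)) ∨ Cfsg.Lie.IsoSuzuki G := by
  classical
  haveI : Fact (Nat.Prime 2) := ⟨Nat.prime_two⟩
  have hDD := h.nonempty_products
  have hc := h.connected
  obtain ⟨-, hsimple⟩ := RootInv.radical_and_simple h.hD.1 hc hDD
  have hperf := RootInv.perfect h.hD.1 hc hDD
  set N := twoZCore G with hN
  haveI : IsSimpleGroup (G ⧸ N) := hsimple
  set π := QuotientGroup.mk' N with hπ
  have hNc : N ≤ center G := fun k hk => by
    refine mem_center_iff.2 fun g => ?_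
    have h1 := Subgroup.mem_center_iff.1 (Subgroup.mem_comap.1 hk) (QuotientGroup.mk' (pCore 2 G) g)
    rw [← map_mul, ← map_mul, QuotientGroup.mk'_apply, QuotientGroup.mk'_apply, QuotientGroup.eq, h.hO,
      Subgroup.mem_bot, inv_mul_eq_one] at h1
    exact h1
  have hker : ∀ {g : G}, π g = 1 → g ∈ N := fun {g} e => (QuotientGroup.eq_one_iff g).1 e
  have hk : ∀ a ∈ D, ∀ b ∈ D, Odd (orderOf (a * b)) → π (a * b) = 1 → Commute a b := by
    intro a ha b _ _ e
    have h1 := mem_center_iff.1 (hNc (hker e)) a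
    rw [← mul_assoc a a b, sq_one h.hD ha, one_mul] at h1
    show a * b = b * a
    nth_rewrite 2 [h1]
    rw [mul_assoc, sq_one h.hD ha, mul_one]
  have hone : ∀ a ∈ D, ∀ b ∈ D, ∃ g : G, b = g * a * g⁻¹ := h.one
  have hO' : pCore 2 (G ⧸ N) = ⊥ := by
    rcases IsSimpleGroup.eq_bot_or_eq_top_of_normal (pCore 2 (G ⧸ N)) inferInstance with h0 | h0
    · exact h0
    · exfalso
      have hp : IsPGroup 2 (G ⧸ N) := by
        have h2 := CfsgLib.Core.isPGroup_pCore 2 (G ⧸ N)
        rw [h0] at h2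
        exact h2.of_equiv Subgroup.topEquiv
      obtain ⟨k, hk'⟩ := hp (π (d * x))
      have ho := (odd_of h.hD h.hd h.hx h.hdx).of_dvd_nat (orderOf_map_dvd π (d * x))
      exact h.hdx (hk d h.hd x h.hx (odd_of h.hD h.hd h.hx h.hdx)
        (RootInv.eq_one_of_odd_of_pow ho hk'))
  obtain ⟨e, he, hne⟩ := h.two
  have hP := pair_map π h.hD (QuotientGroup.mk'_surjective N) hk h.one h.hd h.hx h.hdx
    (by rw [← h.hE]; exact h.gen) hO' ⟨e, (show e ∈ sameCommutingClass D d by rw [← h.hE]; exact he), fun e' => hne ?_⟩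
  swap
  · have h1 : e * d ∈ N := hker (by rw [map_mul, e', ← map_mul, sq_one h.hD h.hd, map_one])
    have h2 := mem_center_iff.1 (hNc h1)
    have h3 : e * d = 1 := h.central_one
      (by rw [mul_assoc, ← mul_assoc d, ← (h.commute_d he).eq, mul_assoc e d d, sq_one h.hD h.hd,
        mul_one, sq_one h.hD (h.mem_D he)])
      (fun a _ => (h2 a).symm) (h2 x).symm
    rw [eq_inv_of_mul_eq_one_left h3, inv_eq h.hD h.hd]
  -- the centre is trivial
  have hodd : ∀ z ∈ N, z * z = 1 → z = 1 := fun z hz hz2 =>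
    h.central_one hz2 (fun a _ => (mem_center_iff.1 (hNc hz) a).symm) (mem_center_iff.1 (hNc hz) x).symm
  have hNodd : Odd (Nat.card N) := by
    rw [← Nat.not_even_iff_odd]
    intro hev
    obtain ⟨⟨z, hz⟩, hz2⟩ := exists_prime_orderOf_dvd_card' 2 (even_iff_two_dvd.1 hev)
    rw [Subgroup.orderOf_mk] at hz2
    have := hodd z hz (by rw [← sq, ← hz2, pow_orderOf_eq_one])
    rw [this, orderOf_one] at hz2
    omega
  have bot_of : ∀ m : ℕ, Nat.card N ∣ m → m ∣ 4 → N = ⊥ := fun m h1 h2 => by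
    refine Subgroup.eq_bot_of_card_eq N (Nat.dvd_one.1 ?_)
    have h4 : Nat.card N ∣ 2 ^ 2 := h1.trans h2
    exact (Nat.Coprime.pow_right 2 (Nat.coprime_two_right.2 hNodd)).dvd_of_dvd_mul_left (by simpa using h4)
  have lift : ∀ {S : Type} [Group S], (G ⧸ N ≃* S) → N = ⊥ → Nonempty (G ≃* S) := fun {S} _ i hb =>
    ⟨(((QuotientGroup.quotientMulEquivOfEq hb).trans QuotientGroup.quotientBot).symm).trans i⟩
  have stem : ∀ {S : Type} [Group S] (i : G ⧸ N ≃* S), IsStemExtension (i.toMonoidHom.comp π) ∧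
      (i.toMonoidHom.comp π).ker = N := fun {S} _ i => by
    have hk' : (i.toMonoidHom.comp π).ker = N := by ext g; simp [π]
    exact ⟨⟨i.surjective.comp (QuotientGroup.mk'_surjective N), by rw [hk']; exact hNc, by rw [hperf]; exact le_top⟩, hk'⟩
  rcases hP.family_simple hmain with ⟨F, iF, iFt, hchar, hq, ⟨i⟩⟩ | ⟨F, iF, iFt, m, hm, hF, ⟨i⟩⟩
  · obtain ⟨ep⟩ := CfsgLib.Recog.AffineTwo.psl_equiv_sl F
    obtain ⟨hst, hker'⟩ := stem i
    have hb : N = ⊥ := by
      by_cases h4 : Fintype.card F = 4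
      · obtain ⟨e5⟩ := Cfsg.Agent.S0252.result (F := F) h4
        obtain ⟨hst5, hk5⟩ := stem (i.trans (ep.symm.trans e5))
        have hle := CfsgLib.Char.Exceptional.AltMultiplier.bound_five _ hst5.1 hst5.2.1 hst5.2.2
        rw [hk5] at hle
        refine Subgroup.eq_bot_of_card_eq N ?_
        obtain ⟨j, hj⟩ := hNodd
        omega
      · have h9 : Fintype.card F ≠ 9 := fun h9 => by
          obtain ⟨n, -, hn⟩ := FiniteField.card F 2
          have h2 : 2 ∣ 9 := h9 ▸ hn ▸ dvd_pow_self 2 n.ne_zero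
          omega
        have hd' := stem_card_dvd (Cfsg.Agent.S2117.result h4 h9) _ hst
        rw [hker', natCard_zmod] at hd'
        exact bot_of 1 hd' (by norm_num)
    exact Or.inl ⟨F, iF, iFt, hchar, hq, lift (i.trans ep.symm) hb⟩
  · obtain ⟨hst, hker'⟩ := stem i
    have hb : N = ⊥ := by
      rcases Nat.lt_or_ge m 2 with h2 | h2
      · obtain rfl : m = 1 := by omega
        obtain ⟨hst1, hk1⟩ := stem (i.trans (MulEquiv.subgroupCongr (show Cfsg.Lie.Sz F (2 ^ (1 + 1)) =
          Cfsg.Lie.Sz F 4 by norm_num)))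
        have hd' := stem_card_dvd (Cfsg.Agent.S2112.result (by rw [hF]; norm_num)) _ hst1
        rw [hk1] at hd'
        refine bot_of _ hd' ?_
        rw [Nat.card_congr Multiplicative.toAdd, Nat.card_prod, Nat.card_zmod]
      · have hd' := stem_card_dvd (Cfsg.Agent.S2111.result h2 hF) _ hst
        rw [hker', natCard_zmod] at hd'
        exact bot_of 1 hd' (by norm_num)
    exact Or.inr ⟨F, iF, iFt, m, hm, hF, lift i hb⟩

/-- **The group of a class and one member.** -/
theorem listed_of_gen {D : Set G} (hD : IsOddTranspositionSet D)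
    (one : ∀ a ∈ D, ∀ b ∈ D, ∃ g : G, b = g * a * g⁻¹) {d x : G} (hd : d ∈ D) (hx : x ∈ D)
    (hdx : ¬ Commute d x) (gen : closure (sameCommutingClass D d ∪ {x}) = ⊤)
    (hmain : CfsgLib.AschCrit.Main.{u}) : Listed (G ⧸ pCore 2 G) := by
  haveI : Fact (Nat.Prime 2) := ⟨Nat.prime_two⟩
  set π := QuotientGroup.mk' (pCore 2 G) with hπ
  have h2 : IsPGroup 2 (pCore 2 G) := CfsgLib.Core.isPGroup_pCore 2 G
  have hk : ∀ a ∈ D, ∀ b ∈ D, Odd (orderOf (a * b)) → π (a * b) = 1 → Commute a b := by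
    intro a ha b hb ho e
    obtain ⟨k, hk⟩ := h2 ⟨a * b, (QuotientGroup.eq_one_iff _).1 e⟩
    have : a * b = 1 := RootInv.eq_one_of_odd_of_pow ho (congrArg Subtype.val hk)
    rw [show a = b by rw [eq_inv_of_mul_eq_one_left this, inv_eq hD hb]]
  by_cases two : ∃ e ∈ sameCommutingClass D d, π e ≠ π d
  · have hP := pair_map π hD (QuotientGroup.mk'_surjective _) hk one hd hx hdx gen
      (CfsgLib.Core.pCore_quotient_pCore 2 G) two
    rcases listed_of_pair hP hmain with h | h
    · exact Or.inl h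
    · exact Or.inr (Or.inl h)
  · push Not at two
    have hdx' : ¬ Commute (π d) (π x) := fun hc => hdx ((commute_map_iff π hD hk hd hx).1 hc)
    refine Or.inr (Or.inr (dihedral_of_two (d := π d) (x := π x) (by rw [← map_mul, sq_one hD hd, map_one])
      (fun e => hdx' (e ▸ Commute.one_left _)) (by rw [← map_mul, sq_one hD hx, map_one]) ?_ ?_))
    · rw [← map_mul]
      exact (odd_of hD hd hx hdx).of_dvd_nat (orderOf_map_dvd π _)
    · rw [eq_top_iff, ← map_top_of_surjective π (QuotientGroup.mk'_surjective _), ← gen,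
        MonoidHom.map_closure, closure_le]
      rintro _ ⟨y, (hy | rfl), rfl⟩
      · rw [two y hy]; exact subset_closure (Or.inl rfl)
      · exact subset_closure (Or.inr rfl)

/-- **The rank one subgroup of a class of odd transpositions.** -/
theorem listed {D : Set G} (hD : IsOddTranspositionSet D) {d x : G} (hd : d ∈ D) (hx : x ∈ oddPartners D d)
    (hmain : CfsgLib.AschCrit.Main.{u}) :
    Listed (↥(closure (sameCommutingClass D d ∪ {x})) ⧸
      pCore 2 ↥(closure (sameCommutingClass D d ∪ {x}))) := by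
  set S := sameCommutingClass D d ∪ {x} with hS
  set X := closure S with hX
  have hdS : d ∈ S := Or.inl ⟨hd, rfl⟩
  let dX : X := ⟨d, subset_closure hdS⟩
  let xX : X := ⟨x, subset_closure (Or.inr rfl)⟩
  have hdx : ¬ Commute d x := fun hc => by
    have h2 : (d * x) ^ 2 = 1 := by rw [hc.mul_pow, sq, sq, sq_one hD hd, sq_one hD hx.1, mul_one]
    exact hx.2.1 (by
      rw [eq_inv_of_mul_eq_one_right (RootInv.eq_one_of_odd_of_pow hx.2.2 (k := 1) h2), inv_eq hD hd])
  let D₀ : Set X := {a | ∃ g : X, a = g * xX * g⁻¹}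
  have hmem : ∀ a ∈ D₀, (a : G) ∈ D := by
    rintro a ⟨g, rfl⟩
    exact hD.1.conj_mem x hx.1 (g : G)
  have hcomm : ∀ {a b : X}, Commute a b ↔ Commute (a : G) (b : G) := fun {a b} =>
    ⟨fun hc => congrArg Subtype.val hc.eq, fun hc => Subtype.ext hc.eq⟩
  have hconj : ∀ e : X, (e : G) ∈ sameCommutingClass D d → e ∈ D₀ := by
    intro e he
    have hex : ¬ Commute (e : G) x := fun hc => by
      have := ((Set.ext_iff.1 he.2 x).2 ⟨hx.1, hc.symm⟩).2
      exact hdx (show Commute x d from this).symm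
    obtain ⟨k, hk⟩ := odd_of hD he.1 hx.1 hex
    set t : X := e * xX with ht
    have htt : t ^ (2 * k + 1) = 1 := Subtype.ext (by
      show ((e : G) * x) ^ (2 * k + 1) = 1
      rw [← hk, pow_orderOf_eq_one])
    have hee : e * e = 1 := Subtype.ext (sq_one hD he.1)
    have hxx : xX * xX = 1 := Subtype.ext (sq_one hD hx.1)
    have hei : e⁻¹ = e := inv_eq_of_mul_eq_one_right hee
    have hxi : xX⁻¹ = xX := inv_eq_of_mul_eq_one_right hxx
    have hflip : xX * t ^ k * xX⁻¹ = (t ^ k)⁻¹ := by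
      rw [← conj_pow, ← inv_pow, ht, mul_inv_rev, hei, hxi]
      congr 1
      simp only [mul_assoc, hxx, mul_one]
    refine ⟨t ^ (k + 1), ?_⟩
    have e1 : (t ^ (k + 1))⁻¹ = t ^ k := inv_eq_of_mul_eq_one_right (by
      rw [← pow_add, show k + 1 + k = 2 * k + 1 by omega, htt])
    calc e = t * xX := by rw [ht, mul_assoc, hxx, mul_one]
      _ = t ^ (k + 1) * (t ^ k)⁻¹ * xX := by rw [pow_succ']; group
      _ = t ^ (k + 1) * (xX * t ^ k) := by rw [← hflip]; group
      _ = t ^ (k + 1) * xX * (t ^ (k + 1))⁻¹ := by rw [e1, mul_assoc]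
  have hxD₀ : xX ∈ D₀ := ⟨1, by simp⟩
  have hdD₀ : dX ∈ D₀ := hconj dX ⟨hd, rfl⟩
  have hD₀ : IsOddTranspositionSet D₀ := by
    have ho : ∀ a b : X, orderOf (a * b) = orderOf ((a : G) * b) := fun a b =>
      (Subgroup.orderOf_coe (a * b)).symm
    refine ⟨⟨fun a ha => ?_, ?_, ?_, fun a ha b hb => ?_⟩, fun a ha b hb => ?_⟩
    · rw [← Subgroup.orderOf_coe]; exact hD.1.orderOf_eq _ (hmem a ha)
    · rw [eq_top_iff, ← closure_closure_coe_preimage (k := S), closure_le]
      rintro a (ha | ha)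
      · exact subset_closure (hconj a ha)
      · exact subset_closure ((Subtype.ext ha : a = xX) ▸ hxD₀)
    · rintro a ⟨g, rfl⟩ g'
      exact ⟨g' * g, by group⟩
    · rcases hD.1.pair _ (hmem a ha) _ (hmem b hb) with h | h | h
      · exact Or.inl (Subtype.ext h)
      · exact Or.inr (Or.inl (ho a b ▸ h))
      · exact absurd h.1 (hD.2 _ (hmem a ha) _ (hmem b hb))
    · rw [ho]; exact hD.2 _ (hmem a ha) _ (hmem b hb)
  refine listed_of_gen hD₀ ?_ hdD₀ hxD₀ (fun hc => hdx (hcomm.1 hc)) ?_ hmain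
  · rintro a ⟨g, rfl⟩ b ⟨g', rfl⟩
    exact ⟨g' * g⁻¹, by group⟩
  · rw [eq_top_iff, ← closure_closure_coe_preimage (k := S), closure_le]
    rintro a (ha | ha)
    · refine subset_closure (Or.inl ⟨hconj a ha, ?_⟩)
      ext z
      constructor
      · rintro ⟨hz, hc⟩
        exact ⟨hz, hcomm.2 (((Set.ext_iff.1 ha.2 z).1 ⟨hmem z hz, hcomm.1 hc⟩).2)⟩
      · rintro ⟨hz, hc⟩
        exact ⟨hz, hcomm.2 (((Set.ext_iff.1 ha.2 z).2 ⟨hmem z hz, hcomm.1 hc⟩).2)⟩
    · exact subset_closure (Or.inr (Subtype.ext ha))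

end CfsgLib.ThreeTrans.OddPair
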