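import Mathlib

/-!
Owner: helper5. Pairs of involutions of `L₂(q)`, `q` even: partners with product of order three, transitive commuting.
-/

set_option autoImplicit false
set_option linter.unusedSectionVars false

namespace CfsgLib.ThreeTrans.OddPair

universe u v

/-- Each block has exactly one partner of order `n` for an involution outside. -/
structure Partner (Q : Type u) [Group Q] (n : ℕ) : Prop where
  ex : ∀ a y : Q, a * a = 1 → y * y = 1 → ¬ Commute a y → ∃ b, b * b = 1 ∧ Commute b y ∧ orderOf (a * b) = n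
  uniq : ∀ a b b' : Q, a * a = 1 → b * b = 1 → b' * b' = 1 → Commute b b' → orderOf (a * b) = n →
    orderOf (a * b') = n → b = b'

/-- No element of order four. -/
def NoFour (Q : Type u) [Group Q] : Prop := ∀ g : Q, g ^ 4 = 1 → g ^ 2 = 1

/-- Commuting is transitive on involutions. -/
def TransInv (Q : Type u) [Group Q] : Prop :=
  ∀ a b c : Q, a * a = 1 → b * b = 1 → b ≠ 1 → c * c = 1 → Commute a b → Commute b c → Commute a c

/-- The properties of `L₂(q)`. -/
def TypeL (Q : Type u) [Group Q] : Prop := Partner Q 3 ∧ NoFour Q ∧ TransInv Q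

section Transport

variable {Q : Type u} [Group Q] {P : Type v} [Group P]

theorem Partner.of_equiv {n : ℕ} (h : Partner Q n) (e : P ≃* Q) : Partner P n := by
  constructor
  · intro a y ha hy hn
    obtain ⟨b, hb, hby, ho⟩ := h.ex (e a) (e y) (by rw [← map_mul, ha, map_one]) (by rw [← map_mul, hy, map_one])
      (fun hc => hn (by simpa using hc.map e.symm.toMonoidHom))
    refine ⟨e.symm b, by rw [← map_mul, hb, map_one], by simpa using hby.map e.symm.toMonoidHom, ?_⟩
    rw [← e.orderOf_eq, map_mul, e.apply_symm_apply, ho]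
  · intro a b b' ha hb hb' hc h1 h2
    refine e.injective (h.uniq (e a) (e b) (e b') (by rw [← map_mul, ha, map_one]) (by rw [← map_mul, hb, map_one])
      (by rw [← map_mul, hb', map_one]) (hc.map e.toMonoidHom) ?_ ?_)
    · rw [← map_mul, e.orderOf_eq, h1]
    · rw [← map_mul, e.orderOf_eq, h2]

theorem NoFour.of_injective (h : NoFour Q) (f : P →* Q) (hf : Function.Injective f) : NoFour P :=
  fun g hg => hf (by rw [map_pow, map_one]; exact h (f g) (by rw [← map_pow, hg, map_one]))

theorem TransInv.of_equiv (h : TransInv Q) (e : P ≃* Q) : TransInv P := fun a b c ha hb hb1 hc h1 h2 => by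
  have := h (e a) (e b) (e c) (by rw [← map_mul, ha, map_one]) (by rw [← map_mul, hb, map_one])
    (fun h' => hb1 (e.injective (by rw [h', map_one]))) (by rw [← map_mul, hc, map_one]) (h1.map e.toMonoidHom)
    (h2.map e.toMonoidHom)
  simpa using this.map e.symm.toMonoidHom

theorem TypeL.of_equiv (h : TypeL Q) (e : P ≃* Q) : TypeL P :=
  ⟨h.1.of_equiv e, h.2.1.of_injective e.toMonoidHom e.injective, h.2.2.of_equiv e⟩

end Transport

section SL

variable {F : Type u} [Field F] [CharP F 2]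

local notation "SL₂" => Matrix.SpecialLinearGroup (Fin 2) F

theorem sl_ext {g h : SL₂} (h00 : g.1 0 0 = h.1 0 0) (h01 : g.1 0 1 = h.1 0 1) (h10 : g.1 1 0 = h.1 1 0)
    (h11 : g.1 1 1 = h.1 1 1) : g = h := by
  refine Subtype.ext (Matrix.ext fun i j => ?_)
  fin_cases i <;> fin_cases j <;> assumption

theorem sl_det (g : SL₂) : g.1 0 0 * g.1 1 1 + g.1 0 1 * g.1 1 0 = 1 := by
  have := g.2
  rw [Matrix.det_fin_two, CharTwo.sub_eq_add] at this
  exact this

/-- the trace -/
def str (g : SL₂) : F := g.1 0 0 + g.1 1 1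

theorem sq_entries (g : SL₂) :
    (g * g).1 0 0 = str g * g.1 0 0 + 1 ∧ (g * g).1 0 1 = str g * g.1 0 1 ∧
      (g * g).1 1 0 = str g * g.1 1 0 ∧ (g * g).1 1 1 = str g * g.1 1 1 + 1 := by
  have hd := sl_det g
  have h2 : (2 : F) = 0 := CharTwo.two_eq_zero
  refine ⟨?_, ?_, ?_, ?_⟩ <;>
    simp [Matrix.SpecialLinearGroup.coe_mul, Matrix.mul_apply, Fin.sum_univ_two, str] <;> grind

theorem str_eq_zero {g : SL₂} (hg : g * g = 1) : g.1 1 1 = g.1 0 0 := by
  obtain ⟨e00, e01, e10, e11⟩ := sq_entries g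
  rw [hg] at e00 e01 e10 e11
  have hd := sl_det g
  have h2 : (2 : F) = 0 := CharTwo.two_eq_zero
  simp at e00 e01 e10 e11
  rcases e00 with e | e
  · simp [str] at e; grind
  · rcases e11 with e' | e'
    · simp [str] at e'; grind
    · rw [e, e']

/-- the pairing of two involutions -/
def pairing (g h : SL₂) : F := g.1 0 1 * h.1 1 0 + g.1 1 0 * h.1 0 1

theorem str_mul {g h : SL₂} (hg : g * g = 1) (hh : h * h = 1) : str (g * h) = pairing g h := by
  have h1 := str_eq_zero hg
  have h2 := str_eq_zero hh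
  have h0 : (2 : F) = 0 := CharTwo.two_eq_zero
  simp [str, pairing, Matrix.SpecialLinearGroup.coe_mul, Matrix.mul_apply, Fin.sum_univ_two, h1, h2]
  grind

theorem commute_iff {g h : SL₂} (hg : g * g = 1) (hh : h * h = 1) : Commute g h ↔ pairing g h = 0 := by
  have h1 := str_eq_zero hg
  have h2 := str_eq_zero hh
  have h0 : (2 : F) = 0 := CharTwo.two_eq_zero
  constructor
  · intro hc
    have := congrArg (fun x : SL₂ => x.1 0 0) hc.eq
    simp [pairing, Matrix.mul_apply, Fin.sum_univ_two] at this ⊢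
    grind
  · intro hp
    simp only [pairing] at hp
    refine sl_ext ?_ ?_ ?_ ?_ <;>
      simp [Matrix.mul_apply, Fin.sum_univ_two, h1, h2] <;> grind

theorem order_three_iff {g : SL₂} : orderOf g = 3 ↔ str g = 1 := by
  obtain ⟨e00, e01, e10, e11⟩ := sq_entries g
  have hd := sl_det g
  have h2 : (2 : F) = 0 := CharTwo.two_eq_zero
  have hm : g ^ 3 = g * g * g := by rw [pow_succ, pow_two]
  constructor
  · intro h
    have h3 : g * g * g = 1 := by rw [← hm, ← h, pow_orderOf_eq_one]
    have hne : g ≠ 1 := fun e => by rw [e, orderOf_one] at h; omega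
    have a0 := congrArg (fun x : SL₂ => x.1 0 0) h3
    have a1 := congrArg (fun x : SL₂ => x.1 0 1) h3
    have a2 := congrArg (fun x : SL₂ => x.1 1 0) h3
    have a3 := congrArg (fun x : SL₂ => x.1 1 1) h3
    simp only [Matrix.SpecialLinearGroup.coe_mul, Matrix.SpecialLinearGroup.coe_one] at a0 a1 a2 a3 e00 e01 e10 e11
    rw [Matrix.mul_apply, Fin.sum_univ_two] at a0 a1 a2 a3
    rw [e00, e01] at a0 a1
    rw [e10, e11] at a2 a3
    simp at a0 a1 a2 a3
    by_contra ht
    simp only [str] at a0 a1 a2 a3 ht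
    obtain ⟨τ, hτ⟩ : ∃ τ, τ = g.1 0 0 + g.1 1 1 := ⟨_, rfl⟩
    have hz : τ + 1 ≠ 0 := by grind
    have b1 : (τ + 1) ^ 2 * g.1 0 1 = 0 := by grind
    have b2 : (τ + 1) ^ 2 * g.1 1 0 = 0 := by grind
    have g1 : g.1 0 1 = 0 := (mul_eq_zero.1 b1).resolve_left (pow_ne_zero 2 hz)
    have g2 : g.1 1 0 = 0 := (mul_eq_zero.1 b2).resolve_left (pow_ne_zero 2 hz)
    have b0 : (τ + 1) ^ 2 * g.1 0 0 = τ + 1 := by grind
    have b3 : (τ + 1) ^ 2 * g.1 1 1 = τ + 1 := by grind
    have g03 : g.1 0 0 = g.1 1 1 := mul_left_cancel₀ (pow_ne_zero 2 hz) (b0.trans b3.symm)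
    have g0 : g.1 0 0 = 1 := by
      have : (g.1 0 0 + 1) ^ 2 = 0 := by grind
      exact CharTwo.add_eq_zero.1 (by simpa using this)
    exact hne (sl_ext (by simpa using g0) (by simpa using g1) (by simpa using g2) (by rw [← g03]; simpa using g0))
  · intro h
    haveI : Fact (Nat.Prime 3) := ⟨Nat.prime_three⟩
    refine orderOf_eq_prime ?_ fun e => ?_
    · rw [hm]
      simp only [Matrix.SpecialLinearGroup.coe_mul] at e00 e01 e10 e11
      rw [str] at h e00 e01 e10 e11
      refine sl_ext ?_ ?_ ?_ ?_ <;>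
        simp only [Matrix.SpecialLinearGroup.coe_mul, Matrix.SpecialLinearGroup.coe_one] <;>
        rw [Matrix.mul_apply, Fin.sum_univ_two] <;> simp only [e00, e01, e10, e11] <;> simp <;> grind
    · rw [e] at h
      simp [str] at h

theorem noFour_sl : NoFour SL₂ := by
  intro g hg
  obtain ⟨e00, e01, e10, e11⟩ := sq_entries g
  obtain ⟨f00, f01, f10, f11⟩ := sq_entries (g * g)
  have h2 : (2 : F) = 0 := CharTwo.two_eq_zero
  have hd := sl_det g
  have h4 : g * g * (g * g) = 1 := by rw [← hg]; simp [pow_succ, mul_assoc]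
  rw [h4] at f00 f01 f10 f11
  simp only [Matrix.SpecialLinearGroup.coe_one] at f00 f01 f10 f11
  simp [str, e00, e01, e10, e11] at f00 f01 f10 f11
  rw [sq]
  by_cases ht : str g = 0
  · refine sl_ext ?_ ?_ ?_ ?_ <;> simp [e00, e01, e10, e11, ht]
  · exfalso
    simp only [str] at ht
    obtain ⟨τ, hτ⟩ : ∃ τ, τ = g.1 0 0 + g.1 1 1 := ⟨_, rfl⟩
    grind

theorem typeL_sl : TypeL SL₂ := by
  refine ⟨⟨fun a y ha hy hn => ?_, fun a b b' ha hb hb' hc h1 h2 => ?_⟩, noFour_sl, ?_⟩
  · have h0 : (2 : F) = 0 := CharTwo.two_eq_zero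
    have hy1 := str_eq_zero hy
    have hdy := sl_det y
    have hp : pairing a y ≠ 0 := fun h => hn ((commute_iff ha hy).2 h)
    obtain ⟨l, hl⟩ : ∃ l, l = (pairing a y)⁻¹ := ⟨_, rfl⟩
    let M : Matrix (Fin 2) (Fin 2) F :=
      !![1 + l * (y.1 0 0 + 1), l * y.1 0 1; l * y.1 1 0, 1 + l * (y.1 0 0 + 1)]
    have hM : M.det = 1 := by
      rw [hy1] at hdy
      simp [M, Matrix.det_fin_two]; grind
    let b : SL₂ := ⟨M, hM⟩
    have hb : b * b = 1 := by
      rw [hy1] at hdy
      refine sl_ext ?_ ?_ ?_ ?_ <;> change (M * M) _ _ = (1 : Matrix (Fin 2) (Fin 2) F) _ _ <;>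
        simp [M, Matrix.mul_apply, Fin.sum_univ_two] <;> grind
    refine ⟨b, hb, (commute_iff hb hy).2 (by simp [pairing, b, M]; grind), ?_⟩
    rw [order_three_iff, str_mul ha hb]
    have : pairing a b = l * pairing a y := by simp [pairing, b, M]; ring
    rw [this, hl, inv_mul_cancel₀ hp]
  · rw [order_three_iff, str_mul ha hb] at h1
    rw [order_three_iff, str_mul ha hb'] at h2
    rw [commute_iff hb hb'] at hc
    simp only [pairing] at h1 h2 hc
    have h0 : (2 : F) = 0 := CharTwo.two_eq_zero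
    have e1 : b.1 0 1 = b'.1 0 1 := by grind
    have e2 : b.1 1 0 = b'.1 1 0 := by grind
    have e0 : b.1 0 0 = b'.1 0 0 := by
      have d1 := sl_det b
      have d2 := sl_det b'
      rw [str_eq_zero hb] at d1
      rw [str_eq_zero hb'] at d2
      have : (b.1 0 0 + b'.1 0 0) ^ 2 = 0 := by grind
      exact CharTwo.add_eq_zero.1 (by simpa using this)
    exact sl_ext e0 e1 e2 (by rw [str_eq_zero hb, str_eq_zero hb', e0])
  · intro a b c ha hb hb1 hc h1 h2
    rw [commute_iff ha hb] at h1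
    rw [commute_iff hb hc] at h2
    rw [commute_iff ha hc]
    simp only [pairing] at h1 h2 ⊢
    have h0 : (2 : F) = 0 := CharTwo.two_eq_zero
    have hor : b.1 0 1 ≠ 0 ∨ b.1 1 0 ≠ 0 := by
      by_contra hno
      push Not at hno
      refine hb1 ?_
      have d1 := sl_det b
      rw [str_eq_zero hb, hno.1, zero_mul, add_zero] at d1
      have e : b.1 0 0 = 1 := by
        have : (b.1 0 0 + 1) ^ 2 = 0 := by grind
        exact CharTwo.add_eq_zero.1 (by simpa using this)
      exact sl_ext (by simpa using e) (by simpa using hno.1) (by simpa using hno.2)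
        (by rw [str_eq_zero hb]; simpa using e)
    rcases hor with h | h
    · exact (mul_eq_zero.1 (show b.1 0 1 * (a.1 0 1 * c.1 1 0 + a.1 1 0 * c.1 0 1) = 0 by grind)).resolve_left h
    · exact (mul_eq_zero.1 (show b.1 1 0 * (a.1 0 1 * c.1 1 0 + a.1 1 0 * c.1 0 1) = 0 by grind)).resolve_left h

end SL

end CfsgLib.ThreeTrans.OddPair
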