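import Cfsg.Agent.Lib.Lie.Suzuki.Tori
import Cfsg.Agent.Lib.ThreeTrans.OddPair.PartnerL

/-!
Owner: helper5. Pairs of involutions of a Suzuki group: partners with product of order five, transitive commuting,
elements of order four, none of order three.
-/

set_option autoImplicit false
set_option linter.unusedSectionVars false
set_option linter.style.haveILetI false

namespace CfsgLib.ThreeTrans.OddPair

universe u v

/-- The properties of a Suzuki group. -/
def TypeS (Q : Type u) [Group Q] : Prop :=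
  Partner Q 5 ∧ ¬ NoFour Q ∧ TransInv Q ∧ ∀ g : Q, g ^ 3 = 1 → g = 1

theorem TypeS.of_equiv {Q : Type u} [Group Q] {P : Type v} [Group P] (h : TypeS Q) (e : P ≃* Q) : TypeS P :=
  ⟨h.1.of_equiv e, fun h' => h.2.1 (h'.of_injective e.symm.toMonoidHom e.symm.injective), h.2.2.1.of_equiv e,
    fun g hg => e.injective (by rw [map_one]; exact h.2.2.2 (e g) (by rw [← map_pow, hg, map_one]))⟩

namespace SzModel

open CfsgLib.Lie.Suzuki
open scoped Matrix

variable {F : Type} [Field F] [CharP F 2] [Fintype F] {m : ℕ} (hm : 1 ≤ m) (hF : Fintype.card F = 2 ^ (2 * m + 1))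

local notation "P∞" => pt F m none
local notation "P₀" => pt F m (some ((0 : F), (0 : F)))

include hm in
theorem inv_unip {z : Cfsg.Sz F m} (hz : z * z = 1) (h0 : z • P∞ = P∞) : ∃ b, z = uS hF 0 b := by
  obtain ⟨a, b, t, hk⟩ := stab_inf hF hm h0
  by_cases h1 : z = 1
  · exact ⟨0, by rw [h1, uS_zero_zero hF]⟩
  have ht : t = 1 := by
    by_contra ht
    obtain ⟨x0, y0, hfix⟩ := second_fix hF hm a b ht
    rw [← hk] at hfix
    obtain ⟨p, hp, hpu⟩ := involution_fix hF hm (by rw [sq, hz]) h1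
    have e1 := hpu _ h0
    have e2 := hpu _ hfix
    rw [← e1] at e2
    exact absurd ((pt F m).injective e2) (by simp)
  rw [ht, map_one, mul_one] at hk
  rw [hk, ← sq, uS_sq, uS_eq_one_iff] at hz
  obtain ⟨-, hz⟩ := hz
  have : a = 0 := by
    rcases mul_eq_zero.1 hz with h | h
    · exact (map_eq_zero _).1 h
    · exact h
  exact ⟨b, by rw [hk, this]⟩

theorem uS_zero_left_comm (b a c : F) : Commute (uS hF 0 b) (uS hF a c) := by
  show uS hF 0 b * uS hF a c = uS hF a c * uS hF 0 b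
  rw [uS_mul, uS_mul, zero_add, add_zero, map_zero, zero_mul, mul_zero, add_zero, add_comm b c, add_zero]

include hm hF in
/-- Involutions with a common fixed point commute. -/
theorem commute_of_fix {u v : Cfsg.Sz F m} (hu : u * u = 1) (hv : v * v = 1) {p : Cfsg.suzukiOvoid F m}
    (h1 : u • p = p) (h2 : v • p = p) : Commute u v := by
  haveI := pretransitive hF (m := m)
  obtain ⟨g, rfl⟩ := MulAction.exists_smul_eq (Cfsg.Sz F m) P∞ p
  obtain ⟨b, hb⟩ := inv_unip hm hF (z := g⁻¹ * u * g)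
    (by calc g⁻¹ * u * g * (g⁻¹ * u * g) = g⁻¹ * (u * u) * g := by group
          _ = 1 := by rw [hu]; group)
    (by rw [mul_smul, mul_smul, h1, inv_smul_smul])
  obtain ⟨c, hc⟩ := inv_unip hm hF (z := g⁻¹ * v * g)
    (by calc g⁻¹ * v * g * (g⁻¹ * v * g) = g⁻¹ * (v * v) * g := by group
          _ = 1 := by rw [hv]; group)
    (by rw [mul_smul, mul_smul, h2, inv_smul_smul])
  have hh := uS_zero_left_comm hF b 0 c
  rw [← hb, ← hc] at hh
  have := hh.map (MulAut.conj g).toMonoidHom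
  simpa [mul_assoc] using this

include hm hF in
/-- Commuting involutions fix the same points. -/
theorem fix_of_commute {u v : Cfsg.Sz F m} (hu : u * u = 1) (hu1 : u ≠ 1) (h : Commute u v)
    {p : Cfsg.suzukiOvoid F m} (hp : u • p = p) : v • p = p := by
  obtain ⟨p', -, hu'⟩ := involution_fix hF hm (by rw [sq, hu]) hu1
  rw [hu' _ (smul_of_commute h hp), ← hu' _ hp]

include hm hF in
theorem exists_fix {u : Cfsg.Sz F m} (hu : u * u = 1) :
    ∃ p : Cfsg.suzukiOvoid F m, u • p = p := by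
  by_cases h1 : u = 1
  · exact ⟨P∞, by rw [h1, one_smul]⟩
  · obtain ⟨p, hp, -⟩ := involution_fix hF hm (by rw [sq, hu]) h1
    exact ⟨p, hp⟩

include hm hF in
theorem transInv : TransInv (Cfsg.Sz F m) := by
  intro a b c ha hb hb1 hc h1 h2
  obtain ⟨p, hp⟩ := exists_fix hm hF hb
  exact commute_of_fix hm hF ha hc (fix_of_commute hm hF hb hb1 h1.symm hp) (fix_of_commute hm hF hb hb1 h2 hp)

include hm in
/-- All involutions are conjugate. -/
theorem exists_conj_involution {z : Cfsg.Sz F m} (hz : z * z = 1) (h1 : z ≠ 1) :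
    ∃ g : Cfsg.Sz F m, g * z * g⁻¹ = uS hF 0 1 := by
  obtain ⟨p, hp⟩ := exists_fix hm hF hz
  haveI := pretransitive hF (m := m)
  obtain ⟨g, rfl⟩ := MulAction.exists_smul_eq (Cfsg.Sz F m) P∞ p
  obtain ⟨b, hb⟩ := inv_unip hm hF (z := g⁻¹ * z * g)
    (by calc g⁻¹ * z * g * (g⁻¹ * z * g) = g⁻¹ * (z * z) * g := by group
          _ = 1 := by rw [hz]; group)
    (by rw [mul_smul, mul_smul, hp, inv_smul_smul])
  have hb0 : b ≠ 0 := fun e => h1 (by
    rw [e, uS_zero_zero] at hb
    calc z = g * (g⁻¹ * z * g) * g⁻¹ := by group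
      _ = 1 := by rw [hb]; group)
  obtain ⟨s, hs⟩ := (th_bij (F := F) (m := m)).2 b⁻¹
  have hs0 : s ≠ 0 := fun e => by rw [e, map_zero] at hs; exact inv_ne_zero hb0 hs.symm
  refine ⟨tS hF (Units.mk0 s hs0) * g⁻¹, ?_⟩
  rw [show tS hF (Units.mk0 s hs0) * g⁻¹ * z * (tS hF (Units.mk0 s hs0) * g⁻¹)⁻¹ =
    tS hF (Units.mk0 s hs0) * (g⁻¹ * z * g) * (tS hF (Units.mk0 s hs0))⁻¹ by group, hb, conj_uS, mul_zero,
    Units.val_mk0, hs, inv_mul_cancel₀ hb0]

theorem wS_ne_one : wS hF ≠ 1 := fun e => by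
  have := wS_none hF
  rw [e, one_smul] at this
  exact absurd ((pt F m).injective this) (by simp)

include hm in
/-- Two involutions without common fixed point in normal form. -/
theorem normal_form {u v : Cfsg.Sz F m} (hu : u * u = 1) (hv : v * v = 1) (hn : ¬ Commute u v) :
    ∃ (h : Cfsg.Sz F m) (b : F), h * u * h⁻¹ = wS hF ∧ h * v * h⁻¹ = uS hF 0 b := by
  have hu1 : u ≠ 1 := fun e => hn (e ▸ Commute.one_left v)
  obtain ⟨g1, hg1⟩ := exists_conj_involution hm hF hu hu1
  obtain ⟨g2, hg2⟩ := exists_conj_involution hm hF (wS_mul_self hF) (wS_ne_one hF)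
  set g : Cfsg.Sz F m := g2⁻¹ * g1 with hg
  have hgu : g * u * g⁻¹ = wS hF := by
    rw [hg, show g2⁻¹ * g1 * u * (g2⁻¹ * g1)⁻¹ = g2⁻¹ * (g1 * u * g1⁻¹) * g2 by group, hg1, ← hg2]
    group
  set v' := g * v * g⁻¹ with hv'
  have hv'2 : v' * v' = 1 := by rw [hv', show g * v * g⁻¹ * (g * v * g⁻¹) = g * (v * v) * g⁻¹ by group, hv]; group
  have hn' : ¬ Commute (wS hF) v' := fun hc => hn (by
    rw [hv', ← hgu] at hc
    simpa [mul_assoc] using hc.map (MulAut.conj g⁻¹).toMonoidHom)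
  obtain ⟨p, hp⟩ := exists_fix hm hF hv'2
  obtain ⟨p0, hp0⟩ := exists_fix hm hF (wS_mul_self hF)
  have hpp : p ≠ p0 := fun e => hn' (commute_of_fix hm hF (wS_mul_self hF) hv'2 hp0 (e ▸ hp))
  have hi0 : P∞ ≠ p0 := fun e => by
    have := wS_none hF
    rw [e, hp0, ← e] at this
    exact absurd ((pt F m).injective this) (by simp)
  haveI := pretransitive hF (m := m)
  obtain ⟨k, hk⟩ := MulAction.exists_smul_eq (Cfsg.Sz F m) P∞ p0
  obtain ⟨b0, hb0⟩ := inv_unip hm hF (z := k⁻¹ * wS hF * k)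
    (by calc k⁻¹ * wS hF * k * (k⁻¹ * wS hF * k) = k⁻¹ * (wS hF * wS hF) * k := by group
          _ = 1 := by rw [wS_mul_self]; group)
    (by rw [mul_smul, mul_smul, hk, hp0, inv_smul_eq_iff, hk])
  obtain ⟨_ | ⟨a, c⟩, hy⟩ := (pt F m).surjective (k⁻¹ • p)
  · exact absurd (by rw [← hk, hy, smul_inv_smul]) hpp.symm
  obtain ⟨_ | ⟨a', c'⟩, hi⟩ := (pt F m).surjective (k⁻¹ • P∞)
  · exact absurd ((inv_smul_eq_iff.1 hi.symm).trans hk) hi0
  set n := k * (uS hF a' c' * (uS hF a c)⁻¹) * k⁻¹ with hn2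
  have hnp : n • p = P∞ := by
    rw [hn2, mul_smul, mul_smul, ← hy, mul_smul, inv_smul_eq_iff.2 (uS_zero hF a c).symm, uS_zero, hi,
      smul_inv_smul]
  have hnw : n * wS hF * n⁻¹ = wS hF := by
    have hc := (uS_zero_left_comm hF b0 a' c').mul_right (uS_zero_left_comm hF b0 a c).inv_right
    rw [← hb0] at hc
    have h2 := hc.map (MulAut.conj k).toMonoidHom
    have h3 : Commute (wS hF) n := by simpa [hn2, mul_assoc] using h2
    rw [← h3.eq, mul_inv_cancel_right]
  obtain ⟨b, hb⟩ := inv_unip hm hF (z := n * v' * n⁻¹)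
    (by calc n * v' * n⁻¹ * (n * v' * n⁻¹) = n * (v' * v') * n⁻¹ := by group
          _ = 1 := by rw [hv'2]; group)
    (by rw [mul_smul, mul_smul, inv_smul_eq_iff.2 hnp.symm, hp, hnp])
  refine ⟨n * g, b, ?_, ?_⟩
  · rw [show n * g * u * (n * g)⁻¹ = n * (g * u * g⁻¹) * n⁻¹ by group, hgu, hnw]
  · rw [show n * g * v * (n * g)⁻¹ = n * v' * n⁻¹ by rw [hv']; group, hb]

theorem w_pt_zero_b {b : F} (hb : b ≠ 0) :
    wS hF • pt F m (some ((0 : F), b)) = pt F m (some (b / th F m b, (0 : F))) := by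
  refine smul_pt (wS hF) (c := th F m b) ?_
  show wM *ᵥ _ = _
  rw [wM_some (th_tits hF) (Or.inr hb)]
  simp [fQ]

include hm in
theorem order_five_iff {b : F} : orderOf (uS hF 0 b * wS hF) = 5 ↔ b = 1 := by
  have hw := wS_mul_self hF
  set u := uS hF 0 b with hu
  have hu2 : u * u = 1 := by rw [hu, uS_mul]; simp [uS_zero_zero, CharTwo.add_self_eq_zero]
  set z := u * wS hF with hz
  have hwne := wS_ne_one hF
  by_cases hb : b = 0
  · subst hb
    have : z = wS hF := by rw [hz, hu, uS_zero_zero, one_mul]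
    rw [this]
    constructor
    · intro h5
      haveI : Fact (Nat.Prime 2) := ⟨Nat.prime_two⟩
      rw [orderOf_eq_prime (by rw [sq, hw]) hwne] at h5
      omega
    · intro h; exact absurd h zero_ne_one
  set x4 := b / th F m b with hx4
  have hθ : th F m b ≠ 0 := θ_ne_zero hb
  have hx4ne : x4 ≠ 0 := div_ne_zero hb hθ
  set A := pt F m (some ((0 : F), b)) with hA
  set P3 := pt F m (some (x4, (0 : F))) with hP3
  set P4 := pt F m (some (x4, b)) with hP4
  have u0 : u • P₀ = A := by rw [hu, uS_zero hF]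
  have uA : u • A = P₀ := by rw [← u0, smul_smul, hu2, one_smul]
  have ui : u • P∞ = P∞ := uS_none hF 0 b
  have wA : wS hF • A = P3 := w_pt_zero_b hF hb
  have wP3 : wS hF • P3 = A := by rw [← wA, smul_smul, hw, one_smul]
  have u3 : u • P3 = P4 := by rw [hu, hP3, uS_some, map_zero, zero_mul, add_zero, add_zero, zero_add]
  have u4 : u • P4 = P3 := by rw [← u3, smul_smul, hu2, one_smul]
  have z1 : z • P∞ = A := by rw [hz, mul_smul, wS_none, u0]
  have z2 : z • A = P4 := by rw [hz, mul_smul, wA, u3]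
  have z4 : z • P3 = P₀ := by rw [hz, mul_smul, wP3, uA]
  have z5 : z • P₀ = P∞ := by rw [hz, mul_smul, wS_zero, ui]
  have key : orderOf z = 5 ↔ wS hF • P4 = P4 := by
    constructor
    · intro h5
      have h : z ^ 5 = 1 := by rw [← h5, pow_orderOf_eq_one]
      have e : z • P4 = P3 := by
        have h3 : z ^ 5 • P∞ = P∞ := by rw [h, one_smul]
        simp only [pow_succ', pow_zero, mul_one, mul_smul] at h3
        rw [z1, z2] at h3
        have h4 : z • z • z • P4 = z • z • P3 := h3.trans (by rw [z4, z5])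
        exact MulAction.injective z (MulAction.injective z h4)
      rw [hz, mul_smul] at e
      have := congrArg (u • ·) e
      simpa [smul_smul, hu2, u3, ← mul_assoc] using this
    · intro h
      have z3 : z • P4 = P3 := by rw [hz, mul_smul, h, u4]
      haveI : Fact (Nat.Prime 5) := ⟨by norm_num⟩
      refine orderOf_eq_prime ?_ fun e => ?_
      · refine eq_one_of_fix hF hm (a := P∞) (b := P₀) (c := A) (by simp) (by simp [hA, Ne.symm hb]) (by simp [hA])
          ?_ ?_ ?_ <;>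
        simp only [pow_succ', pow_zero, mul_one, mul_smul, z1, z2, z3, z4, z5]
      · rw [e, one_smul] at z5
        exact absurd ((pt F m).injective z5) (by simp)
  rw [key]
  set f := fQ (th F m) x4 b with hf
  have hf0 : f ≠ 0 := fun e => hb (f_eq_zero (th_tits hF) e).2
  have hmove : wS hF • P4 = pt F m (some (b / f, x4 / f)) := by
    refine smul_pt (wS hF) (c := f) ?_
    show wM *ᵥ _ = _
    rw [wM_some (th_tits hF) (Or.inl hx4ne)]
  rw [hmove, hP4, EmbeddingLike.apply_eq_iff_eq, Option.some.injEq, Prod.mk.injEq]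
  have h2 : (2 : F) = 0 := CharTwo.two_eq_zero
  have hth : th F m x4 = th F m b / b ^ 2 := by rw [hx4, map_div₀, th_tits hF]
  constructor
  · rintro ⟨h1, -⟩
    have hfe : f = th F m b := by
      rw [hx4, div_eq_div_iff hf0 hθ] at h1
      exact (mul_left_cancel₀ hb h1).symm
    rw [hf] at hfe
    simp only [fQ, hth] at hfe
    rw [hx4] at hfe
    field_simp at hfe
    have : (b + 1) ^ 2 = 0 := by grind
    exact CharTwo.add_eq_zero.1 (by simpa using this)
  · intro h
    have hfe : f = 1 := by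
      rw [hf, hx4, h]
      simp [fQ, CharTwo.add_self_eq_zero]
    simp [hfe, hx4, h]

include hm hF in
theorem partner : Partner (Cfsg.Sz F m) 5 := by
  have swap : ∀ a b : Cfsg.Sz F m, a * a = 1 → b * b = 1 → orderOf (a * b) = orderOf (b * a) := fun a b ha hb => by
    rw [← orderOf_inv (a * b), mul_inv_rev, inv_eq_of_mul_eq_one_right ha, inv_eq_of_mul_eq_one_right hb]
  refine ⟨fun a y ha hy hn => ?_, fun a b b' ha hb hb' hc h1 h2 => ?_⟩
  · obtain ⟨h, c, hha, hhy⟩ := normal_form hm hF ha hy hn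
    have hy1 : y ≠ 1 := fun e => hn (e ▸ Commute.one_right a)
    refine ⟨h⁻¹ * uS hF 0 1 * h, ?_, ?_, ?_⟩
    · rw [show h⁻¹ * uS hF 0 1 * h * (h⁻¹ * uS hF 0 1 * h) = h⁻¹ * (uS hF 0 1 * uS hF 0 1) * h by group,
        uS_mul]
      simp [uS_zero_zero, CharTwo.add_self_eq_zero]
    · have := (uS_zero_left_comm hF (1 : F) 0 c).map (MulAut.conj h⁻¹).toMonoidHom
      rw [← hhy] at this
      simpa [mul_assoc] using this
    · rw [← (order_five_iff hm hF).2 (rfl : (1 : F) = 1), ← (MulAut.conj h).orderOf_eq, map_mul]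
      simp only [MulAut.conj_apply]
      rw [hha, show h * (h⁻¹ * uS hF 0 1 * h) * h⁻¹ = uS hF 0 1 by group, swap]
      · exact wS_mul_self hF
      · rw [uS_mul]; simp [uS_zero_zero, CharTwo.add_self_eq_zero]
  · haveI : Fact (Nat.Prime 2) := ⟨Nat.prime_two⟩
    have hnc : ∀ v : Cfsg.Sz F m, v * v = 1 → orderOf (a * v) = 5 → ¬ Commute a v := fun v hv h5 hc' => by
      have : orderOf (a * v) ∣ 2 := orderOf_dvd_of_pow_eq_one (by rw [hc'.mul_pow, sq, sq, ha, hv, mul_one])
      rw [h5] at this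
      exact absurd (Nat.le_of_dvd two_pos this) (by norm_num)
    obtain ⟨h, c, hha, hhb⟩ := normal_form hm hF ha hb (hnc b hb h1)
    have hb1 : b ≠ 1 := fun e => hnc b hb h1 (e ▸ Commute.one_right a)
    have hfix : (h * b * h⁻¹) • P∞ = P∞ := by rw [hhb]; exact uS_none hF 0 c
    have hbb : (h * b * h⁻¹) * (h * b * h⁻¹) = 1 := by
      rw [show h * b * h⁻¹ * (h * b * h⁻¹) = h * (b * b) * h⁻¹ by group, hb]; group
    have hne : h * b * h⁻¹ ≠ 1 := fun e => hb1 (by
      calc b = h⁻¹ * (h * b * h⁻¹) * h := by group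
        _ = 1 := by rw [e]; group)
    obtain ⟨c', hc'⟩ := inv_unip hm hF (z := h * b' * h⁻¹)
      (by rw [show h * b' * h⁻¹ * (h * b' * h⁻¹) = h * (b' * b') * h⁻¹ by group, hb']; group)
      (fix_of_commute hm hF hbb hne (hc.map (MulAut.conj h).toMonoidHom) hfix)
    have val : ∀ v : Cfsg.Sz F m, ∀ e : F, v * v = 1 → h * v * h⁻¹ = uS hF 0 e → orderOf (a * v) = 5 → e = 1 := by
      intro v e hv hev h5
      rw [← order_five_iff hm hF, swap _ _ _ (wS_mul_self hF), ← h5, ← (MulAut.conj h).orderOf_eq (a * v), map_mul]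
      · simp only [MulAut.conj_apply]; rw [hha, hev]
      · rw [uS_mul]; simp [uS_zero_zero, CharTwo.add_self_eq_zero]
    have e1 := val b c hb hhb h1
    have e2 := val b' c' hb' hc' h2
    have : h * b * h⁻¹ = h * b' * h⁻¹ := by rw [hhb, hc', e1, e2]
    simpa using this

include hm hF in
theorem typeS : TypeS (Cfsg.Sz F m) := by
  refine ⟨partner hm hF, fun h => ?_, transInv hm hF, fun g hg => ?_⟩
  · have := h (uS hF 1 0) (uS_pow_four hF 1 0)
    rw [uS_sq, map_one, mul_one, uS_eq_one_iff] at this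
    exact one_ne_zero this.2
  · by_contra h1
    haveI : Fact (Nat.Prime 3) := ⟨Nat.prime_three⟩
    exact not_three_dvd hF hm (by rw [← orderOf_eq_prime hg h1]; exact orderOf_dvd_natCard g)

end SzModel

/-- The properties for every Suzuki group. -/
theorem typeS_of_iso {Q : Type u} [Group Q] (h : Cfsg.Lie.IsoSuzuki Q) : TypeS Q := by
  obtain ⟨F, _, _, m, hm, hF, ⟨e⟩⟩ := h
  haveI := CfsgLib.Lie.Suzuki.charTwo_of_card hF
  exact (SzModel.typeS hm hF).of_equiv (e.trans (CfsgLib.Lie.Suzuki.equivLie hm hF).symm)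

end CfsgLib.ThreeTrans.OddPair
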