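import Cfsg.Agent.Lib.ThreeTrans.OddPair.NoQuad
import Cfsg.Agent.Lib.ThreeTrans.OddPair.PartnerS

/-!
Owner: helper5. The local structure of a Suzuki group at an involution: the block, the Sylow group, a torus.
-/

set_option autoImplicit false
set_option linter.unusedSectionVars false
set_option linter.style.haveILetI false

namespace CfsgLib.ThreeTrans.OddPair

universe u v

/-- The local structure at the involution `a`. -/
def LocalAt {Q : Type u} [Group Q] (a : Q) : Prop :=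
  ∃ U S T : Subgroup Q, Loc U S T ∧ (∀ x, x ∈ U ↔ x * x = 1 ∧ Commute x a) ∧
    (∀ t ∈ T, t ≠ 1 → ∃ i : Q, i * i = 1 ∧ i ≠ 1 ∧ i * t * i = t⁻¹ ∧ ¬ Commute (i * a * i) a) ∧
    ∀ b b' : Q, b * b = 1 → b' * b' = 1 → ¬ Commute b a → ¬ Commute b' a → ∃ g ∈ S, Commute (g * b * g⁻¹) b'

/-- The local structure at all involutions, which are conjugate. -/
def LocalSz (Q : Type u) [Group Q] : Prop :=
  (∀ a b : Q, a * a = 1 → a ≠ 1 → b * b = 1 → b ≠ 1 → ∃ g : Q, b = g * a * g⁻¹) ∧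
    ∀ a : Q, a * a = 1 → a ≠ 1 → LocalAt a

section Transport

variable {Q : Type u} [Group Q] {P : Type v} [Group P]

theorem Loc.map (e : Q ≃* P) {U S T : Subgroup Q} (L : Loc U S T) :
    Loc (U.map e.toMonoidHom) (S.map e.toMonoidHom) (T.map e.toMonoidHom) := by
  have hc : ∀ H : Subgroup Q, Nat.card (H.map e.toMonoidHom) = Nat.card H := fun H =>
    (Nat.card_congr (H.equivMapOfInjective _ e.injective).toEquiv).symm
  constructor
  · rintro _ ⟨x, hx, rfl⟩; rw [← map_mul, L.sqU x hx, map_one]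
  · exact Subgroup.map_mono L.le
  · rintro _ ⟨g, hg, rfl⟩; exact ⟨_, L.sqS g hg, map_mul _ _ _⟩
  · rintro _ ⟨g, hg, rfl⟩ h
    exact ⟨g, L.four g hg (e.injective (by rw [map_mul, map_one]; exact h)), rfl⟩
  · rintro _ ⟨g, hg, rfl⟩ _ ⟨x, hx, rfl⟩; exact (L.comm g hg x hx).map e.toMonoidHom
  · rw [hc, hc]; exact L.cardS
  · rw [hc, hc]; exact L.cardT
  · rw [hc]; exact L.two
  · rintro _ ⟨t, ht, rfl⟩ _ ⟨x, hx, rfl⟩; exact ⟨_, L.normU t ht x hx, by simp⟩
  · rintro _ ⟨t, ht, rfl⟩ _ ⟨g, hg, rfl⟩; exact ⟨_, L.normS t ht g hg, by simp⟩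
  · rintro _ ⟨t, ht, rfl⟩ h1 _ ⟨x, hx, rfl⟩ hx1 h
    refine L.fpf t ht (fun e1 => h1 (by rw [e1, map_one])) x hx (fun e1 => hx1 (by rw [e1, map_one]))
      (e.injective ?_)
    simpa using h

theorem LocalAt.map (e : Q ≃* P) {a : Q} (h : LocalAt a) : LocalAt (e a) := by
  obtain ⟨U, S, T, L, hU, hT, hS⟩ := h
  have hcm : ∀ x y : Q, Commute (e x) (e y) ↔ Commute x y := fun x y =>
    ⟨fun h => by simpa using h.map e.symm.toMonoidHom, fun h => h.map e.toMonoidHom⟩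
  refine ⟨_, _, _, L.map e, fun x => ?_, ?_, fun b b' hb hb' hba hb'a => ?_⟩
  · obtain ⟨x, rfl⟩ := e.surjective x
    rw [Subgroup.mem_map_equiv, e.symm_apply_apply, hU, hcm, ← map_mul, map_eq_one_iff _ e.injective]
  · rintro _ ⟨t, ht, rfl⟩ h1
    obtain ⟨i, hi, hi1, hit, hn⟩ := hT t ht fun e1 => h1 (by rw [e1, map_one])
    refine ⟨e i, by rw [← map_mul, hi, map_one], fun e1 => hi1 (e.injective (by rw [e1, map_one])), ?_, ?_⟩
    · simp only [MulEquiv.coe_toMonoidHom, ← map_mul, hit, map_inv]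
    · rwa [← map_mul, ← map_mul, hcm]
  · obtain ⟨b, rfl⟩ := e.surjective b
    obtain ⟨b', rfl⟩ := e.surjective b'
    rw [hcm] at hba hb'a
    obtain ⟨g, hg, hgc⟩ := hS b b' (e.injective (by rw [map_mul, map_one]; exact hb))
      (e.injective (by rw [map_mul, map_one]; exact hb')) hba hb'a
    exact ⟨e g, ⟨g, hg, rfl⟩, by rw [← map_inv, ← map_mul, ← map_mul, hcm]; exact hgc⟩

theorem LocalSz.of_equiv (h : LocalSz Q) (e : P ≃* Q) : LocalSz P := by
  refine ⟨fun a b ha ha1 hb hb1 => ?_, fun a ha ha1 => ?_⟩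
  · obtain ⟨g, hg⟩ := h.1 (e a) (e b) (by rw [← map_mul, ha, map_one])
      (fun e1 => ha1 (e.injective (by rw [e1, map_one]))) (by rw [← map_mul, hb, map_one])
      (fun e1 => hb1 (e.injective (by rw [e1, map_one])))
    exact ⟨e.symm g, e.injective (by simpa using hg)⟩
  · have := (h.2 (e a) (by rw [← map_mul, ha, map_one]) (fun e1 => ha1 (e.injective (by rw [e1, map_one])))).map
      e.symm
    rwa [e.symm_apply_apply] at this

end Transport

namespace SzModel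

open CfsgLib.Lie.Suzuki

variable {F : Type} [Field F] [CharP F 2] [Fintype F] {m : ℕ} (hm : 1 ≤ m) (hF : Fintype.card F = 2 ^ (2 * m + 1))

include hm in
theorem localAt_root : LocalAt (uS hF 0 1) := by
  let ι : Multiplicative F →* Cfsg.Sz F m :=
    ⟨⟨fun b => uS hF 0 b.toAdd, uS_zero_zero hF⟩, fun b c => by
      show uS hF 0 (b.toAdd + c.toAdd) = uS hF 0 b.toAdd * uS hF 0 c.toAdd
      rw [uS_mul, map_zero, zero_mul, add_zero, add_zero]⟩
  have hι : ∀ g, g ∈ ι.range ↔ ∃ b, g = uS hF 0 b :=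
    fun g => ⟨fun ⟨b, hb⟩ => ⟨b.toAdd, hb.symm⟩, fun ⟨b, hb⟩ => ⟨Multiplicative.ofAdd b, hb.symm⟩⟩
  have hsq : ∀ b : F, uS hF 0 b * uS hF 0 b = 1 := fun b => by
    rw [uS_mul]; simp [uS_zero_zero, CharTwo.add_self_eq_zero]
  have h01 : uS hF (0 : F) 1 ≠ 1 := fun e => one_ne_zero ((uS_eq_one_iff hF).1 e).2
  have hinj : Function.Injective ι := fun b c h => Multiplicative.toAdd.injective (uS_inj hF h).2
  have hcard : Nat.card ι.range = Fintype.card F := by
    rw [← Nat.card_congr (MonoidHom.ofInjective hinj).toEquiv, Nat.card_congr Multiplicative.toAdd, Nat.card_eq_fintype_card]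
  have hfix : ∀ x : Cfsg.Sz F m, x * x = 1 → Commute x (uS hF 0 1) → x • pt F m none = pt F m none :=
    fun x _ hc => fix_of_commute hm hF (hsq 1) h01 hc.symm (uS_none hF 0 1)
  refine ⟨ι.range, unip hF, (tS hF).range, ⟨?_, ?_, ?_, ?_, ?_, ?_, ?_, ?_, ?_, ?_, ?_⟩, fun x => ?_, ?_, ?_⟩
  · intro x hx
    obtain ⟨b, rfl⟩ := (hι x).1 hx
    exact hsq b
  · intro x hx
    obtain ⟨b, rfl⟩ := (hι x).1 hx
    exact uS_mem hF _ _
  · rintro g ⟨a, b, rfl⟩
    exact (hι _).2 ⟨th F m a * a, by rw [← sq, uS_sq]⟩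
  · rintro g ⟨a, b, rfl⟩ h
    rw [← sq, uS_sq, uS_eq_one_iff] at h
    refine (hι _).2 ⟨b, ?_⟩
    rcases mul_eq_zero.1 h.2 with h' | h'
    · rw [(map_eq_zero _).1 h']
    · rw [h']
  · rintro g ⟨a, b, rfl⟩ x hx
    obtain ⟨c, rfl⟩ := (hι x).1 hx
    exact (uS_zero_left_comm hF c a b).symm
  · rw [card_unip, hcard, sq]
  · have hinjT : Function.Injective (tS hF) := fun s t h => by
      have := (uS_tS_inj hF (a := 0) (b := 0) (a' := 0) (b' := 0) (t := s) (t' := t) (by rw [h])).2.2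
      exact this
    rw [hcard, ← Nat.card_congr (MonoidHom.ofInjective hinjT).toEquiv, Nat.card_units, Nat.card_eq_fintype_card]
    have : 0 < Fintype.card F := Fintype.card_pos
    omega
  · rw [hcard, hF]
    calc 2 = 2 ^ 1 := rfl
      _ < 2 ^ (2 * m + 1) := Nat.pow_lt_pow_right (by norm_num) (by omega)
  · rintro _ ⟨t, rfl⟩ x hx
    obtain ⟨b, rfl⟩ := (hι x).1 hx
    exact (hι _).2 ⟨th F m t * b, by rw [conj_uS, mul_zero]⟩
  · rintro _ ⟨t, rfl⟩ g ⟨a, b, rfl⟩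
    rw [conj_uS]; exact uS_mem hF _ _
  · rintro _ ⟨t, rfl⟩ ht x hx hx1 h
    obtain ⟨b, rfl⟩ := (hι x).1 hx
    rw [conj_uS] at h
    have hb : b ≠ 0 := fun e => hx1 (by rw [e, uS_zero_zero])
    have h2 := (uS_inj hF h).2
    have : th F m (t : F) = th F m 1 := by rw [map_one]; exact (mul_eq_right₀ hb).1 h2
    exact ht (by rw [Units.ext (show (t : F) = ((1 : Fˣ) : F) from th_bij.1 this), map_one])
  · rw [hι]
    constructor
    · rintro ⟨b, rfl⟩
      exact ⟨hsq b, uS_zero_left_comm hF b 0 1⟩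
    · rintro ⟨hx, hc⟩
      exact inv_unip hm hF hx (hfix x hx hc)
  · rintro _ ⟨t, rfl⟩ _
    refine ⟨wS hF, wS_mul_self hF, wS_ne_one hF, wS_tS hF t, fun hc => ?_⟩
    have hw := wS_mul_self hF
    have h1 := hfix _ (by
      simp only [mul_assoc]; rw [← mul_assoc (wS hF) (wS hF), hw, one_mul, ← mul_assoc (uS hF 0 1), hsq, one_mul, hw])
      hc
    rw [mul_smul, mul_smul, wS_none, uS_zero] at h1
    have := congrArg (wS hF • ·) h1
    simp only [smul_smul, hw, one_smul, wS_none] at this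
    exact one_ne_zero (α := F) (by simpa using (pt F m).injective this)
  · intro b b' hb hb' hba hb'a
    have key : ∀ c : Cfsg.Sz F m, c * c = 1 → ¬ Commute c (uS hF 0 1) →
        ∃ x y : F, c • pt F m (some (x, y)) = pt F m (some (x, y)) := by
      intro c hc hn
      obtain ⟨p, hp⟩ := exists_fix hm hF hc
      obtain ⟨_ | ⟨x, y⟩, rfl⟩ := (pt F m).surjective p
      · exact absurd (commute_of_fix hm hF hc (hsq 1) hp (uS_none hF 0 1)) hn
      · exact ⟨x, y, hp⟩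
    obtain ⟨x, y, hp⟩ := key b hb hba
    obtain ⟨x', y', hp'⟩ := key b' hb' hb'a
    set g := uS hF x' y' * (uS hF x y)⁻¹ with hg
    refine ⟨g, mul_mem (uS_mem hF _ _) (inv_mem (uS_mem hF _ _)), commute_of_fix hm hF
      (by rw [show g * b * g⁻¹ * (g * b * g⁻¹) = g * (b * b) * g⁻¹ by group, hb]; group) hb' ?_ hp'⟩
    have hgp : g • pt F m (some (x, y)) = pt F m (some (x', y')) := by
      rw [hg, mul_smul, inv_smul_eq_iff.2 (uS_zero hF x y).symm, uS_zero]
    rw [← hgp, mul_smul, mul_smul, inv_smul_smul, hp]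

include hm hF in
theorem localSz : LocalSz (Cfsg.Sz F m) := by
  refine ⟨fun a b ha ha1 hb hb1 => ?_, fun a ha ha1 => ?_⟩
  · obtain ⟨g, hg⟩ := exists_conj_involution hm hF ha ha1
    obtain ⟨g', hg'⟩ := exists_conj_involution hm hF hb hb1
    refine ⟨g'⁻¹ * g, ?_⟩
    calc b = g'⁻¹ * (g' * b * g'⁻¹) * g' := by group
      _ = g'⁻¹ * (g * a * g⁻¹) * g' := by rw [hg', hg]
      _ = _ := by group
  · obtain ⟨g, hg⟩ := exists_conj_involution hm hF ha ha1
    have := (localAt_root hm hF).map (MulAut.conj g⁻¹)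
    rwa [MulAut.conj_apply, ← hg, show g⁻¹ * (g * a * g⁻¹) * g⁻¹⁻¹ = a by group] at this

end SzModel

/-- The local structure of every Suzuki group. -/
theorem localSz_of_iso {Q : Type u} [Group Q] (h : Cfsg.Lie.IsoSuzuki Q) : LocalSz Q := by
  obtain ⟨F, _, _, m, hm, hF, ⟨e⟩⟩ := h
  haveI := CfsgLib.Lie.Suzuki.charTwo_of_card hF
  exact (SzModel.localSz hm hF).of_equiv (e.trans (CfsgLib.Lie.Suzuki.equivLie hm hF).symm)

end CfsgLib.ThreeTrans.OddPair
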