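import Cfsg.Agent.Lib.ThreeTrans.OddPair.Block

/-!
Owner: helper5. A path of length three of commuting members whose middle pair has a product of order three shortens;
so a class without configurations of Suzuki type has commuting graph of diameter two on each component.
-/

set_option autoImplicit false
set_option linter.unusedSectionVars false
set_option linter.style.haveILetI false

namespace CfsgLib.ThreeTrans.OddPair

open Subgroup Cfsg

universe u

variable {G : Type u} [Group G] [Finite G] {D : Set G}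

namespace Deg

variable (hG : Deg D)
include hG

/-- **A path of length three shortens.** -/
theorem shorten {d c a x : G} (hd : d ∈ D) (hc : c ∈ D) (ha : a ∈ D) (hx : x ∈ D) (hdc : Commute d c)
    (hca : Commute c a) (hax : Commute a x) (hda : ¬ Commute d a) (hcx : ¬ Commute c x) (hdx : ¬ Commute d x)
    (h3 : Three D d a) :
    ∃ e ∈ D, Commute e d ∧ Commute e x ∧ ∃ g ∈ closure (sameCommutingClass D d ∪ sameCommutingClass D a ∪ {c, x}),
      e = g * c * g⁻¹ := by
  have hD := hG.hD
  obtain ⟨htD, htc, -, htX⟩ := mid_swap hD hc hx hcx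
  set t := mid c x with ht
  have hat : Commute a t := commute_mid hca.symm hax
  have htt := sq_one hD htD
  have htc' : ¬ Commute t c := fun e => hcx (by
    have : x = c := by rw [← htc, e.eq, mul_assoc, htt, mul_one]
    rw [this])
  have htd : ¬ Commute t d := fun e => hdx (by
    rw [← htc]
    exact (e.symm.mul_right hdc).mul_right e.symm)
  have hda' : ¬ Commute a d := fun e => hda e.symm
  obtain ⟨a₁, ha₁, hcore⟩ := hG.exists_congr ha htD hd hat hda' htd (self_mem_class htD)
  obtain ⟨n, d₁, hd₁, ho, hn⟩ := hG.exists_partner_exact ha hd hda' ha₁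
  obtain rfl : n = 3 := (hn.resolve_right fun h => h.1 (three_symm hD h3)).2
  obtain ⟨hK, -⟩ := hG.rk_triple ha htD hd hat hda' htd
  obtain ⟨hEa, hEd⟩ := hG.triple_mem (f := t) ha hd hda'
  obtain ⟨hEt, -⟩ := hG.triple_mem (f := a) htD hd htd
  rw [Kp_comm t a d] at hEt
  have haa := sq_one hD ha₁.1
  have hdd := sq_one hD hd₁.1
  have h6 : (a₁ * d₁) * (a₁ * d₁) * (a₁ * d₁) = 1 := by
    rw [← pow_orderOf_eq_one (a₁ * d₁), ho, pow_succ, pow_succ, pow_one]
  have hbraid : a₁ * d₁ * a₁ = d₁ * a₁ * d₁ := by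
    have h := eq_inv_of_mul_eq_one_left (show a₁ * d₁ * a₁ * (d₁ * a₁ * d₁) = 1 by
      simpa only [mul_assoc] using h6)
    rwa [mul_inv_rev, mul_inv_rev, inv_eq hD hd₁.1, inv_eq hD ha₁.1, ← mul_assoc] at h
  set s := a₁ * d₁ * a₁ with hs
  have hsD : s ∈ D := conj_mem hD hd₁.1 haa
  have hsc : Commute s c := by
    have h1 : Commute a₁ c := ((class_iff ha₁ hc).2 hca).symm
    exact (h1.mul_left ((class_iff hd₁ hc).2 hdc.symm).symm).mul_left h1
  -- the order of `s t`
  set π := QuotientGroup.mk' (pCore 2 (Kp D a t d))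
  have haK := hK.mem a₁ (hEa a₁ ha₁)
  have htK := hK.mem t (hEt t (self_mem_class htD))
  have hdK := hK.mem d₁ (hEd d₁ hd₁)
  have heq : π ⟨t, htK⟩ = π ⟨a₁, haK⟩ := by
    have h1 := (mem_core2 (mul_mem haK htK)).1 hcore
    have h2 : π (⟨a₁, haK⟩ * ⟨t, htK⟩) = 1 := (QuotientGroup.eq_one_iff _).2 h1
    rw [map_mul] at h2
    rw [eq_inv_of_mul_eq_one_right h2, inv_eq_of_mul_eq_one_right (hK.img_sq hD (hEa a₁ ha₁))]
  let S : Kp D a t d := ⟨a₁, haK⟩ * ⟨d₁, hdK⟩ * ⟨a₁, haK⟩
  let T : Kp D a t d := ⟨t, htK⟩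
  have hST : π (S * T) = π (⟨a₁, haK⟩ * ⟨d₁, hdK⟩) := by
    simp only [S, T, map_mul, heq]
    rw [mul_assoc, hK.img_sq hD (hEa a₁ ha₁), mul_one]
  have hnad : π (⟨a₁, haK⟩ * ⟨d₁, hdK⟩) ≠ 1 := fun e => by
    rw [map_mul] at e
    have := hK.ker a₁ (hEa a₁ ha₁) d₁ (hEd d₁ hd₁)
      (by rw [eq_inv_of_mul_eq_one_left e, inv_eq_of_mul_eq_one_right (hK.img_sq hD (hEd d₁ hd₁))])
    exact hda' ((class_iff hd₁ ha).1 ((class_iff ha₁ hd₁.1).1 this.symm).symm)
  have h3' : π (⟨a₁, haK⟩ * ⟨d₁, hdK⟩) ^ 3 = 1 := by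
    rw [← map_pow, show ((⟨a₁, haK⟩ : Kp D a t d) * ⟨d₁, hdK⟩) ^ 3 = 1 from
      Subtype.ext (by show (a₁ * d₁) ^ 3 = 1; rw [← ho, pow_orderOf_eq_one]), map_one]
  have hnst : ¬ Commute s t := fun e => hnad (by
    have h2 : π (S * T) ^ 2 = 1 := by
      rw [← map_pow, show (S * T) ^ 2 = 1 from Subtype.ext (by
        show (s * t) ^ 2 = 1
        rw [e.mul_pow, sq, sq, sq_one hD hsD, htt, mul_one]), map_one]
    rw [hST] at h2
    rwa [pow_succ, h2, one_mul] at h3')
  have hST3 : orderOf (S * T) = 3 := by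
    refine orderOf_exact (by rw [← Subgroup.orderOf_coe]; exact odd_of hD hsD htD hnst) ?_
    haveI : Fact (Nat.Prime 3) := ⟨Nat.prime_three⟩
    rw [show (QuotientGroup.mk' (pCore 2 (Kp D a t d))) (S * T) = π (S * T) from rfl, hST]
    exact orderOf_eq_prime h3' hnad
  have h9 : (s * t) * (s * t) * (s * t) = 1 := by
    have := congrArg Subtype.val (pow_orderOf_eq_one (S * T))
    rw [hST3] at this
    rw [← show ((S * T) ^ 3 : Kp D a t d).1 = (s * t) * (s * t) * (s * t) by
      simp [S, T, hs, pow_succ, mul_assoc]]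
    exact this
  have hss := sq_one hD hsD
  refine ⟨s * t * s, conj_mem hD htD hss, ?_, ?_, ?_⟩
  · -- `e` and `d`
    have hsd₁ : s * d₁ * s = a₁ := by
      rw [hbraid]
      have := h6
      calc d₁ * a₁ * d₁ * d₁ * (d₁ * a₁ * d₁) = d₁ * (a₁ * d₁ * a₁) * d₁ := by
            simp only [mul_assoc]; rw [← mul_assoc d₁ d₁, hdd, one_mul]
        _ = a₁ := by
          show d₁ * s * d₁ = a₁
          rw [hbraid]; simp only [← mul_assoc, hdd, one_mul]; rw [mul_assoc, hdd, mul_one]
    have hsds : s * d * s ∈ sameCommutingClass D a := by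
      have hdd₁ : d ∈ sameCommutingClass D d₁ := by rw [class_eq hd₁]; exact self_mem_class hd
      have := class_conj hD s hdd₁
      rwa [inv_eq hD hsD, hsd₁, class_eq ha₁] at this
    have h1 : Commute t (s * d * s) := (class_iff hsds htD).2 hat.symm
    have h2 := h1.map (MulAut.conj s).toMonoidHom
    simp only [MulEquiv.coe_toMonoidHom, MulAut.conj_apply, inv_eq hD hsD] at h2
    rwa [show s * (s * d * s) * s = d by simp only [← mul_assoc, hss, one_mul]; rw [mul_assoc, hss, mul_one]] at h2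
  · -- `e` and `x`
    have e1 : t * (s * t * s) * t = s := by
      have := congrArg (s * ·) h9
      simp only [mul_one, ← mul_assoc, hss, one_mul] at this
      simpa only [mul_assoc] using this
    have h2 := hsc.map (MulAut.conj t).toMonoidHom
    simp only [MulEquiv.coe_toMonoidHom, MulAut.conj_apply, inv_eq hD htD] at h2
    rw [htc] at h2
    rwa [show t * s * t = s * t * s by
      conv_lhs => rw [← e1]
      simp only [← mul_assoc, htt, one_mul]; rw [mul_assoc, htt, mul_one]] at h2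
  · obtain ⟨k, hk⟩ := odd_of hD htD hc htc'
    obtain ⟨hqD, hqc, -, hq⟩ := mid_swap hD hc htD fun e => htc' e.symm
    set U := closure (sameCommutingClass D d ∪ sameCommutingClass D a ∪ {c, x}) with hU
    have hsub : ({c, x} : Set G) ⊆ U := fun z hz => Subgroup.subset_closure (Or.inr hz)
    have htU : t ∈ U := (closure_le U).2 hsub htX
    have hqU : mid c t ∈ U := (closure_le U).2
      (Set.insert_subset_iff.2 ⟨hsub (Set.mem_insert c _), Set.singleton_subset_iff.2 htU⟩) hq
    have hsU : s ∈ U := mul_mem (mul_mem (Subgroup.subset_closure (Or.inl (Or.inr ha₁)))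
      (Subgroup.subset_closure (Or.inl (Or.inl hd₁)))) (Subgroup.subset_closure (Or.inl (Or.inr ha₁)))
    refine ⟨s * mid c t, mul_mem hsU hqU, ?_⟩
    rw [mul_inv_rev, inv_eq hD hqD, inv_eq hD hsD]
    conv_lhs => rw [← hqc]
    simp only [mul_assoc]

/-- No configuration of Suzuki type in a class `clsIn U y`: then distance at most two along commuting paths. -/
theorem near {U : Subgroup G} {y : G} (hy : y ∈ D) (hyU : y ∈ U)
    (hE : ∀ v ∈ clsIn U y, ∀ e ∈ sameCommutingClass D v, e ∈ U)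
    (hS : ∀ d ∈ clsIn U y, ∀ a ∈ clsIn U y, ∀ c ∈ clsIn U y, ∀ t ∈ clsIn U y, ¬ Commute d a → Commute c d →
      Commute c a → Commute t a → ¬ Commute t c → ¬ Commute t d → Three D d a)
    {u v : G} (hu : u ∈ clsIn U y) (h : Relation.ReflTransGen (CommAdj (clsIn U y)) u v) :
    Commute u v ∨ ∃ r ∈ clsIn U y, Commute r u ∧ Commute r v := by
  have hmemD : ∀ w ∈ clsIn U y, w ∈ D := by
    rintro w ⟨g, -, rfl⟩; exact hG.hD.1.conj_mem y hy g
  have hmemU : ∀ w ∈ clsIn U y, w ∈ U := by
    rintro w ⟨g, hg, rfl⟩; exact mul_mem (mul_mem hg hyU) (inv_mem hg)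
  induction h with
  | refl => exact Or.inl (Commute.refl u)
  | @tail w v _ hwv ih =>
    obtain ⟨hw, hv, -, hwv⟩ := hwv
    rcases ih with h1 | ⟨r, hr, hru, hrw⟩
    · exact Or.inr ⟨w, hw, h1.symm, hwv⟩
    by_cases huw : Commute u w
    · exact Or.inr ⟨w, hw, huw.symm, hwv⟩
    by_cases hrv : Commute r v
    · exact Or.inr ⟨r, hr, hru, hrv⟩
    by_cases huv : Commute u v
    · exact Or.inl huv
    have hrD := hmemD r hr
    have hvD := hmemD v hv
    obtain ⟨htD, htr, -, htX⟩ := mid_swap hG.hD hrD hvD hrv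
    set t := mid r v
    have htU : t ∈ U := (closure_le U).2
      (Set.insert_subset_iff.2 ⟨hmemU r hr, Set.singleton_subset_iff.2 (hmemU v hv)⟩) htX
    have htw : Commute t w := (commute_mid hrw.symm hwv).symm
    have htr' : ¬ Commute t r := fun e => hrv (by
      have : v = r := by rw [← htr, e.eq, mul_assoc, sq_one hG.hD htD, mul_one]
      rw [this])
    have htu : ¬ Commute t u := fun e => huv (by
      rw [← htr]
      exact (e.symm.mul_right hru.symm).mul_right e.symm)
    have htC : t ∈ clsIn U y := mem_clsIn_of_not_commute hG.hD hr hyU hy htD htU fun e => htr' e.symm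
    obtain ⟨e, -, heu, hev, g, hg, rfl⟩ := hG.shorten (hmemD u hu) hrD (hmemD w hw) hvD hru.symm hrw hwv huw hrv
      huv (hS u hu w hw r hr t htC huw hru hrw htw htr' htu)
    refine Or.inr ⟨_, clsIn_conj hr ((closure_le U).2 ?_ hg), heu, hev⟩
    rintro z ((hz | hz) | hz)
    · exact hE u hu z hz
    · exact hE w hw z hz
    · rcases hz with rfl | rfl
      exacts [hmemU _ hr, hmemU _ hv]

end Deg

end CfsgLib.ThreeTrans.OddPair
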