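import Mathlib

/-!
Owner: helper5. No module of characteristic two for a group with the local structure of a Suzuki group carries an
anisotropic quadratic map, invariant under the stabiliser of a block, with values in a group of the size of a block.
-/

set_option autoImplicit false
set_option linter.unusedSectionVars false

namespace CfsgLib.ThreeTrans.OddPair

universe u v w

/-- The local structure at the block `U`: `S` the Sylow group, `T` a torus. -/
structure Loc {Q : Type u} [Group Q] (U S T : Subgroup Q) : Prop where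
  sqU : ∀ x ∈ U, x * x = 1
  le : U ≤ S
  sqS : ∀ g ∈ S, g * g ∈ U
  four : ∀ g ∈ S, g * g = 1 → g ∈ U
  comm : ∀ g ∈ S, ∀ x ∈ U, Commute g x
  cardS : Nat.card S = Nat.card U * Nat.card U
  cardT : Nat.card T + 1 = Nat.card U
  two : 2 < Nat.card U
  normU : ∀ t ∈ T, ∀ x ∈ U, t * x * t⁻¹ ∈ U
  normS : ∀ t ∈ T, ∀ g ∈ S, t * g * t⁻¹ ∈ S
  fpf : ∀ t ∈ T, t ≠ 1 → ∀ x ∈ U, x ≠ 1 → t * x * t⁻¹ ≠ x

/-- The properties of the quadratic map. -/
structure Quad {Q : Type u} [Group Q] (U : Subgroup Q) {V : Type v} [CommGroup V] {M : Type w} [CommGroup M]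
    (φ : Q →* MulAut V) (J : Subgroup V) (h : Q → V → M) (B : V → V → M) : Prop where
  sqV : ∀ x : V, x * x = 1
  mem : ∀ a ∈ U, ∀ x : V, φ a x * x ∈ J
  fix : ∀ a ∈ U, ∀ x ∈ J, φ a x = x
  ker : ∀ a ∈ U, ∀ x : V, h a x = 1 → φ a x = x
  vanish : ∀ a ∈ U, ∀ x ∈ J, h a x = 1
  mul : ∀ a ∈ U, ∀ b ∈ U, ∀ x : V, h (a * b) x = h a x * h b x
  add : ∀ a ∈ U, ∀ x y : V, h a (x * y) = h a x * h a y * B x (φ a y * y)
  left : ∀ x y : V, ∀ z ∈ J, B (x * y) z = B x z * B y z
  right : ∀ x : V, ∀ y ∈ J, ∀ z ∈ J, B x (y * z) = B x y * B x z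
  inv : ∀ g : Q, (∀ a ∈ U, g * a * g⁻¹ ∈ U) → ∀ a ∈ U, ∀ x : V, h (g * a * g⁻¹) (φ g x) = h a x
  invB : ∀ g : Q, (∀ a ∈ U, g * a * g⁻¹ ∈ U) → ∀ x : V, ∀ y ∈ J, B (φ g x) (φ g y) = B x y

variable {Q : Type u} [Group Q] {V : Type v} [CommGroup V]

/-- A fixed-point-free element inverted by an involution makes the involution free. -/
theorem free_of_inverted [Finite V] (φ : Q →* MulAut V) (hV : ∀ x : V, x * x = 1) {t i : Q} (hi : i * i = 1)
    (hit : i * t * i = t⁻¹) (ht : ∀ x : V, φ t x = x → x = 1) {x : V} (hx : φ i x = x) :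
    ∃ y, φ i y * y = x := by
  have hVi : ∀ y : V, y⁻¹ = y := fun y => inv_eq_of_mul_eq_one_right (hV y)
  let e : V →* V := ⟨⟨fun y => φ t y * y, by simp⟩, fun a b => by
    show φ t (a * b) * (a * b) = φ t a * a * (φ t b * b)
    rw [map_mul, mul_mul_mul_comm]⟩
  have he : Function.Injective e := (injective_iff_map_eq_one e).2 fun y hy => ht y (by
    have : φ t y * y = 1 := hy
    rw [eq_inv_of_mul_eq_one_left this, hVi])
  obtain ⟨y, hy⟩ := (Finite.injective_iff_surjective.1 he) x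
  refine ⟨y, ?_⟩
  have hy' : φ t y * y = x := hy
  have h1 : φ t⁻¹ (φ i y) * φ i y = x := by
    have := congrArg (φ i) hy'
    rw [map_mul, hx] at this
    rw [← this]
    congr 1
    have e2 : t⁻¹ * i = i * t := by rw [← hit, mul_assoc, hi, mul_one]
    rw [← MulAut.mul_apply, ← map_mul, e2, map_mul, MulAut.mul_apply]
  have h2 : e (φ i y) = e (φ t y) := by
    show φ t (φ i y) * φ i y = φ t (φ t y) * φ t y
    have := congrArg (φ t) h1
    rw [map_mul, ← MulAut.mul_apply, ← map_mul, mul_inv_cancel, map_one, MulAut.one_apply] at this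
    rw [mul_comm, this, ← hy', map_mul]
  rw [he h2]
  exact hy'

namespace Quad

variable {M : Type w} [CommGroup M] {φ : Q →* MulAut V} {U : Subgroup Q} {J : Subgroup V} {h : Q → V → M}
  {B : V → V → M} (H : Quad U φ J h B)
include H

theorem B_one (x : V) : B x 1 = 1 := by
  simpa using H.right x 1 J.one_mem 1 J.one_mem

theorem coset {a : Q} (ha : a ∈ U) (x : V) {y : V} (hy : y ∈ J) : h a (x * y) = h a x := by
  rw [H.add a ha, H.fix a ha y hy, H.sqV, H.B_one, H.vanish a ha y hy, mul_one, mul_one]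

/-- **No such map.** -/
theorem false [Finite Q] [Finite V] [Nontrivial V] [Finite M] {S T : Subgroup Q} (L : Loc U S T)
    (hM : Nat.card M ≤ Nat.card U)
    (hconj : ∀ a b : Q, a * a = 1 → a ≠ 1 → b * b = 1 → b ≠ 1 → ∃ g : Q, b = g * a * g⁻¹)
    (hswap : ∀ t ∈ T, t ≠ 1 → ∃ i : Q, i * i = 1 ∧ i ≠ 1 ∧ i * t * i = t⁻¹ ∧
      ∀ x : V, (∀ a ∈ U, φ a x = x) → (∀ a ∈ U, φ (i * a * i) x = x) → x = 1) : False := by
  classical
  have hVi : ∀ y : V, y⁻¹ = y := fun y => inv_eq_of_mul_eq_one_right (H.sqV y)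
  have hap : ∀ (g g' : Q) (x : V), φ (g * g') x = φ g (φ g' x) := fun g g' x => by
    rw [map_mul, MulAut.mul_apply]
  -- the torus has no fixed points
  have hT : ∀ t ∈ T, t ≠ 1 → ∀ x : V, φ t x = x → x = 1 := by
    intro t ht ht1
    obtain ⟨i, hi, -, hit, hfix⟩ := hswap t ht ht1
    have key : ∀ x : V, φ t x = x → ∀ a ∈ U, φ a x = x := by
      intro x hx
      let e : U →* U := ⟨⟨fun a => ⟨t * a * t⁻¹ * a, mul_mem (L.normU t ht a a.2) a.2⟩, Subtype.ext (by simp)⟩,
        fun a b => Subtype.ext (by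
          show t * (a * b : Q) * t⁻¹ * (a * b : Q) = t * a * t⁻¹ * a * (t * b * t⁻¹ * b)
          have hc : Commute (t * (b : Q) * t⁻¹) a := (L.comm _ (L.le (L.normU t ht b b.2)) a a.2)
          calc t * ((a : Q) * b) * t⁻¹ * ((a : Q) * b) = t * a * t⁻¹ * ((t * b * t⁻¹) * a) * b := by group
            _ = t * a * t⁻¹ * (a * (t * b * t⁻¹)) * b := by rw [hc.eq]
            _ = _ := by group)⟩
      have he : Function.Injective e := (injective_iff_map_eq_one e).2 fun a hea => by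
        by_contra ha1
        have hea' : t * (a : Q) * t⁻¹ * a = 1 := congrArg Subtype.val hea
        refine L.fpf t ht ht1 a a.2 (fun e' => ha1 (Subtype.ext e')) ?_
        rw [eq_inv_of_mul_eq_one_left hea', inv_eq_of_mul_eq_one_right (L.sqU a a.2)]
      intro b hb
      obtain ⟨a, hab⟩ := (Finite.injective_iff_surjective.1 he) ⟨b, hb⟩
      have hab' : t * (a : Q) * t⁻¹ * a = b := congrArg Subtype.val hab
      refine H.ker b hb x ?_
      rw [← hab', H.mul _ (L.normU t ht a a.2) _ a.2]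
      conv_lhs => enter [1, 2]; rw [← hx]
      rw [H.inv t (L.normU t ht) a a.2 x, ← H.mul _ a.2 _ a.2, L.sqU a a.2]
      have := H.mul 1 U.one_mem 1 U.one_mem x
      rw [mul_one] at this
      exact mul_eq_left.1 this.symm
    intro x hx
    refine hfix x (key x hx) fun a ha => ?_
    have hix : φ t (φ i x) = φ i x := by
      have e : t * i = i * t⁻¹ := by rw [← hit]; simp only [← mul_assoc, hi, one_mul]
      rw [← hap, e, hap]
      congr 1
      conv_lhs => rw [← hx]
      rw [← hap, inv_mul_cancel, map_one, MulAut.one_apply]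
    rw [hap, hap, key _ hix a ha, ← hap, hi, map_one, MulAut.one_apply]
  obtain ⟨t₀, ht₀, ht₀1⟩ : ∃ t ∈ T, t ≠ 1 := by
    by_contra hno
    push Not at hno
    have : Nat.card T = 1 := by
      rw [Subgroup.card_eq_one, Subgroup.eq_bot_iff_forall]; exact hno
    have := L.cardT
    have := L.two
    omega
  -- involutions are free
  have hfree : ∀ a ∈ U, a ≠ 1 → ∀ x : V, φ a x = x → x ∈ J := by
    intro a ha ha1 x hx
    obtain ⟨i, hi, hi1, hit, -⟩ := hswap t₀ ht₀ ht₀1
    obtain ⟨g, rfl⟩ := hconj i a hi hi1 (L.sqU a ha) ha1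
    have hx' : φ i (φ g⁻¹ x) = φ g⁻¹ x := by
      conv_rhs => rw [← hx]
      rw [← hap, ← hap]
      congr 2
      group
    obtain ⟨y, hy⟩ := free_of_inverted φ H.sqV hi hit (hT t₀ ht₀ ht₀1) hx'
    have : x = φ (g * i * g⁻¹) (φ g y) * φ g y := by
      have := congrArg (φ g) hy
      rw [← hap g g⁻¹, mul_inv_cancel, map_one, MulAut.one_apply, map_mul, ← hap] at this
      rw [← this, ← hap]
      congr 2
      group
    rw [this]
    exact H.mem _ ha _
  obtain ⟨u₀, hu₀, hu₁⟩ : ∃ a ∈ U, a ≠ 1 := by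
    by_contra hno
    push Not at hno
    have : Nat.card U = 1 := by rw [Subgroup.card_eq_one, Subgroup.eq_bot_iff_forall]; exact hno
    have := L.two
    omega
  have hJ : ∀ x : V, (∀ a ∈ U, φ a x = x) ↔ x ∈ J := fun x =>
    ⟨fun hx => hfree u₀ hu₀ hu₁ x (hx u₀ hu₀), fun hx a ha => H.fix a ha x hx⟩
  have hnormJ : ∀ g : Q, (∀ a ∈ U, g⁻¹ * a * g ∈ U) → ∀ x ∈ J, φ g x ∈ J := by
    intro g hg x hx
    refine (hJ _).1 fun a ha => ?_
    rw [← hap, show a * g = g * (g⁻¹ * a * g) by group, hap, H.fix _ (hg a ha) x hx]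
  have hSn : ∀ g ∈ S, ∀ a ∈ U, g * a * g⁻¹ ∈ U := fun g hg a ha => by
    rw [(L.comm g hg a ha).eq, mul_inv_cancel_right]; exact ha
  have hSn' : ∀ g ∈ S, ∀ a ∈ U, g⁻¹ * a * g ∈ U := fun g hg a ha => by
    simpa using hSn g⁻¹ (inv_mem hg) a ha
  have hTn : ∀ t ∈ T, ∀ a ∈ U, t⁻¹ * a * t ∈ U := fun t ht a ha => by
    simpa using L.normU t⁻¹ (inv_mem ht) a ha
  -- `D g` and the subgroups `W g`
  let D : Q → V →* V := fun g => ⟨⟨fun x => φ g x * x, by simp⟩, fun a b => by
    show φ g (a * b) * (a * b) = φ g a * a * (φ g b * b)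
    rw [map_mul, mul_mul_mul_comm]⟩
  have hD : ∀ g x, D g x = φ g x * x := fun _ _ => rfl
  have hDD : ∀ g x, D g (D g x) = φ (g * g) x * x := fun g x => by
    rw [hD, hD, map_mul, ← hap, mul_assoc, ← mul_assoc (φ g x) (φ g x), H.sqV, one_mul]
  have hDJ : ∀ g ∈ S, ∀ x ∈ J, D g x ∈ J := fun g hg x hx => mul_mem (hnormJ g (hSn' g hg) x hx) hx
  -- the kernel of `D g` is its image
  have hker : ∀ g ∈ S, g ∉ U → ∀ x, D g x ∈ J → ∃ y, x * D g y ∈ J := by
    intro g hg hgU x hx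
    have hgg : g * g ≠ 1 := fun e => hgU (L.four g hg e)
    have h2 := hnormJ g (hSn' g hg) _ hx
    have hfix : φ (g * g) (D g x) = D g x := H.fix _ (L.sqS g hg) _ hx
    obtain ⟨i, hi, hi1, hit, -⟩ := hswap t₀ ht₀ ht₀1
    obtain ⟨k, hk⟩ := hconj i (g * g) hi hi1 (L.sqU _ (L.sqS g hg)) hgg
    have hx' : φ i (φ k⁻¹ (D g x)) = φ k⁻¹ (D g x) := by
      conv_rhs => rw [← hfix, hk]
      rw [← hap, ← hap]
      congr 2
      group
    obtain ⟨y, hy⟩ := free_of_inverted φ H.sqV hi hit (hT t₀ ht₀ ht₀1) hx'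
    have e : D g (D g (φ k y)) = D g x := by
      rw [hDD, hk]
      have := congrArg (φ k) hy
      rw [← hap k k⁻¹, mul_inv_cancel, map_one, MulAut.one_apply, map_mul, ← hap] at this
      rw [← this, ← hap]
      congr 2
      group
    refine ⟨φ k y, ?_⟩
    have e1 : D g (x * D g (φ k y)) = 1 := by rw [map_mul, e, H.sqV]
    refine hfree _ (L.sqS g hg) hgg _ ?_
    have e2 : D g (D g (x * D g (φ k y))) = 1 := by rw [e1, map_one]
    rw [hDD] at e2
    rw [eq_inv_of_mul_eq_one_left e2, hVi]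
  let W : Q → Subgroup V := fun g => J.comap (D g)
  set η : V → M := h u₀ with hη
  -- additive and injective on `W g`
  have hadd : ∀ g ∈ S, g ∉ U → ∀ x ∈ W g, ∀ x' ∈ W g, η (x * x') = η x * η x' := by
    intro g hg hgU x hx x' hx'
    obtain ⟨y, hy⟩ := hker g hg hgU x hx
    obtain ⟨y', hy'⟩ := hker g hg hgU x' hx'
    have ex : ∀ {x y : V}, x * D g y ∈ J → ∃ j ∈ J, x = D g y * j := fun {x y} hxy =>
      ⟨x * D g y, hxy, by rw [mul_comm x, ← mul_assoc, H.sqV, one_mul]⟩
    obtain ⟨j, hj, ej⟩ := ex hy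
    obtain ⟨j', hj', ej'⟩ := ex hy'
    rw [ej, ej', mul_mul_mul_comm, hη, H.coset hu₀ _ (mul_mem hj hj'), H.coset hu₀ _ hj, H.coset hu₀ _ hj',
      H.add u₀ hu₀]
    suffices B (D g y) (φ u₀ (D g y') * D g y') = 1 by rw [this, mul_one]
    set z := φ u₀ (D g y') * D g y' with hz
    have hzJ : z ∈ J := H.mem u₀ hu₀ _
    have hg' := hnormJ g⁻¹ (by simpa using hSn g hg) z hzJ
    have h1 : B (φ g y) z = B y (φ g⁻¹ z) := by
      conv_lhs => rw [show z = φ g (φ g⁻¹ z) by rw [← hap, mul_inv_cancel, map_one, MulAut.one_apply]]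
      exact H.invB g (hSn g hg) y _ hg'
    rw [hD, H.left _ _ z hzJ, h1, ← H.right y _ hg' _ hzJ]
    suffices φ g⁻¹ z * z = 1 by rw [this, H.B_one]
    have hcu : g⁻¹ * u₀ = u₀ * g⁻¹ := ((L.comm g hg u₀ hu₀).inv_left).eq
    have e1 : φ g⁻¹ z * z = φ u₀ (D g⁻¹ (D g y')) * D g⁻¹ (D g y') := by
      rw [hz, hD g⁻¹, map_mul, map_mul, ← hap g⁻¹, hcu, hap, mul_mul_mul_comm]
    have e2 : D g⁻¹ (D g y') ∈ J := by
      have : D g⁻¹ (D g y') = φ g⁻¹ (D g (D g y')) := by
        have c1 : φ g⁻¹ (φ g y') = y' := by rw [← hap, inv_mul_cancel, map_one, MulAut.one_apply]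
        have c2 : φ g⁻¹ (φ (g * g) y') = φ g y' := by rw [← hap, inv_mul_cancel_left]
        rw [hDD g y', hD, hD, map_mul, map_mul, c1, c2, mul_comm (φ g y') y', mul_mul_mul_comm, H.sqV, one_mul,
          mul_comm]
      rw [this]
      exact hnormJ g⁻¹ (by simpa using hSn g hg) _ (by rw [hDD]; exact H.mem _ (L.sqS g hg) _)
    rw [e1, H.fix u₀ hu₀ _ e2, H.sqV]
  have hWle : ∀ g ∈ S, g ∉ U → Nat.card (W g) ≤ Nat.card J * Nat.card U := by
    intro g hg hgU
    have h1 : η 1 = 1 := H.vanish u₀ hu₀ 1 J.one_mem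
    let f : W g →* M := ⟨⟨fun x => η x, h1⟩, fun x y => hadd g hg hgU x x.2 y y.2⟩
    have hk : Nat.card f.ker ≤ Nat.card J :=
      Nat.card_le_card_of_injective (fun x => (⟨(x : V), hfree u₀ hu₀ hu₁ _ (H.ker u₀ hu₀ _ x.2)⟩ : J))
        fun a b e => Subtype.ext (Subtype.ext (congrArg (fun z : J => (z : V)) e))
    calc Nat.card (W g) = Nat.card f.ker * f.ker.index := (Subgroup.card_mul_index _).symm
      _ ≤ Nat.card J * Nat.card U := by
        refine Nat.mul_le_mul hk ?_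
        rw [Subgroup.index_ker]
        exact (Subgroup.card_le_card_group _).trans hM
  -- a common fixed vector outside `J`
  obtain ⟨x₀, hx₀⟩ : ∃ x : V, x ∉ J := by
    by_contra hno
    push Not at hno
    obtain ⟨i, hi, -, -, hfix⟩ := hswap t₀ ht₀ ht₀1
    obtain ⟨y, hy⟩ := exists_ne (1 : V)
    exact hy (hfix y (fun a ha => H.fix a ha y (hno y)) fun a ha => by
      rw [hap, hap, H.fix a ha _ (hno _), ← hap, hi, map_one, MulAut.one_apply])
  have hcommon : ∀ F : Finset Q, (∀ g ∈ F, g ∈ S) → ∃ x, x ∉ J ∧ ∀ g ∈ F, x ∈ W g := by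
    intro F
    induction F using Finset.induction_on with
    | empty => exact fun _ => ⟨x₀, hx₀, by simp⟩
    | @insert g F _ ih =>
      intro hF
      obtain ⟨x, hx, hxF⟩ := ih fun k hk => hF k (Finset.mem_insert_of_mem hk)
      have hg := hF g (Finset.mem_insert_self g F)
      by_cases hgx : D g x ∈ J
      · exact ⟨x, hx, fun k hk => (Finset.mem_insert.1 hk).elim (fun e => e ▸ hgx) (hxF k)⟩
      refine ⟨D g x, hgx, fun k hk => ?_⟩
      rcases Finset.mem_insert.1 hk with rfl | hk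
      · show D k (D k x) ∈ J
        rw [hDD]; exact H.mem _ (L.sqS k hg) x
      have hkS := hF k (Finset.mem_insert_of_mem hk)
      show D k (D g x) ∈ J
      set c := (g * k)⁻¹ * (k * g) with hc
      have hcU : c ∈ U := by
        have e : c = (g * k)⁻¹ * (g * k)⁻¹ * (g * (k * k) * g⁻¹) * (g * g) := by rw [hc]; group
        rw [e]
        exact mul_mem (mul_mem (by rw [← mul_inv_rev]; exact inv_mem (L.sqS _ (mul_mem hg hkS)))
          (hSn g hg _ (L.sqS k hkS))) (L.sqS g hg)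
      have h1 : φ (k * g) x * φ (g * k) x ∈ J := by
        rw [show k * g = (g * k) * c by rw [hc]; group, hap, ← map_mul]
        exact hnormJ _ (hSn' _ (mul_mem hg hkS)) _ (H.mem c hcU x)
      have : D k (D g x) = φ (k * g) x * φ (g * k) x * D g (D k x) := by
        simp only [hap]
        simp only [hD, map_mul]
        have a := H.sqV (φ g (φ k x))
        calc _ = φ k (φ g x) * (φ g (φ k x) * φ g (φ k x)) * (φ g x * φ k x * x) := by rw [a, mul_one]; ac_rfl
          _ = _ := by ac_rfl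
      rw [this]
      exact mul_mem h1 (hDJ g hg _ (hxF k hk))
  haveI : Fintype S := Fintype.ofFinite S
  obtain ⟨x₁, hx₁, hx₁W⟩ := hcommon (Finset.univ.image fun g : S => (g : Q)) (by simp)
  have hx₁W' : ∀ g ∈ S, x₁ ∈ W g := fun g hg =>
    hx₁W g (Finset.mem_image.2 ⟨⟨g, hg⟩, Finset.mem_univ _, rfl⟩)
  let W₁ : Subgroup V := ⨅ g ∈ S, W g
  have hW₁ : ∀ x, x ∈ W₁ ↔ ∀ g ∈ S, x ∈ W g := fun x => by simp [W₁, Subgroup.mem_iInf]
  have hJW : J ≤ W₁ := fun x hx => (hW₁ x).2 fun g hg => hDJ g hg x hx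
  have hlow : Nat.card J * Nat.card U ≤ Nat.card W₁ := by
    have htx : ∀ t ∈ T, φ t x₁ ∈ W₁ := by
      intro t ht
      refine (hW₁ _).2 fun g hg => ?_
      show φ g (φ t x₁) * φ t x₁ ∈ J
      rw [← hap, show g * t = t * (t⁻¹ * g * t) by group, hap, ← map_mul]
      exact hnormJ t (hTn t ht) _ (hx₁W' _ (by simpa using L.normS t⁻¹ (inv_mem ht) g hg))
    let f : Option T × J → W₁ := fun p => p.1.elim ⟨(p.2 : V), hJW p.2.2⟩
      fun t => ⟨φ (t : Q) x₁ * (p.2 : V), mul_mem (htx t t.2) (hJW p.2.2)⟩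
    have hf : Function.Injective f := by
      have hout : ∀ t : T, φ (t : Q) x₁ ∉ J := fun t ht => hx₁ (by
        have := hnormJ (t : Q)⁻¹ (by simpa using L.normU t t.2) _ ht
        rwa [← hap, inv_mul_cancel, map_one, MulAut.one_apply] at this)
      rintro ⟨s, j⟩ ⟨s', j'⟩ e
      have e' : ((f (s, j) : W₁) : V) = (f (s', j') : W₁) := congrArg Subtype.val e
      rcases s with _ | s <;> rcases s' with _ | s' <;> simp only [f, Option.elim] at e'
      · rw [Subtype.ext e']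
      · exact absurd (by rw [← mul_inv_eq_of_eq_mul e']; exact mul_mem j.2 (inv_mem j'.2)) (hout s')
      · exact absurd (by rw [← mul_inv_eq_of_eq_mul e'.symm]; exact mul_mem j'.2 (inv_mem j.2)) (hout s)
      · suffices s = s' by
          subst this
          rw [Subtype.ext (mul_left_cancel e')]
        by_contra hne
        have hmem : φ (s : Q) x₁ * φ (s' : Q) x₁ ∈ J := by
          have : φ (s : Q) x₁ * φ (s' : Q) x₁ = (j : V) * j' := by
            rw [← hVi (φ (s' : Q) x₁), ← hVi (j : V), ← div_eq_mul_inv, div_eq_iff_eq_mul, mul_assoc,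
              mul_comm (j' : V), ← e', mul_comm (φ (s : Q) x₁), ← mul_assoc, inv_mul_cancel, one_mul]
          rw [this]; exact mul_mem j.2 j'.2
        set t : Q := (s' : Q)⁻¹ * s with ht
        have htT : t ∈ T := mul_mem (inv_mem s'.2) s.2
        have ht1 : t ≠ 1 := fun e1 => hne (Subtype.ext (inv_mul_eq_one.1 e1).symm)
        have h2 : D t x₁ ∈ J := by
          have := hnormJ (s' : Q)⁻¹ (by simpa using L.normU s' s'.2) _ hmem
          rwa [map_mul, ← hap, ← hap, inv_mul_cancel, map_one, MulAut.one_apply] at this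
        have hJt : ∀ y ∈ J, D t y ∈ J := fun y hy => mul_mem (hnormJ t (hTn t htT) y hy) hy
        let e₁ : J → J := fun y => ⟨D t y, hJt y y.2⟩
        have he : ∀ y y' : V, D t y = D t y' → y = y' := fun y y' hyy => by
          have h1 : D t (y * y') = 1 := by rw [map_mul, hyy, H.sqV]
          rw [hD] at h1
          have := hT t htT ht1 (y * y') (by rw [eq_inv_of_mul_eq_one_left h1, hVi])
          rw [eq_inv_of_mul_eq_one_left this, hVi]
        have he₁ : Function.Injective e₁ := fun y y' hyy => Subtype.ext (he _ _ (congrArg Subtype.val hyy))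
        obtain ⟨y, hy⟩ := (Finite.injective_iff_surjective.1 he₁) ⟨_, h2⟩
        exact hx₁ (he _ _ (congrArg Subtype.val hy) ▸ y.2)
    haveI : Fintype T := Fintype.ofFinite T
    have := Nat.card_le_card_of_injective f hf
    rw [Nat.card_prod, Finite.card_option, L.cardT] at this
    rwa [mul_comm]
  have hWeq : ∀ g ∈ S, g ∉ U → W g = W₁ := by
    intro g hg hgU
    have hle : W₁ ≤ W g := fun x hx => (hW₁ x).1 hx g hg
    exact (Subgroup.eq_of_le_of_card_ge hle ((hWle g hg hgU).trans hlow)).symm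
  obtain ⟨g₁, hg₁, hg₁U⟩ : ∃ g ∈ S, g ∉ U := by
    by_contra hno
    push Not at hno
    have h1 := L.cardS
    rw [le_antisymm hno L.le] at h1
    have := L.two
    nlinarith
  have hcardW : Nat.card W₁ = Nat.card J * Nat.card U :=
    le_antisymm (hWeq g₁ hg₁ hg₁U ▸ hWle g₁ hg₁ hg₁U) hlow
  -- a bijection for every vector outside `W₁`
  have hall : ∀ x ∉ W₁, ∀ u ∈ W₁, ∃ g ∈ S, D g x * u ∈ J := by
    intro x hx u hu
    have hDW : ∀ g ∈ S, D g x ∈ W₁ := by
      intro g hg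
      by_cases hgU : g ∈ U
      · exact hJW (H.mem g hgU x)
      · rw [← hWeq g hg hgU]
        show D g (D g x) ∈ J
        rw [hDD]; exact H.mem _ (L.sqS g hg) x
    let f : S →* V ⧸ J := ⟨⟨fun g => QuotientGroup.mk' J (D (g : Q) x), by simp [hD, H.sqV]⟩, fun g g' => by
      show QuotientGroup.mk' J (D ((g : Q) * g') x) = QuotientGroup.mk' J (D g x) * QuotientGroup.mk' J (D g' x)
      rw [← map_mul]
      refine QuotientGroup.eq.2 ?_
      rw [hVi]
      have : D ((g : Q) * g') x * (D g x * D g' x) = D g (D g' x) := by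
        simp only [hD, hap]
        simp only [map_mul]
        calc _ = φ (g : Q) (φ (g' : Q) x) * φ (g : Q) x * (φ (g' : Q) x * x) * (x * x) := by ac_rfl
          _ = _ := by rw [H.sqV, mul_one]
      rw [this]
      exact (hW₁ _).1 (hDW g' g'.2) g g.2⟩
    have hkf : f.ker ≤ U.subgroupOf S := by
      intro g hgk
      by_contra hgU
      refine hx ?_
      rw [← hWeq g g.2 hgU]
      exact (QuotientGroup.eq_one_iff (D ((g : S) : Q) x)).1 (MonoidHom.mem_ker.1 hgk)
    have hk : Nat.card f.ker ≤ Nat.card U :=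
      Nat.card_le_card_of_injective (fun g => (⟨((g : S) : Q), hkf g.2⟩ : U))
        fun a b e => Subtype.ext (Subtype.ext (congrArg (fun z : U => (z : Q)) e))
    have hr : f.range ≤ W₁.map (QuotientGroup.mk' J) := by
      rintro _ ⟨g, rfl⟩
      exact ⟨_, hDW g g.2, rfl⟩
    have hcm : Nat.card (W₁.map (QuotientGroup.mk' J)) = Nat.card U := by
      have h1 : Nat.card ((W₁.map (QuotientGroup.mk' J)).comap (QuotientGroup.mk' J)) =
          Nat.card J * Nat.card (W₁.map (QuotientGroup.mk' J)) := by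
        exact QuotientGroup.card_preimage_mk J ((W₁.map (QuotientGroup.mk' J) : Subgroup _) : Set (V ⧸ J))
      rw [Subgroup.comap_map_eq, QuotientGroup.ker_mk', sup_of_le_left hJW, hcardW] at h1
      exact (Nat.eq_of_mul_eq_mul_left Nat.card_pos h1).symm
    have hge : Nat.card U ≤ Nat.card f.range := by
      have h1 := Subgroup.card_mul_index f.ker
      rw [Subgroup.index_ker, L.cardS] at h1
      exact Nat.le_of_mul_le_mul_left (h1 ▸ Nat.mul_le_mul_right _ hk) Nat.card_pos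
    have heq := Subgroup.eq_of_le_of_card_ge hr (hcm ▸ hge)
    obtain ⟨g, hg⟩ : QuotientGroup.mk' J u ∈ f.range := heq ▸ ⟨u, hu, rfl⟩
    refine ⟨g, g.2, ?_⟩
    have := QuotientGroup.eq.1 hg
    rwa [hVi] at this
  have hhu : ∀ x ∉ W₁, ∀ u ∈ W₁, η u * B x (φ u₀ u * u) = 1 := by
    intro x hx u hu
    obtain ⟨g, hg, hgu⟩ := hall x hx u hu
    have h1 : η (φ g x) = η x := by
      have := H.inv g (hSn g hg) u₀ hu₀ x
      rwa [(L.comm g hg u₀ hu₀).eq, mul_inv_cancel_right] at this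
    have h2 : φ g x = x * u * (D g x * u) := by
      rw [hD]
      calc φ g x = φ g x * (x * x) * (u * u) := by rw [H.sqV, H.sqV, mul_one, mul_one]
        _ = _ := by ac_rfl
    rw [h2, hη, H.coset hu₀ _ hgu, H.add u₀ hu₀, mul_assoc] at h1
    exact mul_eq_left.1 h1
  obtain ⟨v, v', hv, hv', hvv⟩ : ∃ v v', v ∉ W₁ ∧ v' ∉ W₁ ∧ v * v' ∉ W₁ := by
    obtain ⟨v, hv⟩ : ∃ v, v ∉ W₁ := by
      by_contra hno
      push Not at hno
      have : ∀ x, D g₁ x ∈ J := fun x => (hW₁ x).1 (hno x) g₁ hg₁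
      obtain ⟨y, hy⟩ := hker g₁ hg₁ hg₁U x₁ (this x₁)
      exact hx₁ ((Subgroup.mul_mem_cancel_right J (this y)).1 hy)
    by_contra hno
    push Not at hno
    have hsub : ∀ x ∈ W₁, x ∈ J ∨ x * D g₁ v ∈ J := by
      intro x hx
      obtain ⟨y, hy⟩ := hker g₁ hg₁ hg₁U x ((hW₁ x).1 hx g₁ hg₁)
      by_cases hyW : y ∈ W₁
      · exact Or.inl ((Subgroup.mul_mem_cancel_right J ((hW₁ y).1 hyW g₁ hg₁)).1 hy)
      · refine Or.inr ?_
        have := mul_mem hy ((hW₁ _).1 (hno v y hv hyW) g₁ hg₁)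
        have e : x * D g₁ v = x * D g₁ y * D g₁ (v * y) := by
          rw [map_mul, mul_comm (D g₁ v) (D g₁ y), mul_assoc, ← mul_assoc (D g₁ y), H.sqV, one_mul]
        rw [e]; exact this
    let f : W₁ → J ⊕ J := fun x =>
      if hx : (x : V) ∈ J then Sum.inl ⟨_, hx⟩ else Sum.inr ⟨_, (hsub x x.2).resolve_left hx⟩
    have hf : Function.Injective f := by
      intro a b e
      simp only [f] at e
      by_cases ha : (a : V) ∈ J <;> by_cases hb : (b : V) ∈ J <;> simp only [ha, hb, dite_true, dite_false] at e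
      · exact Subtype.ext (by simpa using e)
      · simp at e
      · simp at e
      · exact Subtype.ext (mul_right_cancel (b := D g₁ v) (by simpa using e))
    have := Nat.card_le_card_of_injective f hf
    rw [Nat.card_sum, hcardW] at this
    have := L.two
    have : 0 < Nat.card J := Nat.card_pos
    nlinarith
  have a1 := hhu v hv x₁ ((hW₁ _).2 hx₁W')
  have a2 := hhu v' hv' x₁ ((hW₁ _).2 hx₁W')
  have a3 := hhu _ hvv x₁ ((hW₁ _).2 hx₁W')
  rw [H.left _ _ _ (H.mem u₀ hu₀ x₁), ← mul_assoc, a1, one_mul] at a3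
  rw [a3, mul_one] at a2
  exact hx₁ (hfree u₀ hu₀ hu₁ _ (H.ker u₀ hu₀ _ a2))

end Quad

end CfsgLib.ThreeTrans.OddPair
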