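import Cfsg.Agent.Lib.ThreeTrans.OddPair.Wide
import Cfsg.Agent.Lib.ThreeTrans.OddPair.Final
import Cfsg.Agent.Lib.ThreeTrans.OddPair.PartnerS
import Cfsg.Agent.Lib.Invol.AschCrit.MainProof

/-!
Owner: helper5. A class of members inside a subgroup with a map to a group in which commuting is transitive on
involutions: partners, and the products inside a block that move an outside member to a commuting one.
-/

set_option autoImplicit false
set_option linter.unusedSectionVars false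
set_option linter.style.haveILetI false

namespace CfsgLib.ThreeTrans.OddPair

open Subgroup Cfsg

universe u v

section Abstract

variable {Q : Type u} [Group Q]

/-- The involutions commuting with `b`, with the identity. -/
def TransInv.block (h : TransInv Q) (b : Q) (hb : b * b = 1) (hb1 : b ≠ 1) : Subgroup Q where
  carrier := {e | e * e = 1 ∧ Commute e b}
  one_mem' := ⟨one_mul 1, Commute.one_left b⟩
  mul_mem' := by
    rintro e f ⟨he, hec⟩ ⟨hf, hfc⟩
    have hef := h e b f he hb hb1 hf hec hfc.symm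
    exact ⟨by rw [mul_assoc, ← mul_assoc f, ← hef.eq, mul_assoc e f f, hf, mul_one, he], hec.mul_left hfc⟩
  inv_mem' := by
    rintro e ⟨he, hec⟩
    rw [inv_eq_of_mul_eq_one_right he]
    exact ⟨he, hec⟩

/-- If `a b a` commutes with `b` then so does `a`. -/
theorem TransInv.conj_commute [Finite Q] (h : TransInv Q) {a b : Q} (ha : a * a = 1) (hb : b * b = 1)
    (hc : Commute (a * b * a) b) : Commute a b := by
  classical
  by_cases hb1 : b = 1
  · rw [hb1]; exact Commute.one_right a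
  haveI : Fintype Q := Fintype.ofFinite Q
  haveI : Fact (Nat.Prime 2) := ⟨Nat.prime_two⟩
  set U := h.block b hb hb1 with hU
  have haa : ∀ t : Q, a * (a * t) = t := fun t => by rw [← mul_assoc, ha, one_mul]
  have hab : a * b * a * (a * b * a) = 1 := by
    simp only [mul_assoc, haa]; rw [← mul_assoc b b, hb, one_mul, ha]
  have hab1 : a * b * a ≠ 1 := fun e => hb1 (by
    calc b = a * (a * b * a) * a := by simp only [mul_assoc, haa, ha, mul_one]
      _ = 1 := by rw [e, mul_one, ha])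
  have hmem : ∀ e ∈ U, a * e * a ∈ U := by
    rintro e ⟨he, hec⟩
    have e1 : a * e * a * (a * e * a) = 1 := by
      simp only [mul_assoc, haa]; rw [← mul_assoc e e, he, one_mul, ha]
    refine ⟨e1, h _ (a * b * a) b e1 hab hab1 hb ?_ hc⟩
    show a * e * a * (a * b * a) = a * b * a * (a * e * a)
    simp only [mul_assoc, haa]
    rw [← mul_assoc e b, hec.eq, mul_assoc]
  have back : ∀ e : Q, a * (a * e * a) * a = e := fun e => by simp only [mul_assoc, haa, ha, mul_one]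
  let σ : Equiv.Perm U :=
    { toFun := fun e => ⟨a * (e : Q) * a, hmem _ e.2⟩
      invFun := fun e => ⟨a * (e : Q) * a, hmem _ e.2⟩
      left_inv := fun e => Subtype.ext (back _)
      right_inv := fun e => Subtype.ext (back _) }
  have hσ : σ ^ (2 ^ 1) = 1 := by rw [pow_one, sq]; exact Equiv.ext fun e => Subtype.ext (back _)
  have hmod := Equiv.Perm.card_compl_support_modEq hσ
  have heven : Even (Fintype.card U) := by
    rw [← Nat.card_eq_fintype_card, even_iff_two_dvd, ← orderOf_eq_prime (p := 2) (by rw [sq, hb]) hb1]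
    exact orderOf_dvd_natCard U (show b ∈ U from ⟨hb, Commute.refl b⟩)
  have hone : (1 : U) ∈ σ.supportᶜ := by
    rw [Finset.mem_compl, Equiv.Perm.mem_support, not_not]
    exact Subtype.ext (show a * 1 * a = 1 by rw [mul_one, ha])
  obtain ⟨e, he, hne⟩ : ∃ e ∈ σ.supportᶜ, e ≠ (1 : U) := by
    refine Finset.exists_mem_ne ?_ 1
    by_contra hle
    have hpos : 0 < σ.supportᶜ.card := Finset.card_pos.2 ⟨1, hone⟩
    rw [Nat.ModEq, Nat.even_iff.1 heven] at hmod
    omega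
  rw [Finset.mem_compl, Equiv.Perm.mem_support, not_not] at he
  have hfix : a * (e : Q) * a = e := congrArg Subtype.val he
  have hae : Commute a (e : Q) := by
    show a * (e : Q) = e * a
    conv_rhs => rw [← hfix]
    rw [mul_assoc (a * (e : Q)) a a, ha, mul_one]
  exact h a e b ha e.2.1 (fun h1 => hne (Subtype.ext h1)) hb hae e.2.2

end Abstract

variable {G : Type u} [Group G] {D : Set G}

/-- A class `C` inside `X` mapped by `π`. -/
structure Rk (D : Set G) (X : Subgroup G) (C : Set G) {Q : Type v} [Group Q] (π : X →* Q) : Prop where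
  memD : ∀ a ∈ C, a ∈ D
  mem : ∀ a ∈ C, a ∈ X
  conj : ∀ a ∈ C, ∀ g ∈ X, g * a * g⁻¹ ∈ C
  surj : Function.Surjective π
  trans : TransInv Q
  ker : ∀ a (ha : a ∈ C) b (hb : b ∈ C), π ⟨a, mem a ha⟩ = π ⟨b, mem b hb⟩ → Commute a b
  ne : ∀ a (ha : a ∈ C), π ⟨a, mem a ha⟩ ≠ 1

namespace Rk

variable {X : Subgroup G} {C : Set G} {Q : Type v} [Group Q] {π : X →* Q} (h : Rk D X C π)
  (hD : IsOddTranspositionSet D)
include h hD

theorem img_sq {a : G} (ha : a ∈ C) : π ⟨a, h.mem a ha⟩ * π ⟨a, h.mem a ha⟩ = 1 := by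
  rw [← map_mul, show (⟨a, h.mem a ha⟩ : X) * ⟨a, h.mem a ha⟩ = 1 from Subtype.ext (sq_one hD (h.memD a ha)),
    map_one]

/-- Commutation is read off the image. -/
theorem commute_iff {a b : G} (ha : a ∈ C) (hb : b ∈ C) :
    Commute (π ⟨a, h.mem a ha⟩) (π ⟨b, h.mem b hb⟩) ↔ Commute a b := by
  refine ⟨fun hc => by_contra fun hn => hn ?_,
    fun hc => (show Commute (⟨a, h.mem a ha⟩ : X) ⟨b, h.mem b hb⟩ from Subtype.ext hc.eq).map π⟩
  have ho : Odd (orderOf (⟨a, h.mem a ha⟩ * ⟨b, h.mem b hb⟩ : X)) := by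
    rw [← Subgroup.orderOf_coe]; exact odd_of hD (h.memD a ha) (h.memD b hb) hn
  have h2 : π (⟨a, h.mem a ha⟩ * ⟨b, h.mem b hb⟩) ^ 2 = 1 := by
    rw [map_mul, hc.mul_pow, sq, sq, h.img_sq hD ha, h.img_sq hD hb, mul_one]
  have h1 := orderOf_eq_one_iff.1 (Nat.eq_one_of_dvd_coprimes
    (Nat.coprime_two_left.2 (ho.of_dvd_nat (orderOf_map_dvd π _))) (orderOf_dvd_of_pow_eq_one h2) dvd_rfl)
  rw [map_mul] at h1
  refine h.ker a ha b hb ?_
  rw [eq_inv_of_mul_eq_one_left h1, inv_eq_of_mul_eq_one_right (h.img_sq hD hb)]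

theorem commute_trans {a b c : G} (ha : a ∈ C) (hb : b ∈ C) (hc : c ∈ C) (h1 : Commute a b) (h2 : Commute b c) :
    Commute a c :=
  (h.commute_iff hD ha hc).1 (h.trans _ _ _ (h.img_sq hD ha) (h.img_sq hD hb) (h.ne b hb) (h.img_sq hD hc)
    ((h.commute_iff hD ha hb).2 h1) ((h.commute_iff hD hb hc).2 h2))

omit h in
theorem not_one_of_order {n : ℕ} {a b : Q} (ha : a * a = 1) (hb : b * b = 1) (hn : 2 < n)
    (ho : orderOf (a * b) = n) : ¬ Commute a b := fun hc => by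
  have : orderOf (a * b) ∣ 2 := orderOf_dvd_of_pow_eq_one (by rw [hc.mul_pow, sq, sq, ha, hb, mul_one])
  have := Nat.le_of_dvd two_pos this
  omega

/-- Partners exist among the members. -/
theorem exists_partner {n : ℕ} (hP : Partner Q n) (hn : Odd n) {a y : G} (ha : a ∈ C) (hy : y ∈ C)
    (hay : ¬ Commute a y) :
    ∃ (b : G) (hb : b ∈ C), Commute b y ∧ orderOf (π ⟨a, h.mem a ha⟩ * π ⟨b, h.mem b hb⟩) = n := by
  set a' := π ⟨a, h.mem a ha⟩ with ha'
  obtain ⟨b', hb', hby, ho⟩ := hP.ex a' _ (h.img_sq hD ha) (h.img_sq hD hy)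
    (fun hc => hay ((h.commute_iff hD ha hy).1 hc))
  obtain ⟨k, hk⟩ := hn
  set t := a' * b' with ht
  have hai : a'⁻¹ = a' := inv_eq_of_mul_eq_one_right (h.img_sq hD ha)
  have hbi : b'⁻¹ = b' := inv_eq_of_mul_eq_one_right hb'
  obtain ⟨g, hg⟩ := h.surj (t ^ k * a')
  have hflip : a' * t ^ k * a'⁻¹ = (t ^ k)⁻¹ := by
    rw [← conj_pow, ← inv_pow, ht, mul_inv_rev, hai, hbi, ← mul_assoc a' a', h.img_sq hD ha, one_mul]
  have e : t ^ k * a' * a' * (t ^ k * a')⁻¹ = b' := by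
    have e2 : t ^ (2 * k) = t⁻¹ := eq_inv_of_mul_eq_one_left (by rw [← pow_succ, ← hk, ← ho, pow_orderOf_eq_one])
    calc t ^ k * a' * a' * (t ^ k * a')⁻¹ = t ^ k * a' * (t ^ k)⁻¹ := by
          rw [mul_assoc (t ^ k) a' a', h.img_sq hD ha, mul_one, mul_inv_rev, hai, mul_assoc]
      _ = t ^ k * a' * (a' * t ^ k * a'⁻¹) := by rw [hflip]
      _ = t ^ k * t ^ k * a' := by
          rw [hai, ← mul_assoc, ← mul_assoc, mul_assoc (t ^ k) a' a', h.img_sq hD ha, mul_one]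
      _ = b' := by rw [← pow_add, ← two_mul, e2, ht, mul_inv_rev, hbi, hai, mul_assoc, h.img_sq hD ha, mul_one]
  have hbC := h.conj a ha _ g.2
  have hπ : π ⟨(g : G) * a * (g : G)⁻¹, h.mem _ hbC⟩ = b' := by
    rw [← e, ← hg, ha', ← map_inv, ← map_mul, ← map_mul]
    rfl
  refine ⟨_, hbC, (h.commute_iff hD hbC hy).1 (by rw [hπ]; exact hby), ?_⟩
  rw [hπ, ho]

/-- Partners are unique. -/
theorem partner_unique {n : ℕ} (hP : Partner Q n) {a b b' : G} (ha : a ∈ C) (hb : b ∈ C) (hb' : b' ∈ C)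
    (hc : Commute b b') (h1 : orderOf (π ⟨a, h.mem a ha⟩ * π ⟨b, h.mem b hb⟩) = n)
    (h2 : orderOf (π ⟨a, h.mem a ha⟩ * π ⟨b', h.mem b' hb'⟩) = n) :
    π ⟨b, h.mem b hb⟩ = π ⟨b', h.mem b' hb'⟩ :=
  hP.uniq _ _ _ (h.img_sq hD ha) (h.img_sq hD hb) (h.img_sq hD hb') ((h.commute_iff hD hb hb').2 hc) h1 h2

/-- A product of members commuting with `y` maps into the block of `y`. -/
theorem block_img {y : G} (hy : y ∈ C) {S : Set G} (hS : ∀ e ∈ S, e ∈ C ∧ Commute e y) {w : G}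
    (hw : w ∈ closure S) (hwX : w ∈ X) :
    π ⟨w, hwX⟩ * π ⟨w, hwX⟩ = 1 ∧ Commute (π ⟨w, hwX⟩) (π ⟨y, h.mem y hy⟩) := by
  have hle : closure S ≤ X := by rw [closure_le]; exact fun e he => h.mem e (hS e he).1
  set U := h.trans.block (π ⟨y, h.mem y hy⟩) (h.img_sq hD hy) (h.ne y hy) with hU
  show π ⟨w, hwX⟩ ∈ U
  induction hw using closure_induction with
  | mem e he => exact ⟨h.img_sq hD (hS e he).1, (h.commute_iff hD (hS e he).1 hy).2 (hS e he).2⟩
  | one => exact (map_one π).symm ▸ U.one_mem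
  | mul u w' hu hw' iu iw =>
    have : (⟨u * w', hwX⟩ : X) = ⟨u, hle hu⟩ * ⟨w', hle hw'⟩ := rfl
    rw [this, map_mul]
    exact U.mul_mem (iu _) (iw _)
  | inv u hu iu =>
    have : (⟨u⁻¹, hwX⟩ : X) = (⟨u, hle hu⟩ : X)⁻¹ := rfl
    rw [this, map_inv]
    exact U.inv_mem (iu _)

/-- A block element moves an outside member to a commuting one only if it acts trivially. -/
theorem moves_iff [Finite Q] {y c : G} (hy : y ∈ C) (hc : c ∈ C) (hcy : ¬ Commute c y) {w : G} (hwX : w ∈ X)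
    (hw2 : π ⟨w, hwX⟩ * π ⟨w, hwX⟩ = 1) (hwy : Commute (π ⟨w, hwX⟩) (π ⟨y, h.mem y hy⟩)) :
    Commute (w * c * w⁻¹) c ↔ π ⟨w, hwX⟩ = 1 := by
  have hwc := h.conj c hc w hwX
  have himg : π ⟨w * c * w⁻¹, h.mem _ hwc⟩ = π ⟨w, hwX⟩ * π ⟨c, h.mem c hc⟩ * π ⟨w, hwX⟩ := by
    have : (⟨w * c * w⁻¹, h.mem _ hwc⟩ : X) = ⟨w, hwX⟩ * ⟨c, h.mem c hc⟩ * (⟨w, hwX⟩ : X)⁻¹ := rfl
    rw [this, map_mul, map_mul, map_inv, inv_eq_of_mul_eq_one_right hw2]
  refine ⟨fun hm => by_contra fun h1 => hcy ?_, fun h1 => h.ker _ hwc c hc (by rw [himg, h1, one_mul, mul_one])⟩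
  have hm' := (h.commute_iff hD hwc hc).2 hm
  rw [himg] at hm'
  have := h.trans.conj_commute hw2 (h.img_sq hD hc) hm'
  exact (h.commute_iff hD hc hy).1
    (h.trans _ _ _ (h.img_sq hD hc) hw2 h1 (h.img_sq hD hy) this.symm hwy)

end Rk

/-- The conjugates of `y` inside `X`. -/
def clsIn (X : Subgroup G) (y : G) : Set G := {a | ∃ g ∈ X, a = g * y * g⁻¹}

theorem self_mem_clsIn (X : Subgroup G) (y : G) : y ∈ clsIn X y := ⟨1, one_mem _, by simp⟩

theorem clsIn_conj {X : Subgroup G} {y a : G} (ha : a ∈ clsIn X y) {g : G} (hg : g ∈ X) :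
    g * a * g⁻¹ ∈ clsIn X y := by
  obtain ⟨g', hg', rfl⟩ := ha
  exact ⟨g * g', mul_mem hg hg', by group⟩

theorem mem_clsIn_of_not_commute (hD : IsOddTranspositionSet D) {X : Subgroup G} {y a b : G} (hb : b ∈ clsIn X y)
    (hyX : y ∈ X) (hy : y ∈ D) (ha : a ∈ D) (haX : a ∈ X) (hn : ¬ Commute b a) : a ∈ clsIn X y := by
  have hbD : b ∈ D := by
    obtain ⟨g, -, rfl⟩ := id hb
    exact hD.1.conj_mem y hy g
  have hbX : b ∈ X := by
    obtain ⟨g, hg, rfl⟩ := id hb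
    exact mul_mem (mul_mem hg hyX) (inv_mem hg)
  obtain ⟨hmD, h1, -, hm⟩ := mid_swap hD hbD ha hn
  have hmX : mid b a ∈ X := (closure_le X).2 (Set.insert_subset_iff.2 ⟨hbX, Set.singleton_subset_iff.2 haX⟩) hm
  have := clsIn_conj hb hmX
  rwa [inv_eq hD hmD, h1] at this

namespace Deg

variable [Finite G]

/-- **The group of one block and one member outside**, modulo its 2-core. -/
theorem rk_of_block_iso (hG : Deg D) {B : Set G} {c y : G} (hc : c ∈ B) (hB : B ⊆ D) (hy : y ∈ D)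
    (hBy : ∀ b ∈ B, ¬ Commute b y) (htri : ∃ f ∈ B, f ≠ c ∧ c * f ∈ B) {X : Subgroup G}
    (hX : X = closure (B ∪ {y}))
    (hblock : ∀ b ∈ B, ∀ v ∈ clsIn X y, (Commute v b ↔ Commute v c)) :
    Rk D X (clsIn X y) (QuotientGroup.mk' (pCore 2 X)) ∧
      (TypeL (X ⧸ pCore 2 X) ∨ Cfsg.Lie.IsoSuzuki (X ⧸ pCore 2 X)) := by
  haveI : Fact (Nat.Prime 2) := ⟨Nat.prime_two⟩
  have hD := hG.hD
  have hgenX : B ∪ {y} ⊆ (X : Set G) := fun e he => hX ▸ Subgroup.subset_closure he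
  have hyX : y ∈ X := hgenX (Or.inr rfl)
  have hsub : ∀ a ∈ clsIn X y, a ∈ D := by
    rintro a ⟨g, -, rfl⟩; exact hD.1.conj_mem y hy g
  have hmemX : ∀ a ∈ clsIn X y, a ∈ X := by
    rintro a ⟨g, hg, rfl⟩; exact mul_mem (mul_mem hg hyX) (inv_mem hg)
  have hBC : ∀ b ∈ B, b ∈ clsIn X y := fun b hb =>
    mem_clsIn_of_not_commute hD (self_mem_clsIn X y) hyX hy (hB hb) (hgenX (Or.inl hb)) fun e => hBy b hb e.symm
  let D₀ : Set X := {a | (a : G) ∈ clsIn X y}
  let cX : X := ⟨c, hgenX (Or.inl hc)⟩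
  let yX : X := ⟨y, hyX⟩
  have hcomm : ∀ {a b : X}, Commute a b ↔ Commute (a : G) (b : G) := fun {a b} =>
    ⟨fun hc => congrArg Subtype.val hc.eq, fun hc => Subtype.ext hc.eq⟩
  have ho : ∀ a b : X, orderOf (a * b) = orderOf ((a : G) * b) := fun a b => (Subgroup.orderOf_coe (a * b)).symm
  have hD₀ : IsOddTranspositionSet D₀ := by
    refine ⟨⟨fun a ha => ?_, ?_, ?_, fun a ha b hb => ?_⟩, fun a ha b hb => ?_⟩
    · rw [← Subgroup.orderOf_coe]; exact hD.1.orderOf_eq _ (hsub _ ha)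
    · rw [eq_top_iff]
      intro g _
      have hg : (g : G) ∈ closure (Subtype.val '' D₀) := by
        have hle : X ≤ closure (Subtype.val '' D₀) := by
          conv_lhs => rw [hX]
          rw [closure_le]
          rintro e (he | rfl)
          · exact Subgroup.subset_closure ⟨⟨e, hgenX (Or.inl he)⟩, hBC e he, rfl⟩
          · exact Subgroup.subset_closure ⟨yX, self_mem_clsIn X _, rfl⟩
        exact hle g.2
      rw [show Subtype.val '' D₀ = X.subtype '' D₀ from rfl, ← MonoidHom.map_closure] at hg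
      obtain ⟨g', hg', e⟩ := hg
      rwa [← Subtype.ext (show (g' : G) = (g : G) from e)]
    · intro a ha g
      exact clsIn_conj ha g.2
    · rcases hD.1.pair _ (hsub _ ha) _ (hsub _ hb) with h | h | h
      · exact Or.inl (Subtype.ext h)
      · exact Or.inr (Or.inl (ho a b ▸ h))
      · exact absurd h.1 (hD.2 _ (hsub _ ha) _ (hsub _ hb))
    · rw [ho]; exact hD.2 _ (hsub _ ha) _ (hsub _ hb)
  have one : ∀ a ∈ D₀, ∀ b ∈ D₀, ∃ g : X, b = g * a * g⁻¹ := by
    rintro a ⟨g, hg, ea⟩ b ⟨g', hg', eb⟩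
    refine ⟨⟨g' * g⁻¹, mul_mem hg' (inv_mem hg)⟩, Subtype.ext ?_⟩
    show (b : G) = g' * g⁻¹ * (a : G) * (g' * g⁻¹)⁻¹
    rw [ea, eb]; group
  have hcD : cX ∈ D₀ := hBC c hc
  have hyD : yX ∈ D₀ := self_mem_clsIn X y
  set π := QuotientGroup.mk' (pCore 2 X) with hπ
  have h2 : IsPGroup 2 (pCore 2 X) := CfsgLib.Core.isPGroup_pCore 2 X
  have hk : ∀ a ∈ D₀, ∀ b ∈ D₀, Odd (orderOf (a * b)) → π (a * b) = 1 → Commute a b := by
    intro a ha b hb ho e
    obtain ⟨k, hk⟩ := h2 ⟨a * b, (QuotientGroup.eq_one_iff _).1 e⟩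
    have : a * b = 1 := RootInv.eq_one_of_odd_of_pow ho (congrArg Subtype.val hk)
    rw [show a = b by rw [eq_inv_of_mul_eq_one_left this, inv_eq hD₀ hb]]
  have hclass : ∀ b (hb : b ∈ B), (⟨b, hgenX (Or.inl hb)⟩ : X) ∈ sameCommutingClass D₀ cX := fun b hb =>
    mem_class.2 ⟨hBC b hb, fun z hz => by rw [hcomm, hcomm]; exact hblock b hb z hz⟩
  have gen : closure (sameCommutingClass D₀ cX ∪ {yX}) = ⊤ := by
    rw [eq_top_iff]
    intro g _
    have hle : X ≤ (closure (sameCommutingClass D₀ cX ∪ {yX})).map X.subtype := by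
      conv_lhs => rw [hX]
      rw [closure_le]
      rintro e (he | rfl)
      · exact ⟨_, Subgroup.subset_closure (Or.inl (hclass e he)), rfl⟩
      · exact ⟨yX, Subgroup.subset_closure (Or.inr rfl), rfl⟩
    obtain ⟨g', hg', e⟩ := hle g.2
    rwa [← Subtype.ext (show (g' : G) = (g : G) from e)]
  have hcy : ¬ Commute cX yX := fun hh => hBy c hc (hcomm.1 hh)
  obtain ⟨f, hf, hfc, hcf⟩ := htri
  have two : ∃ e ∈ sameCommutingClass D₀ cX, π e ≠ π cX := by
    refine ⟨_, hclass f hf, fun e => ?_⟩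
    have hπf : π (cX * ⟨f, hgenX (Or.inl hf)⟩) = 1 := by
      rw [map_mul, e, ← map_mul, sq_one hD₀ hcD, map_one]
    have hmem : (⟨c * f, hgenX (Or.inl hcf)⟩ : X) ∈ D₀ := hBC _ hcf
    refine hBy _ hcf (hcomm.1 ((commute_map_iff π hD₀ hk hmem hyD).1 ?_))
    rw [show (⟨c * f, hgenX (Or.inl hcf)⟩ : X) = cX * ⟨f, hgenX (Or.inl hf)⟩ from rfl, hπf]
    exact Commute.one_left _
  have hP := pair_map π hD₀ (QuotientGroup.mk'_surjective _) hk one hcD hyD hcy gen
    (CfsgLib.Core.pCore_quotient_pCore 2 X) two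
  have htype : TypeL (X ⧸ pCore 2 X) ∨ Cfsg.Lie.IsoSuzuki (X ⧸ pCore 2 X) := by
    rcases listed_of_pair hP CfsgLib.AschCrit.mainProved with ⟨F, _, _, _, -, ⟨i⟩⟩ | hs
    · obtain ⟨ep⟩ := CfsgLib.Recog.AffineTwo.psl_equiv_sl F
      exact Or.inl ((typeL_sl (F := F)).of_equiv (i.trans ep))
    · exact Or.inr hs
  refine ⟨⟨hsub, hmemX, fun a ha g hg => clsIn_conj ha hg, QuotientGroup.mk'_surjective _,
    htype.elim (fun h => h.2.2) (fun h => (typeS_of_iso h).2.2.1), fun a ha b hb e => ?_, fun a ha e => ?_⟩, htype⟩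
  · refine (hcomm (a := ⟨a, hmemX a ha⟩) (b := ⟨b, hmemX b hb⟩)).1 ((commute_map_iff π hD₀ hk ha hb).1 ?_)
    rw [e]
  · obtain ⟨g, hg⟩ := one ⟨a, hmemX a ha⟩ ha cX hcD
    refine hcy ((commute_map_iff π hD₀ hk hcD hyD).1 ?_)
    rw [hg, map_mul, map_mul, e, mul_one, ← map_mul, mul_inv_cancel, map_one]
    exact Commute.one_left _

/-- **The group of one block and one member outside**, by type. -/
theorem rk_of_block (hG : Deg D) {B : Set G} {c y : G} (hc : c ∈ B) (hB : B ⊆ D) (hy : y ∈ D)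
    (hBy : ∀ b ∈ B, ¬ Commute b y) (htri : ∃ f ∈ B, f ≠ c ∧ c * f ∈ B) {X : Subgroup G}
    (hX : X = closure (B ∪ {y}))
    (hblock : ∀ b ∈ B, ∀ v ∈ clsIn X y, (Commute v b ↔ Commute v c)) :
    Rk D X (clsIn X y) (QuotientGroup.mk' (pCore 2 X)) ∧ (TypeL (X ⧸ pCore 2 X) ∨ TypeS (X ⧸ pCore 2 X)) :=
  (hG.rk_of_block_iso hc hB hy hBy htri hX hblock).imp_right fun h => h.imp_right typeS_of_iso

end Deg

end CfsgLib.ThreeTrans.OddPair
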