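import Cfsg.Agent.Lib.ThreeTrans.OddPair.Transfer
import Cfsg.Agent.Lib.ThreeTrans.OddPair.Unital
import Cfsg.Agent.Lib.ThreeTrans.RootInvGraph
import Cfsg.Agent.Lib.Invol.AschCrit.Wrapper
import Cfsg.Agent.Lib.Bender.Gen.Final
import Cfsg.Agent.Lib.Bender.Gen.Structure

/-!
Owner: helper5. The stabiliser of the class `E` of a pair is a strongly embedded subgroup of the simple quotient, so
that quotient is `L₂(q)` or a Suzuki group.
-/

set_option autoImplicit false
set_option linter.unusedSectionVars false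
set_option linter.style.haveILetI false

namespace CfsgLib.ThreeTrans.OddPair

open Subgroup Cfsg

universe u

variable {G : Type u} [Group G]

namespace Pair

variable {D E : Set G} {d x : G} (h : Pair D E d x)

/-- The stabiliser of `E`. -/
def stab (h : Pair D E d x) : Subgroup G where
  carrier := {g | ∀ e ∈ E, g * e * g⁻¹ ∈ E ∧ g⁻¹ * e * g ∈ E}
  one_mem' := fun e he => by simp [he]
  mul_mem' := by
    intro a b ha hb e he
    refine ⟨?_, ?_⟩
    · rw [show a * b * e * (a * b)⁻¹ = a * (b * e * b⁻¹) * a⁻¹ by group]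
      exact (ha _ (hb e he).1).1
    · rw [show (a * b)⁻¹ * e * (a * b) = b⁻¹ * (a⁻¹ * e * a) * b by group]
      exact (hb _ (ha e he).2).2
  inv_mem' := by
    intro a ha e he
    rw [inv_inv]
    exact ⟨(ha e he).2, (ha e he).1⟩

variable [Finite G]
include h

theorem mem_stab {g a : G} (ha : a ∈ E) (hg : g * a * g⁻¹ ∈ E) : g ∈ h.stab := by
  have cj : ∀ (g u v : G), Commute u v → Commute (g * u * g⁻¹) (g * v * g⁻¹) := fun g u v huv => by
    simpa using huv.map (MulAut.conj g).toMonoidHom
  have one_way : ∀ g a : G, a ∈ E → g * a * g⁻¹ ∈ E → ∀ e ∈ E, g * e * g⁻¹ ∈ E := by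
    intro g a ha hg e he
    refine h.mem_E_of_commute (h.hD.1.conj_mem e (h.mem_D he) g) ?_
    exact ((h.mem_iff.1 hg).2 _ (h.hD.1.conj_mem e (h.mem_D he) g)).1 (cj g e a (h.commute_E he ha))
  intro e he
  refine ⟨one_way g a ha hg e he, ?_⟩
  have := one_way g⁻¹ (g * a * g⁻¹) hg (by simpa [mul_assoc] using ha) e he
  simpa using this

theorem commute_x {e : G} (he : e ∈ E) {f : G} (hf : f ∈ D) (hfe : Commute f e) : f ∈ E :=
  h.mem_E_of_commute hf (((h.mem_iff.1 he).2 f hf).1 hfe)

theorem stab_ne_top : h.stab ≠ ⊤ := by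
  intro htop
  obtain ⟨g, hg⟩ := h.one d h.hd x h.hx
  exact h.hdx (h.commute_d (hg ▸ (show g ∈ h.stab from htop ▸ mem_top g) d h.d_mem |>.1)).symm

/-- `E` with the identity is a subgroup. -/
theorem exists_group : ∃ U : Subgroup G, (U : Set G) = insert 1 E := by
  refine ⟨{ carrier := insert 1 E, one_mem' := Or.inl rfl, mul_mem' := ?_, inv_mem' := ?_ }, rfl⟩
  · rintro a b (rfl | ha) (rfl | hb)
    · exact Or.inl (one_mul 1)
    · exact Or.inr (by rwa [one_mul])
    · exact Or.inr (by rwa [mul_one])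
    · by_cases hab : a = b
      · exact Or.inl (by rw [hab, sq_one h.hD (h.mem_D hb)])
      · exact Or.inr (h.mul_mem_E ha hb hab)
  · rintro a (rfl | ha)
    · exact Or.inl inv_one
    · exact Or.inr (by rwa [inv_eq h.hD (h.mem_D ha)])

/-- The number of members is odd. -/
theorem odd_card : Odd (Nat.card D) := by
  classical
  haveI : Fact (Nat.Prime 2) := ⟨Nat.prime_two⟩
  haveI : Fintype G := Fintype.ofFinite G
  have hdd := sq_one h.hD h.hd
  have back : ∀ a : G, d * (d * a * d) * d = a := fun a => by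
    simp only [← mul_assoc, hdd, one_mul]; rw [mul_assoc, hdd, mul_one]
  let σ : Equiv.Perm D :=
    { toFun := fun a => ⟨d * a * d, conj_mem h.hD a.2 hdd⟩
      invFun := fun a => ⟨d * a * d, conj_mem h.hD a.2 hdd⟩
      left_inv := fun a => Subtype.ext (back a)
      right_inv := fun a => Subtype.ext (back a) }
  have hσ : σ ^ (2 ^ 1) = 1 := by
    rw [pow_one, sq]; exact Equiv.ext fun a => Subtype.ext (back a)
  have hmod := Equiv.Perm.card_compl_support_modEq hσ
  have hfix : σ.supportᶜ.card = Nat.card E := by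
    rw [← Nat.card_eq_finsetCard]
    refine Nat.card_congr
      { toFun := fun a => ⟨(a.1 : G), ?_⟩
        invFun := fun e => ⟨⟨e.1, h.mem_D e.2⟩, ?_⟩
        left_inv := fun a => rfl
        right_inv := fun e => rfl }
    · have ha := a.2
      rw [Finset.mem_compl, Equiv.Perm.mem_support, not_not] at ha
      refine h.mem_E_of_commute a.1.2 ?_
      have ha' : d * (a.1 : G) * d = a.1 := congrArg Subtype.val ha
      show (a.1 : G) * d = d * (a.1 : G)
      conv_lhs => rw [← ha']
      rw [mul_assoc, hdd, mul_one]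
    · rw [Finset.mem_compl, Equiv.Perm.mem_support, not_not]
      refine Subtype.ext (show d * e.1 * d = e.1 from ?_)
      rw [← (h.commute_d e.2).eq, mul_assoc, hdd, mul_one]
  obtain ⟨U, hU⟩ := h.exists_group
  have hUE : Nat.card U = Nat.card E + 1 := by
    have h1E : (1 : G) ∉ E := fun h1 => ne_one h.hD (h.mem_D h1) rfl
    rw [show Nat.card U = (U : Set G).ncard from Nat.card_coe_set_eq _, hU,
      Set.ncard_insert_of_notMem h1E, Nat.card_coe_set_eq]
  have hUeven : Even (Nat.card U) := by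
    have hdU : d ∈ U := by
      show d ∈ (U : Set G)
      rw [hU]; exact Or.inr h.d_mem
    refine even_iff_two_dvd.2 ?_
    rw [← h.hD.1.orderOf_eq d h.hd]
    exact orderOf_dvd_natCard _ hdU
  rw [hfix, ← Nat.card_eq_fintype_card] at hmod
  rw [Nat.odd_iff]
  rw [Nat.ModEq] at hmod
  rw [hUE, Nat.even_iff] at hUeven
  omega

/-- `d` is central in a Sylow 2-subgroup. -/
theorem central : ∃ S : Sylow 2 G, d ∈ S ∧ ∀ s ∈ S, Commute s d := by
  classical
  haveI : Fact (Nat.Prime 2) := ⟨Nat.prime_two⟩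
  have horb : Nat.card D = (centralizer ({d} : Set G)).index := by
    have e : D = (MulAction.orbit (ConjAct G) d) := by
      ext a
      constructor
      · intro ha
        obtain ⟨g, rfl⟩ := h.one d h.hd a ha
        exact ⟨ConjAct.toConjAct g, by simp [ConjAct.smul_def]⟩
      · rintro ⟨g, rfl⟩
        show g • d ∈ D
        rw [ConjAct.smul_def]
        exact h.hD.1.conj_mem d h.hd _
    rw [e, Subgroup.centralizer_eq_comap_stabilizer, Nat.card_coe_set_eq, ← MulAction.index_stabilizer]
    exact (Subgroup.index_comap_of_surjective (MulAction.stabilizer (ConjAct G) d)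
      (f := (ConjAct.toConjAct (G := G)).toMonoidHom) ConjAct.toConjAct.surjective).symm
  obtain ⟨P⟩ := (inferInstance : Nonempty (Sylow 2 (centralizer ({d} : Set G))))
  have hi : ¬ 2 ∣ (P.map (centralizer ({d} : Set G)).subtype).index := by
    rw [index_map, ker_subtype, sup_bot_eq, range_subtype]
    intro h2
    rcases Nat.prime_two.dvd_mul.1 h2 with h2 | h2
    · exact P.not_dvd_index h2
    · exact Nat.not_even_iff_odd.2 h.odd_card (even_iff_two_dvd.2 (horb ▸ h2))
  refine ⟨(P.2.map _).toSylow hi, ?_, ?_⟩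
  · set dc : centralizer ({d} : Set G) := ⟨d, mem_centralizer_singleton_iff.2 rfl⟩
    refine ⟨dc, ?_, rfl⟩
    have hcen : ∀ c : centralizer ({d} : Set G), c * dc = dc * c := fun c =>
      Subtype.ext (mem_centralizer_singleton_iff.1 c.2)
    haveI : (zpowers dc).Normal := ⟨fun n hn g => by
      obtain ⟨i, rfl⟩ := mem_zpowers_iff.1 hn
      rw [show g * dc ^ i * g⁻¹ = dc ^ i from by
        rw [((show Commute g dc from hcen g).zpow_right i).eq, mul_inv_cancel_right]]
      exact hn⟩
    have hz : IsPGroup 2 (zpowers dc) := IsPGroup.of_card (n := 1) (by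
      rw [Nat.card_zpowers, pow_one, ← Subgroup.orderOf_coe]; exact h.hD.1.orderOf_eq d h.hd)
    have hsup := P.3 (P.2.to_sup_of_normal_right hz) le_sup_left
    exact hsup ▸ mem_sup_right (mem_zpowers dc)
  · rintro s ⟨c, -, rfl⟩
    exact mem_centralizer_singleton_iff.1 c.2

theorem connected : IsConnectedSet (OddAdj D) D := by
  have adj : ∀ a ∈ D, ∀ b ∈ D, ¬ Commute a b → OddAdj D a b := fun a ha b hb hn =>
    ⟨ha, hb, fun e => hn (e ▸ Commute.refl a), odd_of h.hD ha hb hn⟩
  intro a ha b hb
  by_cases hc : Commute a b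
  · obtain ⟨g, hg⟩ := h.one d h.hd a ha
    set z := g * x * g⁻¹ with hz
    have hzD : z ∈ D := h.hD.1.conj_mem x h.hx g
    have hb' : g⁻¹ * b * g ∈ E := by
      refine h.mem_E_of_commute (by simpa using h.hD.1.conj_mem b hb g⁻¹) ?_
      have h2 := hc.symm.map (MulAut.conj g⁻¹).toMonoidHom
      rw [hg] at h2
      simpa [mul_assoc] using h2
    have h1 : ¬ Commute a z := fun h' => h.hdx (by
      have h2 := h'.map (MulAut.conj g⁻¹).toMonoidHom
      rw [hg, hz] at h2
      simpa [mul_assoc] using h2)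
    have h3 : ¬ Commute z b := fun h' => h.not_commute_x hb' (by
      have h2 := h'.symm.map (MulAut.conj g⁻¹).toMonoidHom
      rw [hz] at h2
      simpa [mul_assoc] using h2)
    exact (Relation.ReflTransGen.single (adj a ha z hzD h1)).trans
      (Relation.ReflTransGen.single (adj z hzD b hb h3))
  · exact Relation.ReflTransGen.single (adj a ha b hb hc)

theorem nonempty_products : (D ∩ commutingProducts D).Nonempty := by
  obtain ⟨e, he, hne⟩ := h.two
  have hc := h.mul_mem_E h.d_mem he (Ne.symm hne)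
  exact ⟨d * e, h.mem_D hc, d, h.hd, e, h.mem_D he, (h.commute_d he).symm.eq,
    ne_one h.hD (h.mem_D hc), rfl⟩

/-- In the simple case the group is `L₂(q)` or a Suzuki group. -/
theorem family_simple [IsSimpleGroup G] (hmain : CfsgLib.AschCrit.Main.{u}) :
    (∃ (F : Type) (_ : Field F) (_ : Fintype F), CharP F 2 ∧ 4 ≤ Fintype.card F ∧
      Nonempty (G ≃* Matrix.SpecialLinearGroup (Fin 2) F)) ∨ Cfsg.Lie.IsoSuzuki G := by
  have hse := CfsgLib.AschCrit.stronglyEmbedded_of_main hmain h.stab h.stab_ne_top d (h.hD.1.orderOf_eq d h.hd)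
    (h.mem_stab h.d_mem (by simpa using h.d_mem)) h.central
    (fun g hg => h.mem_stab h.d_mem (by
      have hzD := h.hD.1.conj_mem d h.hd g
      set z := g * d * g⁻¹ with hz
      by_contra hzE
      have hzd : ¬ Commute z d := fun hc => hzE (h.mem_E_of_commute hzD hc)
      have h1 := (hg d h.d_mem).1
      rw [inv_eq h.hD hzD] at h1
      exact not_commute_conj h.hD hzD h.hd hzd (h.commute_d h1)))
    (fun g hc hne k hk => by
      have hzE := h.mem_E_of_commute (h.hD.1.conj_mem d h.hd g) hc.symm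
      refine h.mem_stab (h.mul_mem_E h.d_mem hzE (Ne.symm hne)) ?_
      rw [(mem_centralizer_singleton_iff.1 hk), mul_inv_cancel_right]
      exact h.mul_mem_E h.d_mem hzE (Ne.symm hne))
  obtain ⟨e, he, hne⟩ := h.two
  have hfam := CfsgLib.Bender.family_of_simple CfsgLib.Bender.benderGen hse
    ⟨d, h.mem_stab h.d_mem (by simpa using h.d_mem), e,
      h.mem_stab he (by simpa using he), h.hD.1.orderOf_eq d h.hd, h.hD.1.orderOf_eq e (h.mem_D he),
      Ne.symm hne, (h.commute_d he).symm.eq⟩
  rcases hfam with hL | ⟨F, _, _, q, hq, hq4, hF, ⟨i⟩⟩ | hS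
  · exact Or.inl hL
  · exact absurd h.gen (closure_ne_top_psu hq hq4 hF i (sq_one h.hD h.hd) (ne_one h.hD h.hd)
      (sq_one h.hD h.hx) E fun a ha => ⟨sq_one h.hD (h.mem_D ha), (h.commute_d ha).eq⟩)
  · exact Or.inr hS

end Pair

end CfsgLib.ThreeTrans.OddPair
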