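import Cfsg.Agent.Lib.ThreeTrans.OddPair.Blocks

/-!
Owner: helper5. Images of a pair: a homomorphism that kills no odd product of two members keeps commutation, the
class of `d` and the property of being a set of odd transpositions.
-/

set_option autoImplicit false
set_option linter.unusedSectionVars false
set_option linter.style.haveILetI false

namespace CfsgLib.ThreeTrans.OddPair

open Subgroup Cfsg

universe u v

variable {G : Type u} [Group G] {Q : Type v} [Group Q] {D : Set G}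

/-- Two members with a product of odd order are conjugate. -/
theorem exists_conj (hD : IsOddTranspositionSet D) {a b : G} (ha : a ∈ D) (hb : b ∈ D)
    (h : ¬ Commute a b) : ∃ g : G, b = g * a * g⁻¹ := by
  obtain ⟨k, hk⟩ := odd_of hD ha hb h
  set t := a * b with ht
  have htt : t ^ (2 * k + 1) = 1 := by rw [← hk, pow_orderOf_eq_one]
  have hat : a * t * a⁻¹ = t⁻¹ := by
    rw [ht, inv_eq hD ha, mul_inv_rev, inv_eq hD ha, inv_eq hD hb, ← mul_assoc a a b, sq_one hD ha, one_mul]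
  have hflip : a * t ^ k * a⁻¹ = (t ^ k)⁻¹ := by rw [← conj_pow, hat, inv_pow]
  refine ⟨a * (t ^ k)⁻¹, ?_⟩
  have e1 : (t ^ k)⁻¹ * a * t ^ k = a * t ^ (2 * k) := by
    rw [← hflip]
    simp only [mul_assoc, inv_mul_cancel_left]
    rw [← pow_add, two_mul]
  have e2 : t ^ (2 * k) = t⁻¹ := eq_inv_of_mul_eq_one_left (by rw [← pow_succ, htt])
  calc b = a * (a * t⁻¹) * a⁻¹ := by
        rw [ht, mul_inv_rev, inv_eq hD ha, inv_eq hD hb, ← mul_assoc a a, sq_one hD ha, one_mul,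
          mul_assoc, sq_one hD ha, mul_one]
    _ = a * ((t ^ k)⁻¹ * a * t ^ k) * a⁻¹ := by rw [e1, e2]
    _ = _ := by group

variable (f : G →* Q)

/-- Commutation of two members is read off the image. -/
theorem commute_map_iff (hD : IsOddTranspositionSet D)
    (hk : ∀ a ∈ D, ∀ b ∈ D, Odd (orderOf (a * b)) → f (a * b) = 1 → Commute a b)
    {a b : G} (ha : a ∈ D) (hb : b ∈ D) : Commute (f a) (f b) ↔ Commute a b := by
  refine ⟨fun hc => by_contra fun hn => hn ?_, fun hc => hc.map f⟩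
  have ho := odd_of hD ha hb hn
  refine hk a ha b hb ho ?_
  have h2 : f (a * b) ^ 2 = 1 := by
    rw [map_mul, hc.mul_pow, sq, sq, ← map_mul, ← map_mul, sq_one hD ha, sq_one hD hb, map_one, mul_one]
  have h1 : orderOf (f (a * b)) ∣ Nat.gcd 2 (orderOf (a * b)) :=
    Nat.dvd_gcd (orderOf_dvd_of_pow_eq_one h2) (orderOf_map_dvd f _)
  rw [Nat.coprime_two_left.2 ho, Nat.dvd_one, orderOf_eq_one_iff] at h1
  exact h1

/-- The image of the set. -/
theorem image_oddSet (hD : IsOddTranspositionSet D) (hf : Function.Surjective f)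
    (hne : ∀ a ∈ D, f a ≠ 1) : IsOddTranspositionSet (f '' D) := by
  have hodd : ∀ a ∈ D, ∀ b ∈ D, Commute (f a) (f b) ∨ Odd (orderOf (f a * f b)) := by
    intro a ha b hb
    by_cases hc : Commute a b
    · exact Or.inl (hc.map f)
    · exact Or.inr (by rw [← map_mul]; exact (odd_of hD ha hb hc).of_dvd_nat (orderOf_map_dvd f _))
  have hsq : ∀ a ∈ D, f a * f a = 1 := fun a ha => by rw [← map_mul, sq_one hD ha, map_one]
  refine ⟨⟨?_, ?_, ?_, ?_⟩, ?_⟩
  · rintro _ ⟨a, ha, rfl⟩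
    exact orderOf_eq_prime (by rw [sq, hsq a ha]) (hne a ha)
  · rw [← MonoidHom.map_closure, hD.1.generates, map_top_of_surjective f hf]
  · rintro _ ⟨a, ha, rfl⟩ g
    obtain ⟨g, rfl⟩ := hf g
    exact ⟨g * a * g⁻¹, hD.1.conj_mem a ha g, by simp⟩
  · rintro _ ⟨a, ha, rfl⟩ _ ⟨b, hb, rfl⟩
    rcases hodd a ha b hb with h | h
    · exact Or.inl h
    · exact Or.inr (Or.inl h)
  · rintro _ ⟨a, ha, rfl⟩ _ ⟨b, hb, rfl⟩ h4
    rcases hodd a ha b hb with h | h
    · have h2 : orderOf (f a * f b) ∣ 2 := orderOf_dvd_of_pow_eq_one (by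
        rw [h.mul_pow, sq, sq, hsq a ha, hsq b hb, mul_one])
      rw [h4] at h2
      exact absurd (Nat.le_of_dvd two_pos h2) (by norm_num)
    · rw [h4] at h; exact absurd h (by decide)

/-- The class of an image. -/
theorem image_class (hD : IsOddTranspositionSet D)
    (hk : ∀ a ∈ D, ∀ b ∈ D, Odd (orderOf (a * b)) → f (a * b) = 1 → Commute a b)
    {d : G} (hd : d ∈ D) :
    f '' sameCommutingClass D d = sameCommutingClass (f '' D) (f d) := by
  have iff : ∀ a ∈ D, (commutingMembers D d = commutingMembers D a ↔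
      commutingMembers (f '' D) (f d) = commutingMembers (f '' D) (f a)) := by
    intro a ha
    constructor <;> intro h <;> ext z
    · constructor
      · rintro ⟨⟨y, hy, rfl⟩, hc⟩
        exact ⟨⟨y, hy, rfl⟩, (commute_map_iff f hD hk hy ha).2
          ((Set.ext_iff.1 h y).1 ⟨hy, (commute_map_iff f hD hk hy hd).1 hc⟩).2⟩
      · rintro ⟨⟨y, hy, rfl⟩, hc⟩
        exact ⟨⟨y, hy, rfl⟩, (commute_map_iff f hD hk hy hd).2
          ((Set.ext_iff.1 h y).2 ⟨hy, (commute_map_iff f hD hk hy ha).1 hc⟩).2⟩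
    · constructor
      · rintro ⟨hy, hc⟩
        exact ⟨hy, (commute_map_iff f hD hk hy ha).1
          ((Set.ext_iff.1 h (f z)).1 ⟨⟨z, hy, rfl⟩, (commute_map_iff f hD hk hy hd).2 hc⟩).2⟩
      · rintro ⟨hy, hc⟩
        exact ⟨hy, (commute_map_iff f hD hk hy hd).1
          ((Set.ext_iff.1 h (f z)).2 ⟨⟨z, hy, rfl⟩, (commute_map_iff f hD hk hy ha).2 hc⟩).2⟩
  ext y
  constructor
  · rintro ⟨a, ⟨ha, he⟩, rfl⟩
    exact ⟨⟨a, ha, rfl⟩, (iff a ha).1 he⟩
  · rintro ⟨⟨a, ha, rfl⟩, he⟩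
    exact ⟨a, ⟨ha, (iff a ha).2 he⟩, rfl⟩

/-- The image of a pair. -/
theorem pair_map (hD : IsOddTranspositionSet D) (hf : Function.Surjective f)
    (hk : ∀ a ∈ D, ∀ b ∈ D, Odd (orderOf (a * b)) → f (a * b) = 1 → Commute a b)
    (one : ∀ a ∈ D, ∀ b ∈ D, ∃ g : G, b = g * a * g⁻¹) {d x : G} (hd : d ∈ D) (hx : x ∈ D)
    (hdx : ¬ Commute d x) (gen : closure (sameCommutingClass D d ∪ {x}) = ⊤)
    (hO : pCore 2 Q = ⊥) (two : ∃ e ∈ sameCommutingClass D d, f e ≠ f d) :
    Pair (f '' D) (f '' sameCommutingClass D d) (f d) (f x) := by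
  have hne : ∀ a ∈ D, f a ≠ 1 := fun a ha e => by
    obtain ⟨g, rfl⟩ := one a ha d hd
    exact hdx ((commute_map_iff f hD hk hd hx).1 (by simp [e]))
  refine ⟨image_oddSet f hD hf hne, ?_, ⟨d, hd, rfl⟩, image_class f hD hk hd, ⟨x, hx, rfl⟩,
    fun hc => hdx ((commute_map_iff f hD hk hd hx).1 hc), ?_, hO, ?_⟩
  · rintro _ ⟨a, ha, rfl⟩ _ ⟨b, hb, rfl⟩
    obtain ⟨g, rfl⟩ := one a ha b hb
    exact ⟨f g, by simp⟩
  · rw [← Set.image_singleton, ← Set.image_union, ← MonoidHom.map_closure, gen,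
      map_top_of_surjective f hf]
  · obtain ⟨e, he, hne'⟩ := two
    exact ⟨f e, ⟨e, he, rfl⟩, hne'⟩

end CfsgLib.ThreeTrans.OddPair
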