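import Cfsg.Agent.Lib.ThreeTrans.OddPair.Transfer

/-!
Owner: helper5. A conjugacy class of odd transpositions with products: two commuting members and one member
commuting with neither; the members commuting with a member inside the group of its class and one more member.
-/

set_option autoImplicit false
set_option linter.unusedSectionVars false
set_option linter.style.haveILetI false

namespace CfsgLib.ThreeTrans.OddPair

open Subgroup Cfsg

variable {G : Type*} [Group G] {D : Set G}

local notation "E[" v "]" => sameCommutingClass D v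

theorem mem_class {v e : G} : e ∈ E[v] ↔ e ∈ D ∧ ∀ z ∈ D, (Commute z e ↔ Commute z v) := by
  refine ⟨fun he => ⟨he.1, fun z hz => ?_⟩, fun he => ⟨he.1, ?_⟩⟩
  · have := Set.ext_iff.1 he.2 z
    exact ⟨fun hc => (this.2 ⟨hz, hc⟩).2, fun hc => (this.1 ⟨hz, hc⟩).2⟩
  · ext z
    exact ⟨fun hc => ⟨hc.1, (he.2 z hc.1).2 hc.2⟩, fun hc => ⟨hc.1, (he.2 z hc.1).1 hc.2⟩⟩

theorem self_mem_class {v : G} (hv : v ∈ D) : v ∈ E[v] := ⟨hv, rfl⟩

theorem class_eq {v e : G} (he : e ∈ E[v]) : E[e] = E[v] := by
  ext z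
  exact ⟨fun hz => ⟨hz.1, he.2.trans hz.2⟩, fun hz => ⟨hz.1, he.2.symm.trans hz.2⟩⟩

theorem class_iff {v e z : G} (he : e ∈ E[v]) (hz : z ∈ D) : Commute z e ↔ Commute z v :=
  (mem_class.1 he).2 z hz

theorem class_commute {v e f : G} (hv : v ∈ D) (he : e ∈ E[v]) (hf : f ∈ E[v]) : Commute e f :=
  (class_iff hf he.1).2 ((class_iff he hv).2 (Commute.refl v)).symm

theorem class_conj (hD : IsOddTranspositionSet D) {v e : G} (g : G) (he : e ∈ E[v]) :
    g * e * g⁻¹ ∈ E[g * v * g⁻¹] := by
  refine mem_class.2 ⟨hD.1.conj_mem e he.1 g, fun z hz => ?_⟩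
  have hz' : g⁻¹ * z * g ∈ D := by simpa using hD.1.conj_mem z hz g⁻¹
  have key : ∀ u : G, Commute z (g * u * g⁻¹) ↔ Commute (g⁻¹ * z * g) u := fun u => by
    constructor <;> intro h
    · simpa [mul_assoc] using h.map (MulAut.conj g⁻¹).toMonoidHom
    · simpa [mul_assoc] using h.map (MulAut.conj g).toMonoidHom
  rw [key, key]
  exact class_iff he hz'

theorem conj_iff {u v : G} (g : G) : Commute (g * u * g⁻¹) (g * v * g⁻¹) ↔ Commute u v :=
  ⟨fun h => by simpa [mul_assoc] using h.map (MulAut.conj g⁻¹).toMonoidHom,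
    fun h => by simpa using h.map (MulAut.conj g).toMonoidHom⟩

theorem mid_swap (hD : IsOddTranspositionSet D) {a b : G} (ha : a ∈ D) (hb : b ∈ D) (h : ¬ Commute a b) :
    mid a b ∈ D ∧ mid a b * a * mid a b = b ∧ mid a b * b * mid a b = a ∧
      mid a b ∈ closure ({a, b} : Set G) := by
  obtain ⟨k, hk⟩ := odd_of hD ha hb h
  have haa := sq_one hD ha
  have hai := inv_eq hD ha
  rw [mid, show (orderOf (a * b) - 1) / 2 = k by omega]
  set t := a * b with htdef
  set m := t ^ k * a with hm
  have ht : t ^ (2 * k + 1) = 1 := by rw [← hk, pow_orderOf_eq_one]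
  have hti : a * t * a⁻¹ = t⁻¹ := by
    rw [htdef, hai, mul_inv_rev, inv_eq hD hb, hai, ← mul_assoc a a, haa, one_mul]
  have hflip : ∀ n : ℕ, a * t ^ n * a⁻¹ = (t ^ n)⁻¹ := fun n => by rw [← conj_pow, hti, inv_pow]
  have hmem : m ∈ D := by
    have e : t ^ (k * (k + 1)) * a * (t ^ (k * (k + 1)))⁻¹ = m := by
      have h2 : a * (t ^ (k * (k + 1)))⁻¹ = t ^ (k * (k + 1)) * a := by
        have := hflip (k * (k + 1))
        calc a * (t ^ (k * (k + 1)))⁻¹ = a * (a * t ^ (k * (k + 1)) * a⁻¹) := by rw [this]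
          _ = t ^ (k * (k + 1)) * a := by rw [hai, ← mul_assoc, ← mul_assoc, haa, one_mul]
      rw [mul_assoc, h2, ← mul_assoc, ← pow_add, hm,
        show k * (k + 1) + k * (k + 1) = (2 * k + 1) * k + k by ring, pow_add, pow_mul, ht, one_pow, one_mul]
    rw [← e]
    exact hD.1.conj_mem a ha _
  have hmm := sq_one hD hmem
  have h1 : m * a * m = b := by
    have e2 : t ^ (2 * k) = t⁻¹ := eq_inv_of_mul_eq_one_left (by rw [← pow_succ, ht])
    calc m * a * m = t ^ k * (a * a) * (t ^ k * a) := by rw [hm]; simp only [mul_assoc]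
      _ = t ^ (2 * k) * a := by rw [haa, mul_one, ← mul_assoc, ← pow_add, two_mul]
      _ = b := by rw [e2, htdef, mul_inv_rev, inv_eq hD hb, hai, mul_assoc, haa, mul_one]
  refine ⟨hmem, h1, ?_, ?_⟩
  · rw [← h1]
    simp only [← mul_assoc, hmm, one_mul]
    rw [mul_assoc, hmm, mul_one]
  · exact mul_mem (pow_mem (mul_mem (Subgroup.subset_closure (Set.mem_insert a _)) (Subgroup.subset_closure (Set.mem_insert_of_mem a (Set.mem_singleton b)))) k)
      (Subgroup.subset_closure (Set.mem_insert a _))

variable (D) in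
/-- The setting: one class with products. -/
structure Deg : Prop where
  hD : IsOddTranspositionSet D
  one : ∀ a ∈ D, ∀ b ∈ D, ∃ g : G, b = g * a * g⁻¹
  tri : ∀ c ∈ D, ∃ f ∈ E[c], f ≠ c ∧ c * f ∈ E[c]

theorem Deg.mk' (hD : IsOddTranspositionSet D) (hcl : IsRootInvolutionClass D)
    (hDD : (D ∩ commutingProducts D).Nonempty) : Deg D := by
  obtain ⟨p, hp, u, hu, f, hf, huf, hne, rfl⟩ := hDD
  refine ⟨hD, hcl.2.2, fun c hc => ?_⟩
  obtain ⟨g, rfl⟩ := hcl.2.2 u hu c hc
  have hfu : u * f ∈ E[u] ∧ f ∈ E[u] := by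
    have hfE : f ∈ E[u] := mem_class.2 ⟨hf, fun z hz =>
      ⟨fun hzf => commute_of_product hD hf hu (huf ▸ hp) (Commute.symm huf) hz hzf,
        fun hzu => commute_of_product hD hu hf hp huf hz hzu⟩⟩
    refine ⟨mem_class.2 ⟨hp, fun z hz => ⟨fun hzp => ?_, fun hzu => ?_⟩⟩, hfE⟩
    · exact (commute_factors hD hu hf (fun e => hne (by rw [e, sq_one hD hf])) hz hzp).1
    · exact hzu.mul_right ((class_iff hfE hz).2 hzu)
  refine ⟨g * f * g⁻¹, class_conj hD g hfu.2, fun e => hne ?_, ?_⟩
  · have e' : f = u := mul_left_cancel (mul_right_cancel e)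
    rw [e', sq_one hD hu]
  · have := class_conj hD g hfu.1
    rwa [show g * u * g⁻¹ * (g * f * g⁻¹) = g * (u * f) * g⁻¹ by group]

namespace Deg

variable [Finite G] (hG : Deg D)
include hG

/-- The number of members commuting with a member is constant. -/
theorem class_of_subset {c v : G} (hc : c ∈ D) (hv : v ∈ D)
    (hsub : ∀ z ∈ D, Commute z c → Commute z v) : v ∈ E[c] := by
  refine mem_class.2 ⟨hv, fun z hz => ⟨fun hzv => ?_, hsub z hz⟩⟩
  obtain ⟨g, hg⟩ := hG.one c hc v hv
  have hs : commutingMembers D c ⊆ commutingMembers D v := fun y hy => ⟨hy.1, hsub y hy.1 hy.2⟩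
  have e : (fun y => g * y * g⁻¹) '' commutingMembers D c = commutingMembers D v := by
    ext y
    constructor
    · rintro ⟨y, hy, rfl⟩
      exact ⟨hG.hD.1.conj_mem y hy.1 g, by rw [hg]; exact (conj_iff g).2 hy.2⟩
    · intro hy
      refine ⟨g⁻¹ * y * g, ⟨by simpa using hG.hD.1.conj_mem y hy.1 g⁻¹, ?_⟩, by group⟩
      refine (conj_iff g).1 ?_
      rw [← hg, show g * (g⁻¹ * y * g) * g⁻¹ = y by group]
      exact hy.2
  have hcard : (commutingMembers D v).ncard ≤ (commutingMembers D c).ncard :=
    e ▸ Set.ncard_image_le (Set.toFinite _)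
  exact ((Set.eq_of_subset_of_ncard_le hs hcard).symm ▸ (⟨hz, hzv⟩ : z ∈ commutingMembers D v) :
    z ∈ commutingMembers D c).2

omit [Finite G] hG in
/-- A central involution moves a commutation. -/
theorem transfer (hD : IsOddTranspositionSet D) {u f m z v : G} (hu : u ∈ D) (hf : f ∈ D) (hm : m ∈ D)
    (hv : v ∈ D) (hz : z = u * f * m) (hzz : z * z = 1) (hzv : Commute z v) (hzu : Commute z u)
    (huf : Commute u f) (hne : z ≠ u) (hvu : Commute v u) : Commute v f := by
  by_contra hvf
  have huf' : u * f = z * m := by rw [hz, mul_assoc (u * f) m m, sq_one hD hm, mul_one]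
  have hvm : ¬ Commute v m := fun hc => hvf (by
    have h1 : Commute v (u * f) := huf' ▸ hzv.symm.mul_right hc
    have := hvu.mul_right h1
    rwa [← mul_assoc, sq_one hD hu, one_mul] at this)
  obtain ⟨k, hk⟩ := odd_of hD hv hm hvm
  have huvf : Commute u (v * f) := hvu.symm.mul_right huf
  have hzvm : Commute z (v * m) := hzv.mul_right (by
    rw [hz]
    have : m = (u * f) * z := by
      rw [hz, ← mul_assoc, show u * f * (u * f) = 1 by
        rw [mul_assoc, ← mul_assoc f, ← huf.eq, mul_assoc u f f, sq_one hD hf, mul_one, sq_one hD hu], one_mul]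
    have hzuf : Commute z (u * f * z) := by
      refine ((hzu.mul_right ?_).mul_right (Commute.refl z))
      have hzm : Commute z (u * f * m) := hz ▸ Commute.refl z
      have hmm : (u * f * m) * (u * f * m) = 1 := hz ▸ hzz
      have hm' : Commute (u * f) m := by
        show u * f * m = m * (u * f)
        have h2 : (u * f) * (u * f) = 1 := by
          rw [mul_assoc, ← mul_assoc f, ← huf.eq, mul_assoc u f f, sq_one hD hf, mul_one, sq_one hD hu]
        calc u * f * m = (u * f * m)⁻¹ := (inv_eq_of_mul_eq_one_right hmm).symm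
          _ = m * (u * f) := by
            rw [mul_inv_rev, inv_eq hD hm, inv_eq_of_mul_eq_one_right h2]
      have hu1 : Commute (u * f * m) u := hz ▸ hzu
      rw [hz]
      have h3 : Commute (u * f * m) (u * f) :=
        ((Commute.refl (u * f)).mul_left hm'.symm)
      have := hu1.mul_right h3
      rwa [← mul_assoc u u, sq_one hD hu, one_mul] at this
    rw [← this] at hzuf
    exact hz ▸ hzuf)
  have e : u * (v * f) = z * (v * m) := by
    rw [← mul_assoc, ← hvu.eq, mul_assoc, huf', ← mul_assoc, ← hzv.eq, mul_assoc]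
  have h1 : (z * (v * m)) ^ (2 * k + 1) = z := by
    rw [hzvm.mul_pow, ← hk, pow_orderOf_eq_one, mul_one, hk, pow_succ, pow_mul, sq, hzz, one_pow, one_mul]
  rw [← e, huvf.mul_pow, pow_succ u, pow_mul, sq, sq_one hD hu, one_pow, one_mul] at h1
  have h2 : (v * f) ^ (2 * k + 1) = u * z := by
    conv_rhs => rw [← h1, ← mul_assoc, sq_one hD hu, one_mul]
  have h3 : orderOf (u * z) ∣ 2 := orderOf_dvd_of_pow_eq_one (by
    rw [hzu.symm.mul_pow, sq, sq, sq_one hD hu, hzz, mul_one])
  have h4 : orderOf (u * z) ∣ orderOf (v * f) := h2 ▸ orderOf_pow_dvd _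
  have h5 := Nat.eq_one_of_dvd_coprimes (Nat.coprime_two_left.2 (odd_of hD hv hf hvf)) h3 h4
  rw [orderOf_eq_one_iff] at h5
  exact hne (by rw [eq_inv_of_mul_eq_one_right h5, inv_eq hD hu])

omit [Finite G] in
/-- **Two commuting members and one member outside both.** -/
theorem wide {d f x : G} (hd : d ∈ D) (hf : f ∈ D) (hx : x ∈ D) (hfd : Commute f d) (hdx : ¬ Commute d x)
    (hfx : ¬ Commute f x) {v : G} (hv : v ∈ D) (hvX : v ∈ closure (E[d] ∪ E[f] ∪ {x})) :
    Commute v d ↔ Commute v f := by
  have hD := hG.hD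
  by_cases hfE : f ∈ E[d]
  · exact (class_iff hfE hv).symm
  have hff := sq_one hD hf
  have hdE := self_mem_class hd
  have huD : ∀ {u}, u ∈ E[d] → u ∈ D := fun {u} hu => hu.1
  have huf : ∀ {u}, u ∈ E[d] → Commute u f := fun {u} hu => ((class_iff hu hf).2 hfd).symm
  have hux' : ∀ {u}, u ∈ E[d] → ¬ Commute u x := fun {u} hu hc => hdx ((class_iff hu hx).1 hc.symm).symm
  have hw : ∀ {u}, u ∈ E[d] → u * f * (u * f) = 1 := fun {u} hu => by
    rw [mul_assoc, ← mul_assoc f, ← (huf hu).eq, mul_assoc u f f, hff, mul_one, sq_one hD (huD hu)]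
  by_cases hall : ∀ u ∈ E[d], Commute (u * f * x * (u * f)) x
  · exfalso
    obtain ⟨b, hb, hbd, hc⟩ := hG.tri d hd
    set c := d * b with hcdef
    set x' := f * x * f with hx'def
    have hx'D : x' ∈ D := conj_mem hD hx hff
    have hux : ∀ u ∈ E[d], Commute (u * x' * u) x := by
      intro u hu
      have e : u * x' * u = u * f * x * (u * f) := by
        rw [hx'def]; conv_rhs => rw [(huf hu).eq]
        simp only [mul_assoc]; rw [← mul_assoc u f, (huf hu).eq]; simp only [mul_assoc]
      rw [e]; exact hall u hu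
    have hdd := sq_one hD hd
    have hcd : Commute c d := class_commute hd hc hdE
    have hbd' : Commute b d := class_commute hd hb hdE
    have hcy : ¬ Commute c (d * x' * d) := by
      intro hcc
      have hcx' : Commute c x' := by
        have e : d * (d * x' * d) * d = x' := by
          simp only [← mul_assoc, hdd, one_mul]; rw [mul_assoc, hdd, mul_one]
        rw [← e]
        exact (hcd.mul_right hcc).mul_right hcd
      refine hux' hc ?_
      have hcf : Commute c f := huf hc
      have e : f * x' * f = x := by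
        rw [hx'def]; simp only [← mul_assoc, hff, one_mul]; rw [mul_assoc, hff, mul_one]
      rw [← e]
      exact (hcf.mul_right hcx').mul_right hcf
    have hyD : d * x' * d ∈ D := conj_mem hD hx'D hdd
    have hm : mid (d * x' * d) (b * x' * b) = c := by
      have e : b * x' * b = c * (d * x' * d) * c := by
        have hdd' : ∀ t : G, d * (d * t) = t := fun t => by rw [← mul_assoc, hdd, one_mul]
        conv_rhs => enter [1, 1]; rw [hcdef, ← hbd'.eq]
        rw [hcdef]
        simp only [mul_assoc, hdd']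
      rw [e]
      exact mid_eq (sq_one hD hc.1) (sq_one hD hyD) (odd_of hD hyD hc.1 fun e => hcy e.symm)
    refine hux' hc ?_
    rw [← hm]
    exact (commute_mid (hux d hdE).symm (hux b hb).symm).symm
  push Not at hall
  obtain ⟨u, hu, hy⟩ := hall
  have hne : u ≠ f := fun e => hfE (e ▸ hu)
  obtain ⟨hmD, hmp, hmx⟩ := mid_spec hD hx (hw hu) hy
  set m := mid x (u * f * x * (u * f)) with hm
  obtain ⟨h1, h2⟩ := commute_factors hD (huD hu) hf hne hmD hmp
  set z := u * f * m with hz
  have hzz : z * z = 1 := by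
    rw [hz, mul_assoc, ← mul_assoc m, hmp.eq, mul_assoc (u * f) m m, sq_one hD hmD, mul_one, hw hu]
  have hzd : ∀ e ∈ E[d], Commute z e := fun e he =>
    ((class_commute hd hu he).mul_left (huf he).symm).mul_left ((class_iff he hmD).2 ((class_iff hu hmD).1 h1))
  have hzf : ∀ e ∈ E[f], Commute z e := fun e he =>
    (((class_iff he (huD hu)).2 (huf hu)).mul_left (class_commute hf (self_mem_class hf) he)).mul_left
      ((class_iff he hmD).2 h2)
  have hzX : ∀ g ∈ closure (E[d] ∪ E[f] ∪ {x}), Commute z g := by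
    intro g hg
    have hle : closure (E[d] ∪ E[f] ∪ {x}) ≤ centralizer {z} := by
      rw [closure_le]
      rintro e ((he | he) | rfl) <;> refine mem_centralizer_singleton_iff.2 ?_
      exacts [(hzd e he).symm, (hzf e he).symm, hmx.symm]
    exact (mem_centralizer_singleton_iff.1 (hle hg)).symm
  have hzu := hzd u hu
  rw [← class_iff hu hv]
  refine ⟨fun hvu => transfer hD (huD hu) hf hmD hv hz hzz (hzX v hvX) hzu (huf hu) (fun e => hux' hu ?_) hvu,
    fun hvf => transfer hD hf (huD hu) hmD hv (by rw [hz, (huf hu).eq]) hzz (hzX v hvX)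
      (hzf f (self_mem_class hf)) (huf hu).symm (fun e => hfx ?_) hvf⟩
  · rw [← e]; exact hmx
  · rw [← e]; exact hmx

/-- Members commuting with `c` inside the group of its class and one member outside have its class. -/
theorem mem_class_of_commute {c y : G} (hc : c ∈ D) (hy : y ∈ D) (hcy : ¬ Commute c y) {v : G} (hv : v ∈ D)
    (hvX : v ∈ closure (E[c] ∪ {y})) (hvc : Commute v c) : v ∈ E[c] := by
  refine hG.class_of_subset hc hv fun z hz hzc => ?_
  by_cases hzy : Commute z y
  · have hle : closure (E[c] ∪ {y}) ≤ centralizer {z} := by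
      rw [closure_le]
      rintro e (he | rfl) <;> refine mem_centralizer_singleton_iff.2 ?_
      exacts [((class_iff he hz).2 hzc).symm, hzy.symm]
    exact (mem_centralizer_singleton_iff.1 (hle hvX)).symm
  · exact ((hG.wide hc hz hy hzc hcy hzy hv
      (closure_mono (Set.union_subset_union_left _ Set.subset_union_left) hvX)).1 hvc).symm

omit [Finite G] in
/-- The group of a class and one member outside is the group of the two classes. -/
theorem closure_pair {c y : G} (hc : c ∈ D) (hy : y ∈ D) (hcy : ¬ Commute c y) :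
    closure (E[c] ∪ {y}) = closure (E[c] ∪ E[y]) := by
  refine le_antisymm (closure_mono (Set.union_subset_union_right _ (Set.singleton_subset_iff.2 (self_mem_class hy)))) ?_
  rw [closure_le, Set.union_subset_iff]
  refine ⟨fun e he => subset_closure (Or.inl he), fun e he => ?_⟩
  obtain ⟨hmD, -, h2, hm⟩ := mid_swap hG.hD hc hy hcy
  set m := mid c y
  have hmX : m ∈ closure (E[c] ∪ {y}) := Subgroup.closure_mono (k := E[c] ∪ {y}) (Set.insert_subset_iff.2
    ⟨Or.inl (self_mem_class hc), Set.singleton_subset_iff.2 (Or.inr rfl)⟩) hm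
  have hmi := inv_eq hG.hD hmD
  have hme : m * e * m ∈ E[c] := by
    have := class_conj hG.hD m he
    rwa [hmi, h2] at this
  have e1 : e = m * (m * e * m) * m := by
    have hmm := sq_one hG.hD hmD
    simp only [← mul_assoc, hmm, one_mul]; rw [mul_assoc, hmm, mul_one]
  rw [SetLike.mem_coe, e1]
  exact mul_mem (mul_mem hmX (subset_closure (Or.inl hme))) hmX

end Deg

end CfsgLib.ThreeTrans.OddPair
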